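import Groth.Agent.Lib.Helper4.ColimSections
import Groth.Agent.Lib.Lead.CechSiteSES

/-!
# Čech cohomology of a filtered colimit of abelian sheaves, for finite families with
quasi-compact iterated fibre products
-/

set_option autoImplicit false
universe u

open CategoryTheory Limits Opposite

namespace Groth.Agent.Lib.Helper4.CechColim

open Groth.Agent.Lib.Lead Groth.Agent.Lib.Helper4.ColimSections

variable {C : Type u} [SmallCategory C] [HasPullbacks C] {J : GrothendieckTopology C}
variable {Λ : Type u} [SmallCategory Λ] [IsFiltered Λ] (F : Λ ⥤ Sheaf J AddCommGrpCat.{u})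
variable {U : C} {ι : Type u} [Finite ι] (Y : ι → Over U)

/-- lifting a Čech cochain of the colimit to a stage -/
lemma exists_cochain_lift (n : ℕ)
    (hqc : ∀ x : Fin (n + 1) → ι, HasQCOverlapCovers J (gObj Y x).left)
    (c : GCochain Y (sPU (colimit F).obj) n) :
    ∃ (j : Λ) (cj : GCochain Y (sPU (F.obj j).obj) n),
      gCochainMap Y (sPUMap (colimit.ι F j).hom) n cj = c := by
  choose jx sx hsx using fun x => colimit_ι_surjective F (gObj Y x).left (hqc x) (c x)
  obtain ⟨j, hj⟩ := exists_upper jx
  refine ⟨j, fun x => (F.map (hj x).some).hom.app (op (gObj Y x).left) (sx x), ?_⟩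
  funext x
  refine Eq.trans ?_ (hsx x)
  have hw := colimit.w F (hj x).some
  have hw' : (F.map (hj x).some).hom ≫ (colimit.ι F j).hom = (colimit.ι F (jx x)).hom := by
    rw [← hw]
    rfl
  exact congrArg (fun φ => (φ.app (op (gObj Y x).left)) (sx x)) hw'

/-- a Čech cochain at a stage which dies in the colimit dies at a later stage -/
lemma exists_cochain_zero (n : ℕ)
    (hqc : ∀ x : Fin (n + 1) → ι, IsQC J (gObj Y x).left) (j : Λ)
    (cj : GCochain Y (sPU (F.obj j).obj) n)
    (h : gCochainMap Y (sPUMap (colimit.ι F j).hom) n cj = 0) :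
    ∃ (j' : Λ) (b : j ⟶ j'), gCochainMap Y (sPUMap (F.map b).hom) n cj = 0 := by
  obtain ⟨j', b, hb⟩ := exists_common j
    (fun (x : Fin (n + 1) → ι) (j' : Λ) (b : j ⟶ j') =>
      (F.map b).hom.app (op (gObj Y x).left) (cj x) = 0)
    (by
      intro x j' b j'' c' hQ
      dsimp only at hQ ⊢
      rw [Functor.map_comp]
      change (F.map c').hom.app (op (gObj Y x).left)
        ((F.map b).hom.app (op (gObj Y x).left) (cj x)) = 0
      rw [hQ, map_zero])
    (fun x => colimit_ι_eq_zero F (gObj Y x).left (hqc x) j (cj x) (congrFun h x))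
  exact ⟨j', b, funext hb⟩

/-- **Čech cohomology of a filtered colimit**: if the Čech cohomology of all `F_j` with respect
to a finite family with quasi-compact iterated fibre products vanishes in degree `n + 1`, so does
that of the colimit. -/
theorem isZero_cechH_colimit (n : ℕ)
    (hqc1 : ∀ x : Fin (n + 2) → ι, HasQCOverlapCovers J (gObj Y x).left)
    (hqc2 : ∀ x : Fin (n + 3) → ι, IsQC J (gObj Y x).left)
    (hF : ∀ j, IsZero (CohCx.cechH (F.obj j).obj Y (n + 1))) :
    IsZero (CohCx.cechH (colimit F).obj Y (n + 1)) := by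
  rw [isZero_sCechH_succ_iff]
  intro c hc
  obtain ⟨j, cj, rfl⟩ := exists_cochain_lift F Y (n + 1) hqc1 c
  have h1 : gCochainMap Y (sPUMap (colimit.ι F j).hom) (n + 2)
      (gCoboundary Y (sPU (F.obj j).obj) (n + 1) cj) = 0 := by
    rw [gCochainMap_coboundary]
    exact hc
  obtain ⟨j', b, hb⟩ := exists_cochain_zero F Y (n + 2) hqc2 j _ h1
  have h2 : gCoboundary Y (sPU (F.obj j').obj) (n + 1)
      (gCochainMap Y (sPUMap (F.map b).hom) (n + 1) cj) = 0 := by
    rw [← gCochainMap_coboundary]
    exact hb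
  obtain ⟨bj, hbj⟩ := (isZero_sCechH_succ_iff Y (F.obj j').obj n).1 (hF j') _ h2
  refine ⟨gCochainMap Y (sPUMap (colimit.ι F j').hom) n bj, ?_⟩
  rw [← gCochainMap_coboundary, hbj]
  funext x
  have hw := colimit.w F b
  have hw' : (F.map b).hom ≫ (colimit.ι F j').hom = (colimit.ι F j).hom := by
    rw [← hw]
    rfl
  exact congrArg (fun φ => (φ.app (op (gObj Y x).left)) (cj x)) hw'

end Groth.Agent.Lib.Helper4.CechColim
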