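import Mathlib.CategoryTheory.Abelian.GrothendieckCategory.EnoughInjectives
import Mathlib.CategoryTheory.Abelian.GrothendieckCategory.HasExt
import Mathlib.Algebra.Homology.DerivedCategory.Ext.ExactSequences
import Mathlib.Algebra.Homology.DerivedCategory.Ext.EnoughInjectives
import Mathlib.Algebra.Homology.ShortComplex.ExactFunctor
import Mathlib.CategoryTheory.Limits.Types.Filtered
import Mathlib.Algebra.Category.Grp.FilteredColimits

/-!
# `Ext^p(X, -)` commutes with filtered colimits (abstract dimension shifting)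

Let `𝒜` be a Grothendieck abelian category, `X : 𝒜` and `Λ` a small filtered category.  Assume
* `Hom(X, -)` commutes with `Λ`-indexed colimits (in the elementwise form `ColimProp X 0 F`), and
* for every diagram `G : Λ ⥤ 𝒜` of injective objects, `Ext^{p+1}(X, colim G) = 0`.
Then `Ext^p(X, -)` commutes with `Λ`-indexed colimits for every `p`
(`colimProp_of_zero_of_acyclic`, `preservesColimit_extFunctor_of_colimProp`).

The proof is by dimension shifting, using the *functorial* embedding into injectives given by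
Mathlib's functorial factorization (small object argument) in Grothendieck abelian categories.
-/

universe w' w v u

namespace Groth.Agent.Lib.Helper4.ExtFilteredColim

open CategoryTheory Limits Abelian MorphismProperty ZeroObject

section Inj

variable (𝒜 : Type u) [Category.{v} 𝒜] [Abelian 𝒜] [IsGrothendieckAbelian.{w} 𝒜]

/-- the functor `X ↦ (0 : X ⟶ 0)` to the arrow category. -/
noncomputable def toArrow : 𝒜 ⥤ Arrow 𝒜 where
  obj X := Arrow.mk (0 : X ⟶ 0)
  map f := Arrow.homMk f (𝟙 _) (by simp)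
  map_id X := by ext <;> simp
  map_comp f g := by ext <;> simp

/-- functorial factorization data mono / rlp(mono) -/
noncomputable def facData :
    FunctorialFactorizationData (monomorphisms 𝒜) (monomorphisms 𝒜).rlp :=
  functorialFactorizationData _ _

/-- A functorial embedding into injective objects. -/
noncomputable def Inj : 𝒜 ⥤ 𝒜 := toArrow 𝒜 ⋙ (facData 𝒜).Z

/-- The natural monomorphism `X ⟶ Inj X`. -/
noncomputable def η : 𝟭 𝒜 ⟶ Inj 𝒜 := Functor.whiskerLeft (toArrow 𝒜) (facData 𝒜).i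

instance mono_η_app (X : 𝒜) : Mono ((η 𝒜).app X) :=
  (facData 𝒜).hi ((toArrow 𝒜).obj X)

instance injective_Inj_obj (X : 𝒜) : Injective ((Inj 𝒜).obj X) := by
  have hp := (facData 𝒜).hp ((toArrow 𝒜).obj X)
  have h0 : (facData 𝒜).p.app ((toArrow 𝒜).obj X) = 0 :=
    (isZero_zero 𝒜).eq_of_tgt _ _
  rw [h0] at hp
  exact (injective_iff_rlp_monomorphisms_zero _).2 hp

end Inj

section Main

variable {𝒜 : Type u} [Category.{v} 𝒜] [Abelian 𝒜] [IsGrothendieckAbelian.{w} 𝒜]
variable {Λ : Type w} [SmallCategory Λ]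

/-- `F ⟶ F ⋙ Inj` -/
noncomputable def sesF (F : Λ ⥤ 𝒜) : F ⟶ F ⋙ Inj 𝒜 where
  app j := (η 𝒜).app (F.obj j)
  naturality j j' a := ((η 𝒜).naturality (F.map a))

instance (F : Λ ⥤ 𝒜) : Mono (sesF F) := by
  have : ∀ j, Mono ((sesF F).app j) := fun j => mono_η_app 𝒜 (F.obj j)
  exact NatTrans.mono_of_mono_app _

/-- the short complex `F ⟶ F ⋙ Inj ⟶ coker` in the functor category -/
noncomputable def ses (F : Λ ⥤ 𝒜) : ShortComplex (Λ ⥤ 𝒜) :=
  ShortComplex.mk (sesF F) (cokernel.π (sesF F)) (cokernel.condition _)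

lemma ses_shortExact (F : Λ ⥤ 𝒜) : (ses F).ShortExact where
  exact := ShortComplex.exact_cokernel (sesF F)
  mono_f := inferInstanceAs (Mono (sesF F))
  epi_g := inferInstanceAs (Epi (cokernel.π (sesF F)))

/-- the evaluated short complex -/
noncomputable abbrev sesAt (F : Λ ⥤ 𝒜) (j : Λ) : ShortComplex 𝒜 :=
  (ses F).map ((evaluation Λ 𝒜).obj j)

lemma sesAt_shortExact (F : Λ ⥤ 𝒜) (j : Λ) : (sesAt F j).ShortExact :=
  (ses_shortExact F).map_of_exact _

instance (F : Λ ⥤ 𝒜) (j : Λ) : Injective (sesAt F j).X₂ :=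
  injective_Inj_obj 𝒜 (F.obj j)

/-- transition morphisms of the evaluated short complexes -/
noncomputable abbrev sesAtMap (F : Λ ⥤ 𝒜) {j j' : Λ} (a : j ⟶ j') : sesAt F j ⟶ sesAt F j' :=
  (ses F).mapNatTrans ((evaluation Λ 𝒜).map a)

variable [IsFiltered Λ]

/-- the colimit short complex -/
noncomputable abbrev sesColim (F : Λ ⥤ 𝒜) : ShortComplex 𝒜 :=
  (ses F).map colim

lemma sesColim_shortExact (F : Λ ⥤ 𝒜) : (sesColim F).ShortExact :=
  (ses_shortExact F).map_of_exact _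

/-- the natural transformation `ev_j ⟶ colim` -/
noncomputable def ιNat (j : Λ) : (evaluation Λ 𝒜).obj j ⟶ (colim : (Λ ⥤ 𝒜) ⥤ 𝒜) where
  app G := colimit.ι G j
  naturality G G' φ := by simp

/-- the morphism of short complexes to the colimit -/
noncomputable abbrev sesι (F : Λ ⥤ 𝒜) (j : Λ) : sesAt F j ⟶ sesColim F :=
  (ses F).mapNatTrans (ιNat j)

variable [HasExt.{w'} 𝒜]

/-- Elementwise form of "`Ext^p(X, -)` commutes with the colimit of `F`". -/
structure ColimProp (X : 𝒜) (p : ℕ) (F : Λ ⥤ 𝒜) : Prop where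
  surj : ∀ x : Ext.{w'} X (colimit F) p, ∃ (j : Λ) (y : Ext.{w'} X (F.obj j) p),
    y.comp (Ext.mk₀ (colimit.ι F j)) (add_zero p) = x
  inj : ∀ (j : Λ) (y : Ext.{w'} X (F.obj j) p),
    y.comp (Ext.mk₀ (colimit.ι F j)) (add_zero p) = 0 →
      ∃ (j' : Λ) (a : j ⟶ j'), y.comp (Ext.mk₀ (F.map a)) (add_zero p) = 0

omit [IsGrothendieckAbelian.{w} 𝒜] in
lemma sub_comp {X Y Z : 𝒜} {n m q : ℕ} (α₁ α₂ : Ext.{w'} X Y n) (β : Ext.{w'} Y Z m)
    (h : n + m = q) : (α₁ - α₂).comp β h = α₁.comp β h - α₂.comp β h := by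
  rw [sub_eq_add_neg, Ext.add_comp, Ext.neg_comp, sub_eq_add_neg]

omit [IsGrothendieckAbelian.{w} 𝒜] in
lemma comp_extClass_comp_τ₁ {S₁ S₂ : ShortComplex 𝒜} (h₁ : S₁.ShortExact) (h₂ : S₂.ShortExact)
    (φ : S₁ ⟶ S₂) {X : 𝒜} {p : ℕ} (w : Ext.{w'} X S₁.X₃ p) :
    (w.comp h₁.extClass rfl).comp (Ext.mk₀ φ.τ₁) (add_zero (p + 1)) =
      (w.comp (Ext.mk₀ φ.τ₃) (add_zero p)).comp h₂.extClass rfl := by
  rw [Ext.comp_assoc_of_third_deg_zero, h₁.extClass_naturality h₂ φ,
    Ext.comp_assoc_of_second_deg_zero]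

/-- **Dimension shifting step.** -/
theorem colimProp_succ (X : 𝒜) (p : ℕ)
    (hp : ∀ F : Λ ⥤ 𝒜, ColimProp.{w'} X p F)
    (hacyc : ∀ (G : Λ ⥤ 𝒜), (∀ j, Injective (G.obj j)) →
      Subsingleton (Ext.{w'} X (colimit G) (p + 1)))
    (F : Λ ⥤ 𝒜) : ColimProp.{w'} X (p + 1) F := by
  have hSc := sesColim_shortExact F
  have hQ := hp (ses F).X₃
  have hG := hp (ses F).X₂
  have hsub : Subsingleton (Ext.{w'} X (sesColim F).X₂ (p + 1)) :=
    hacyc (F ⋙ Inj 𝒜) (fun j => injective_Inj_obj 𝒜 (F.obj j))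
  refine ⟨fun x => ?_, fun j y hy => ?_⟩
  · -- surjectivity
    obtain ⟨z, hz⟩ : ∃ z : Ext.{w'} X (sesColim F).X₃ p, z.comp hSc.extClass rfl = x :=
      Ext.covariant_sequence_exact₁ X hSc (x₁ := x) (Subsingleton.elim _ _) rfl
    obtain ⟨j, w, hw⟩ := hQ.surj z
    have hSj := sesAt_shortExact F j
    let w' : Ext.{w'} X (sesAt F j).X₃ p := w
    have hw' : w'.comp (Ext.mk₀ (sesι F j).τ₃) (add_zero p) = z := hw
    refine ⟨j, w'.comp hSj.extClass rfl, ?_⟩
    refine (comp_extClass_comp_τ₁ hSj hSc (sesι F j) w').trans ?_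
    rw [hw']
    exact hz
  · -- injectivity
    have hSj := sesAt_shortExact F j
    obtain ⟨w, hw⟩ : ∃ w : Ext.{w'} X (sesAt F j).X₃ p, w.comp hSj.extClass rfl = y :=
      Ext.covariant_sequence_exact₁ X hSj (x₁ := y) (Ext.eq_zero_of_injective _) rfl
    have h2 : (w.comp (Ext.mk₀ (sesι F j).τ₃) (add_zero p)).comp hSc.extClass rfl = 0 := by
      rw [← comp_extClass_comp_τ₁ hSj hSc (sesι F j) w, hw]
      exact hy
    obtain ⟨v, hv⟩ : ∃ v : Ext.{w'} X (sesColim F).X₂ p,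
        v.comp (Ext.mk₀ (sesColim F).g) (add_zero p) =
          w.comp (Ext.mk₀ (sesι F j).τ₃) (add_zero p) :=
      Ext.covariant_sequence_exact₃ X hSc _ rfl h2
    obtain ⟨k, vk, hvk⟩ := hG.surj v
    let m := IsFiltered.max j k
    let a : j ⟶ m := IsFiltered.leftToMax j k
    let b : k ⟶ m := IsFiltered.rightToMax j k
    let w₀ : Ext.{w'} X ((ses F).X₃.obj j) p := w
    have hv' : (vk.comp (Ext.mk₀ (colimit.ι (ses F).X₂ k)) (add_zero p)).comp
        (Ext.mk₀ (colimMap (ses F).g)) (add_zero p) =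
          w₀.comp (Ext.mk₀ (colimit.ι (ses F).X₃ j)) (add_zero p) := by
      rw [hvk]
      exact hv
    rw [Ext.comp_assoc_of_third_deg_zero, Ext.mk₀_comp_mk₀] at hv'
    let u : Ext.{w'} X ((ses F).X₃.obj m) p :=
      w₀.comp (Ext.mk₀ ((ses F).X₃.map a)) (add_zero p) -
        (vk.comp (Ext.mk₀ ((ses F).X₂.map b)) (add_zero p)).comp
          (Ext.mk₀ ((ses F).g.app m)) (add_zero p)
    have hu : u.comp (Ext.mk₀ (colimit.ι (ses F).X₃ m)) (add_zero p) = 0 := by
      dsimp only [u]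
      rw [sub_comp, Ext.comp_assoc_of_third_deg_zero, Ext.comp_assoc_of_third_deg_zero,
        Ext.comp_assoc_of_third_deg_zero, Ext.mk₀_comp_mk₀, Ext.mk₀_comp_mk₀, Ext.mk₀_comp_mk₀,
        colimit.w, sub_eq_zero, ← hv']
      have e1 : (ses F).X₂.map b ≫ (ses F).g.app m ≫ colimit.ι (ses F).X₃ m =
          colimit.ι (ses F).X₂ k ≫ colimMap (ses F).g := by
        rw [← ι_colimMap, ← Category.assoc, colimit.w]
      rw [e1]
    obtain ⟨m', c, hc⟩ := hQ.inj m u hu
    refine ⟨m', a ≫ c, ?_⟩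
    have hSm := sesAt_shortExact F m'
    have h3 := comp_extClass_comp_τ₁ hSj hSm (sesAtMap F (a ≫ c)) w
    rw [hw] at h3
    refine h3.trans ?_
    dsimp only [u] at hc
    rw [sub_comp, sub_eq_zero, Ext.comp_assoc_of_third_deg_zero, Ext.mk₀_comp_mk₀,
      ← Functor.map_comp] at hc
    have hc2 : w₀.comp (Ext.mk₀ ((ses F).X₃.map (a ≫ c))) (add_zero p) =
        ((vk.comp (Ext.mk₀ ((ses F).X₂.map b)) (add_zero p)).comp
          (Ext.mk₀ ((ses F).X₂.map c)) (add_zero p)).comp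
          (Ext.mk₀ ((ses F).g.app m')) (add_zero p) := by
      rw [hc]
      simp only [Ext.comp_assoc_of_third_deg_zero, Ext.mk₀_comp_mk₀]
      rw [Category.assoc, Category.assoc, (ses F).g.naturality c]
    obtain ⟨v', hv'def⟩ : ∃ v' : Ext.{w'} X (sesAt F m').X₂ p, v' =
        (vk.comp (Ext.mk₀ ((ses F).X₂.map b)) (add_zero p)).comp
          (Ext.mk₀ ((ses F).X₂.map c)) (add_zero p) := ⟨_, rfl⟩
    have hc' : w.comp (Ext.mk₀ (sesAtMap F (a ≫ c)).τ₃) (add_zero p) =
        v'.comp (Ext.mk₀ (sesAt F m').g) (add_zero p) := by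
      rw [hv'def]
      exact hc2
    rw [hc', Ext.comp_assoc_of_second_deg_zero, hSm.comp_extClass, Ext.comp_zero]
    rfl

/-- **Main theorem (elementwise form).** -/
theorem colimProp_of_zero_of_acyclic (X : 𝒜)
    (h0 : ∀ F : Λ ⥤ 𝒜, ColimProp.{w'} X 0 F)
    (hacyc : ∀ (G : Λ ⥤ 𝒜), (∀ j, Injective (G.obj j)) → ∀ p : ℕ,
      Subsingleton (Ext.{w'} X (colimit G) (p + 1)))
    (p : ℕ) (F : Λ ⥤ 𝒜) : ColimProp.{w'} X p F := by
  induction p generalizing F with
  | zero => exact h0 F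
  | succ p ih => exact colimProp_succ X p ih (fun G hG => hacyc G hG p) F

end Main

section Preserves

variable {𝒜 : Type u} [Category.{v} 𝒜] [Abelian 𝒜] [IsGrothendieckAbelian.{w} 𝒜]
variable {Λ : Type w} [SmallCategory Λ] [IsFiltered Λ] [HasExt.{w} 𝒜]

/-- `ColimProp` implies preservation of the colimit by `Ext^p(X, -)`. -/
theorem preservesColimit_extFunctorObj (X : 𝒜) (p : ℕ) (F : Λ ⥤ 𝒜)
    (h : ColimProp.{w} X p F) : PreservesColimit F (extFunctorObj.{w} X p) := by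
  apply preservesColimit_of_preserves_colimit_cocone (colimit.isColimit F)
  haveI : PreservesColimitsOfShape Λ (forget AddCommGrpCat.{w}) :=
    PreservesFilteredColimitsOfSize.preserves_filtered_colimits Λ
  haveI : ReflectsColimit (F ⋙ extFunctorObj.{w} X p) (forget AddCommGrpCat.{w}) :=
    reflectsColimit_of_reflectsIsomorphisms _ _
  apply isColimitOfReflects (forget AddCommGrpCat.{w})
  apply Types.FilteredColimit.isColimitOf'
  · intro x
    obtain ⟨j, y, hy⟩ := h.surj x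
    exact ⟨j, y, hy.symm⟩
  · have key : ∀ (i : Λ) (x y : Ext.{w} X (F.obj i) p),
        x.comp (Ext.mk₀ (colimit.ι F i)) (add_zero p) =
          y.comp (Ext.mk₀ (colimit.ι F i)) (add_zero p) →
        ∃ (k : Λ) (a : i ⟶ k), x.comp (Ext.mk₀ (F.map a)) (add_zero p) =
          y.comp (Ext.mk₀ (F.map a)) (add_zero p) := by
      intro i x y hxy
      have hxy' : (x - y).comp (Ext.mk₀ (colimit.ι F i)) (add_zero p) = 0 := by
        rw [sub_comp, sub_eq_zero]
        exact hxy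
      obtain ⟨k, a, ha⟩ := h.inj i _ hxy'
      refine ⟨k, a, ?_⟩
      rw [sub_comp, sub_eq_zero] at ha
      exact ha
    exact fun i x y hxy => key i x y hxy

end Preserves

end Groth.Agent.Lib.Helper4.ExtFilteredColim
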