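import Groth.Prelude.Def_CohSite
import Mathlib.Algebra.Homology.DerivedCategory.Ext.ExactSequences
import Mathlib.CategoryTheory.Sites.EpiMono

/-!
# The free abelian sheaf `ℤ_U` on an object `U` of a small site

Site analogue of `Groth.Agent.Lib.Lead.FreeSheaf`.

* `ZU J U` is the object such that `CohSite.HU F n U = Ext (ZU J U) F n` (by `rfl`).
* `ZUequiv U F : (ZU J U ⟶ F) ≃ F(U)`, given by evaluation `ZUev` at the generator `ZUgen J U`;
  natural in `F` (`ZUev_comp`) and in `U` (`ZUev_map`).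
* `ZUmap J f : ZU J V ⟶ ZU J U` for `f : V ⟶ U`.
* `HU_res_apply` : `CohSite.res F n f x = (Ext.mk₀ (ZUmap J f)).comp x _`.
-/

set_option autoImplicit false
universe u

open CategoryTheory Opposite CategoryTheory.Limits CategoryTheory.Abelian

namespace Groth.Agent.Lib.Helper4

variable {C : Type u} [SmallCategory C] (J : GrothendieckTopology C)

/-- The free abelian presheaf on the representable presheaf of `U`. -/
noncomputable abbrev ZUpre (U : C) : Cᵒᵖ ⥤ AddCommGrpCat.{u} :=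
  yoneda.obj U ⋙ AddCommGrpCat.free

/-- The free abelian sheaf on the object `U`. -/
noncomputable abbrev ZU (U : C) : Sheaf J AddCommGrpCat.{u} :=
  (presheafToSheaf J AddCommGrpCat.{u}).obj (ZUpre U)

variable {J}

lemma HU_eq (F : Sheaf J AddCommGrpCat.{u}) (n : ℕ) (U : C) :
    CohSite.HU F n U = Ext (ZU J U) F n := rfl

variable (J) in
/-- The canonical generator of `ℤ_U` over `U`. -/
noncomputable def ZUgen (U : C) : (ZU J U).obj.obj (op U) :=
  ((toSheafify J (ZUpre U)).app (op U)).hom (FreeAbelianGroup.of (𝟙 U))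

/-- Evaluation at the generator. -/
noncomputable def ZUev (U : C) (F : Sheaf J AddCommGrpCat.{u}) (φ : ZU J U ⟶ F) :
    F.obj.obj (op U) :=
  (φ.hom.app (op U)).hom (ZUgen J U)

/-- The adjunction equivalence. -/
noncomputable def ZUequiv (U : C) (F : Sheaf J AddCommGrpCat.{u}) :
    (ZU J U ⟶ F) ≃ F.obj.obj (op U) :=
  ((sheafificationAdjunction J AddCommGrpCat.{u}).homEquiv (ZUpre U) F).trans
    (((Adjunction.whiskerRight Cᵒᵖ AddCommGrpCat.adj.{u}).homEquiv (yoneda.obj U) F.obj).trans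
      yonedaEquiv)

lemma ZUequiv_apply (U : C) (F : Sheaf J AddCommGrpCat.{u}) (φ : ZU J U ⟶ F) :
    ZUequiv U F φ = ZUev U F φ := by
  unfold ZUequiv ZUev ZUgen
  simp only [Equiv.trans_apply]
  rw [yonedaEquiv_apply]
  rw [Adjunction.homEquiv_unit, Adjunction.homEquiv_unit]
  simp
  rfl

lemma ZUev_bijective (U : C) (F : Sheaf J AddCommGrpCat.{u}) : Function.Bijective (ZUev U F) := by
  have h : ZUev U F = ZUequiv U F := funext fun φ => (ZUequiv_apply U F φ).symm
  rw [h]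
  exact (ZUequiv U F).bijective

lemma ZUev_comp (U : C) {F G : Sheaf J AddCommGrpCat.{u}} (φ : ZU J U ⟶ F) (f : F ⟶ G) :
    ZUev U G (φ ≫ f) = f.hom.app (op U) (ZUev U F φ) := by
  unfold ZUev
  rfl

/-- If `g` is surjective on sections over `U`, maps `ℤ_U ⟶ H` lift along `g`. -/
lemma ZU_lift (U : C) {G H : Sheaf J AddCommGrpCat.{u}} (g : G ⟶ H)
    (hg : Function.Surjective (g.hom.app (op U))) (ψ : ZU J U ⟶ H) :
    ∃ ψ' : ZU J U ⟶ G, ψ' ≫ g = ψ := by
  obtain ⟨t, ht⟩ := hg (ZUev U H ψ)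
  obtain ⟨ψ', hψ'⟩ := (ZUev_bijective U G).2 t
  refine ⟨ψ', (ZUev_bijective U H).1 ?_⟩
  rw [ZUev_comp, hψ', ht]

/-- The map of presheaves `ℤ_V^{pre} ⟶ ℤ_U^{pre}` for `f : V ⟶ U`. -/
noncomputable def ZUpreMap {V U : C} (f : V ⟶ U) : ZUpre V ⟶ ZUpre U :=
  Functor.whiskerRight (yoneda.map f) AddCommGrpCat.free

variable (J) in
/-- The map `ℤ_V ⟶ ℤ_U` for `f : V ⟶ U`. -/
noncomputable def ZUmap {V U : C} (f : V ⟶ U) : ZU J V ⟶ ZU J U :=
  (presheafToSheaf J AddCommGrpCat.{u}).map (ZUpreMap f)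

lemma ZUpreMap_gen {V U : C} (f : V ⟶ U) :
    (ConcreteCategory.hom ((ZUpreMap f).app (op V))) (FreeAbelianGroup.of (𝟙 V)) =
      (ConcreteCategory.hom ((ZUpre U).map f.op)) (FreeAbelianGroup.of (𝟙 U)) := by
  have e1 : (ConcreteCategory.hom ((ZUpreMap f).app (op V))) (FreeAbelianGroup.of (𝟙 V)) =
      FreeAbelianGroup.of f := by
    dsimp only [ZUpreMap, Functor.whiskerRight_app, AddCommGrpCat.free_map]
    erw [FreeAbelianGroup.map_of_apply]
    congr 1
    exact Category.id_comp f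
  have e2 : (ConcreteCategory.hom ((ZUpre U).map f.op)) (FreeAbelianGroup.of (𝟙 U)) =
      FreeAbelianGroup.of f := by
    dsimp only [ZUpre, Functor.comp_map, AddCommGrpCat.free_map]
    erw [FreeAbelianGroup.map_of_apply]
    congr 1
    exact Category.comp_id f
  rw [e1, e2]

lemma ZUev_map {V U : C} (f : V ⟶ U) (F : Sheaf J AddCommGrpCat.{u}) (φ : ZU J U ⟶ F) :
    ZUev V F (ZUmap J f ≫ φ) = F.obj.map f.op (ZUev U F φ) := by
  unfold ZUev ZUgen
  have h1 := NatTrans.naturality_apply φ.hom f.op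
    (((toSheafify J (ZUpre U)).app (op U)).hom (FreeAbelianGroup.of (𝟙 U)))
  erw [← h1]
  have h2 := NatTrans.naturality_apply (toSheafify J (ZUpre U)) f.op
    (FreeAbelianGroup.of (𝟙 U))
  erw [← h2]
  have h3 : (ZUmap J f ≫ φ).hom.app (op V) = (ZUmap J f).hom.app (op V) ≫ φ.hom.app (op V) := rfl
  rw [h3]
  have h4 : (toSheafify J (ZUpre V)).app (op V) ≫ (ZUmap J f).hom.app (op V)
      = (ZUpreMap f).app (op V) ≫ (toSheafify J (ZUpre U)).app (op V) := by
    have := toSheafify_naturality J (ZUpreMap f)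
    have h5 := congrArg (fun α => α.app (op V)) this
    exact h5.symm
  have h6 := ConcreteCategory.congr_hom h4 (FreeAbelianGroup.of (𝟙 V))
  have h6' : (ConcreteCategory.hom ((ZUmap J f).hom.app (op V)))
      ((ConcreteCategory.hom ((toSheafify J (ZUpre V)).app (op V)))
        (FreeAbelianGroup.of (𝟙 V))) =
      (ConcreteCategory.hom ((toSheafify J (ZUpre U)).app (op V)))
        ((ConcreteCategory.hom ((ZUpreMap f).app (op V))) (FreeAbelianGroup.of (𝟙 V))) := h6
  rw [ZUpreMap_gen] at h6'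
  rw [← h6']
  rfl

lemma HU_res_apply (F : Sheaf J AddCommGrpCat.{u}) (n : ℕ) {U V : C} (f : V ⟶ U)
    (x : CohSite.HU F n U) :
    CohSite.res F n f x = (Ext.mk₀ (ZUmap J f)).comp x (zero_add n) := rfl

end Groth.Agent.Lib.Helper4
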