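import Mathlib.CategoryTheory.Adjunction.Unique
import Mathlib.CategoryTheory.Adjunction.Basic

/-!
# Formal lemmas on "pullback of constant objects" defined through uniqueness of left adjoints

Abstract setting: `cY ⊣ ΓY`, `cX ⊣ ΓX` ("constant sheaf ⊣ global sections"), `L ⊣ R`
("pullback ⊣ pushforward") and `pg : R ⋙ ΓY ≅ ΓX`.  The canonical isomorphism
`cY ⋙ L ≅ cX` is `((adjY.comp adj).ofNatIsoRight pg).leftAdjointUniq adjX`.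
-/

set_option autoImplicit false
universe v₁ v₂ v₃ v₄ u₁ u₂ u₃ u₄
open CategoryTheory

namespace Groth.Agent.Lib.Helper4.AdjConst

section H0

variable {𝒢 : Type u₁} [Category.{v₁} 𝒢] {𝒜Y : Type u₂} [Category.{v₂} 𝒜Y]
  {𝒜X : Type u₃} [Category.{v₃} 𝒜X]
  {cY : 𝒢 ⥤ 𝒜Y} {ΓY : 𝒜Y ⥤ 𝒢} (adjY : cY ⊣ ΓY)
  {cX : 𝒢 ⥤ 𝒜X} {ΓX : 𝒜X ⥤ 𝒢} (adjX : cX ⊣ ΓX)
  {L : 𝒜Y ⥤ 𝒜X} {R : 𝒜X ⥤ 𝒜Y} (adj : L ⊣ R) (pg : R ⋙ ΓY ≅ ΓX)

/-- the canonical isomorphism "pullback of constant is constant" -/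
noncomputable def cIso : cY ⋙ L ≅ cX :=
  ((adjY.comp adj).ofNatIsoRight pg).leftAdjointUniq adjX

lemma homEquiv_cIso_inv_app (M : 𝒢) :
    adjX.homEquiv M _ ((cIso adjY adjX adj pg).inv.app M) =
      adjY.unit.app M ≫ ΓY.map (adj.unit.app (cY.obj M)) ≫ pg.hom.app (L.obj (cY.obj M)) := by
  rw [cIso, Adjunction.leftAdjointUniq_inv_app, Adjunction.homEquiv_leftAdjointUniq_hom_app]
  simp

/-- (H0): the global section attached to `cX M ≅ L (cY M) ⟶ L G`. -/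
theorem homEquiv_cIso_inv_comp_map (M : 𝒢) (G : 𝒜Y) (e : cY.obj M ⟶ G) :
    adjX.homEquiv M (L.obj G) ((cIso adjY adjX adj pg).inv.app M ≫ L.map e) =
      adjY.homEquiv M G e ≫ ΓY.map (adj.unit.app G) ≫ pg.hom.app (L.obj G) := by
  rw [Adjunction.homEquiv_naturality_right, homEquiv_cIso_inv_app, Adjunction.homEquiv_unit]
  simp only [Category.assoc]
  congr 1
  have h1 := pg.hom.naturality (L.map e)
  have h2 := adj.unit.naturality e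
  simp only [Functor.comp_obj, Functor.comp_map, Functor.id_obj, Functor.id_map] at h1 h2
  rw [← h1, ← Category.assoc, ← Category.assoc, ← ΓY.map_comp, ← ΓY.map_comp, ← h2]

end H0

lemma ofNatIsoRight_unit_app {C : Type u₁} [Category.{v₁} C] {D : Type u₂} [Category.{v₂} D]
    {F : C ⥤ D} {G H : D ⥤ C} (adj : F ⊣ G) (iso : G ≅ H) (X : C) :
    (adj.ofNatIsoRight iso).unit.app X = adj.unit.app X ≫ iso.hom.app (F.obj X) := by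
  simp

section GL

variable {𝒢 : Type u₁} [Category.{v₁} 𝒢] {𝒜C : Type u₂} [Category.{v₂} 𝒜C]
  {𝒜B : Type u₃} [Category.{v₃} 𝒜B] {𝒜A : Type u₄} [Category.{v₄} 𝒜A]
  {cC : 𝒢 ⥤ 𝒜C} {ΓC : 𝒜C ⥤ 𝒢} (adjC : cC ⊣ ΓC)
  {cB : 𝒢 ⥤ 𝒜B} {ΓB : 𝒜B ⥤ 𝒢} (adjB : cB ⊣ ΓB)
  {cA : 𝒢 ⥤ 𝒜A} {ΓA : 𝒜A ⥤ 𝒢} (adjA : cA ⊣ ΓA)
  {Lg : 𝒜C ⥤ 𝒜B} {Rg : 𝒜B ⥤ 𝒜C} (adjg : Lg ⊣ Rg)
  {Lf : 𝒜B ⥤ 𝒜A} {Rf : 𝒜A ⥤ 𝒜B} (adjf : Lf ⊣ Rf)
  {Lh : 𝒜C ⥤ 𝒜A} {Rh : 𝒜A ⥤ 𝒜C} (adjh : Lh ⊣ Rh)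
  (pgg : Rg ⋙ ΓC ≅ ΓB) (pgf : Rf ⋙ ΓB ≅ ΓA) (pgh : Rh ⋙ ΓC ≅ ΓA)
  (pc : Rf ⋙ Rg ≅ Rh)

/-- the composition isomorphism for pullbacks -/
noncomputable def κIso : Lh ≅ Lg ⋙ Lf :=
  adjh.leftAdjointUniq ((adjg.comp adjf).ofNatIsoRight pc)

theorem cIso_hom_comp
    (hpg : ∀ G : 𝒜A, ΓC.map (pc.hom.app G) ≫ pgh.hom.app G =
      pgg.hom.app (Rf.obj G) ≫ pgf.hom.app G) (M : 𝒢) :
    (cIso adjC adjA adjh pgh).hom.app M =
      (κIso adjg adjf adjh pc).hom.app (cC.obj M) ≫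
        Lf.map ((cIso adjC adjB adjg pgg).hom.app M) ≫ (cIso adjB adjA adjf pgf).hom.app M := by
  apply (((adjC.comp adjh).ofNatIsoRight pgh).homEquiv _ _).injective
  rw [cIso, Adjunction.homEquiv_leftAdjointUniq_hom_app]
  rw [Adjunction.homEquiv_ofNatIsoRight_apply, Adjunction.homEquiv_unit]
  -- unit of κ
  have hκ := Adjunction.unit_leftAdjointUniq_hom_app adjh
    ((adjg.comp adjf).ofNatIsoRight pc) (cC.obj M)
  have hg := Adjunction.unit_leftAdjointUniq_hom_app ((adjC.comp adjg).ofNatIsoRight pgg) adjB M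
  have hf := Adjunction.unit_leftAdjointUniq_hom_app ((adjB.comp adjf).ofNatIsoRight pgf) adjA M
  rw [ofNatIsoRight_unit_app, Adjunction.comp_unit_app] at hκ hg hf
  unfold κIso cIso
  set κ := adjh.leftAdjointUniq ((adjg.comp adjf).ofNatIsoRight pc)
  set cg := ((adjC.comp adjg).ofNatIsoRight pgg).leftAdjointUniq adjB
  set cf := ((adjB.comp adjf).ofNatIsoRight pgf).leftAdjointUniq adjA
  simp only [Adjunction.comp_unit_app, Functor.comp_obj, Functor.map_comp, Category.assoc,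
    Functor.comp_map] at hκ hg hf ⊢
  rw [← hf, ← hg]
  simp only [Category.assoc]
  congr 1
  have e1 : ΓC.map (adjh.unit.app (cC.obj M)) ≫ ΓC.map (Rh.map (κ.hom.app (cC.obj M))) =
      ΓC.map (adjg.unit.app (cC.obj M)) ≫ ΓC.map (Rg.map (adjf.unit.app (Lg.obj (cC.obj M)))) ≫
        ΓC.map (pc.hom.app (Lf.obj (Lg.obj (cC.obj M)))) := by
    rw [← ΓC.map_comp, hκ, ΓC.map_comp, ΓC.map_comp]
  rw [reassoc_of% e1]
  congr 1
  -- naturality facts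
  have n1 : ΓC.map (pc.hom.app (Lf.obj (Lg.obj (cC.obj M)))) ≫ ΓC.map (Rh.map (Lf.map (cg.hom.app M))) =
      ΓC.map (Rg.map (Rf.map (Lf.map (cg.hom.app M)))) ≫ ΓC.map (pc.hom.app (Lf.obj (cB.obj M))) := by
    rw [← ΓC.map_comp, ← ΓC.map_comp]
    congr 1
    exact (pc.hom.naturality (Lf.map (cg.hom.app M))).symm
  have n2 : ΓC.map (pc.hom.app (Lf.obj (cB.obj M))) ≫ ΓC.map (Rh.map (cf.hom.app M)) =
      ΓC.map (Rg.map (Rf.map (cf.hom.app M))) ≫ ΓC.map (pc.hom.app (cA.obj M)) := by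
    rw [← ΓC.map_comp, ← ΓC.map_comp]
    congr 1
    exact (pc.hom.naturality (cf.hom.app M)).symm
  have n3 : ∀ {Y Y' : 𝒜B} (x : Y ⟶ Y'), ΓC.map (Rg.map x) ≫ pgg.hom.app Y' =
      pgg.hom.app Y ≫ ΓB.map x := fun x => pgg.hom.naturality x
  have n4 : adjf.unit.app (Lg.obj (cC.obj M)) ≫ Rf.map (Lf.map (cg.hom.app M)) =
      cg.hom.app M ≫ adjf.unit.app (cB.obj M) := (adjf.unit.naturality (cg.hom.app M)).symm
  have n5 : ΓB.map (Rf.map (cf.hom.app M)) ≫ pgf.hom.app (cA.obj M) =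
      pgf.hom.app (Lf.obj (cB.obj M)) ≫ ΓA.map (cf.hom.app M) := pgf.hom.naturality (cf.hom.app M)
  rw [reassoc_of% n1, reassoc_of% n2, hpg, reassoc_of% n3, reassoc_of% n3, reassoc_of% n3, n5]
  simp only [← Functor.map_comp_assoc, n4]

theorem cIso_inv_comp
    (hpg : ∀ G : 𝒜A, ΓC.map (pc.hom.app G) ≫ pgh.hom.app G =
      pgg.hom.app (Rf.obj G) ≫ pgf.hom.app G) (M : 𝒢) :
    (cIso adjC adjA adjh pgh).inv.app M =
      (cIso adjB adjA adjf pgf).inv.app M ≫ Lf.map ((cIso adjC adjB adjg pgg).inv.app M) ≫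
        (κIso adjg adjf adjh pc).inv.app (cC.obj M) := by
  apply (cancel_epi ((cIso adjC adjA adjh pgh).hom.app M)).1
  rw [Iso.hom_inv_id_app, cIso_hom_comp adjC adjB adjA adjg adjf adjh pgg pgf pgh pc hpg M]
  simp only [Category.assoc, Iso.hom_inv_id_app_assoc, Functor.comp_obj]
  rw [← Lf.map_comp_assoc, Iso.hom_inv_id_app]
  simp

end GL

end Groth.Agent.Lib.Helper4.AdjConst
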