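import Groth.Prelude.Def_EtShriek2
import Groth.Agent.S0648
import Groth.Agent.S0101
import Mathlib.CategoryTheory.Sites.Continuous
import Mathlib.CategoryTheory.Sites.CoverPreserving
import Mathlib.CategoryTheory.Sites.Adjunction
import Mathlib.CategoryTheory.Preadditive.Injective.Preserves

/-!
# Restriction of abelian étale sheaves along an étale morphism

For an étale `j : U ⟶ X`:
* `jCont j` : `compEtale j` is continuous (`EtShriek.JCont j`), for *every* étale `j`
  (the prelude only has the monomorphism case);
* `adjJ j : compEtale j ⊣ bc j`, `adjR j : restrAlong j ⊣ push j`;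
* `pullIsoRestr j : EtCoh.pull j ≅ EtShriek.restrAlong j`;
* `restrAlong j` and `EtCoh.pull j` preserve injective objects;
* `EtCoh.push f` preserves injective objects, for any `f`.
-/

set_option autoImplicit false
open CategoryTheory CategoryTheory.Limits AlgebraicGeometry Opposite
universe u

namespace Groth.Agent.Lib.Helper4.EtRestr

variable {U X : Scheme.{u}} (j : U ⟶ X) [hj : Etale j]

instance preservesPullbacks_overMap :
    PreservesLimitsOfShape WalkingCospan (CategoryTheory.Over.map j) := by
  have : PreservesLimitsOfShape WalkingCospan
      (CategoryTheory.Over.map j ⋙ CategoryTheory.Over.forget X) :=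
    inferInstanceAs <| PreservesLimitsOfShape WalkingCospan (CategoryTheory.Over.forget U)
  exact preservesLimitsOfShape_of_reflects_of_preserves (CategoryTheory.Over.map j)
    (CategoryTheory.Over.forget X)

instance preservesPullbacks_compEtale :
    PreservesLimitsOfShape WalkingCospan (EtShriek.compEtale j) := by
  have h0 : PreservesLimitsOfShape WalkingCospan
      (EtShriek.compEtale j ⋙ MorphismProperty.Over.forget _ _ _) :=
    inferInstanceAs <| PreservesLimitsOfShape WalkingCospan <|
      MorphismProperty.Over.forget @Etale ⊤ U ⋙ CategoryTheory.Over.map j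
  have h1 : (MorphismProperty.Over.forget @Etale ⊤ X).Full := inferInstance
  have h2 : (MorphismProperty.Over.forget @Etale ⊤ X).Faithful := inferInstance
  have h3 : ReflectsLimitsOfShape WalkingCospan (MorphismProperty.Over.forget @Etale ⊤ X) :=
    @reflectsLimitsOfShape_of_reflectsLimits _ _ _ _ _ _ _
      (@fullyFaithful_reflectsLimits _ _ _ _ _ h1 h2)
  exact @preservesLimitsOfShape_of_reflects_of_preserves _ _ _ _ _ _ _ _
    (EtShriek.compEtale j) (MorphismProperty.Over.forget _ _ _) h0 h3

/-- `compEtale j` is continuous for every étale morphism `j`. -/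
theorem jCont : EtShriek.JCont j := by
  have : Functor.PreservesOneHypercovers.{u+1} (EtShriek.compEtale j) U.smallEtaleTopology
      X.smallEtaleTopology :=
    Functor.PreservesOneHypercovers.of_coverPreserving (EtShriek.coverPreserving_compEtale j)
  infer_instance

/-- composition with `j` is left adjoint to base change along `j`. -/
noncomputable def adjJ : EtShriek.compEtale j ⊣ EtCoh.bc j :=
  MorphismProperty.Over.mapPullbackAdj EtCoh.etaleMP ⊤ j hj trivial

variable [EtShriek.JCont j]

/-- restriction is left adjoint to pushforward. -/
noncomputable def adjR : EtShriek.restrAlong j ⊣ EtCoh.push j :=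
  (adjJ j).sheafPushforwardContinuous _ _

/-- `j^{-1}` is restriction along `compEtale j`. -/
noncomputable def pullIsoRestr : EtCoh.pull j ≅ EtShriek.restrAlong j :=
  (EtCoh.pullPushAdj j).leftAdjointUniq (adjR j)

instance restrAlong_preservesInjectives : (EtShriek.restrAlong j).PreservesInjectiveObjects := by
  have : PreservesFiniteLimits (EtShriek.extZero j) := Groth.Agent.S0648.result j
  have : (EtShriek.extZero j).PreservesMonomorphisms := inferInstance
  exact Functor.preservesInjectiveObjects_of_adjunction_of_preservesMonomorphisms
    (EtShriek.extZeroAdj j)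

theorem pull_preservesInjectives : (EtCoh.pull j).PreservesInjectiveObjects where
  injective_obj {I} hI :=
    Injective.of_iso ((pullIsoRestr j).symm.app I)
      ((EtShriek.restrAlong j).injective_obj_of_injective hI)

omit hj in
/-- `f_*` preserves injectives, for any morphism `f`. -/
theorem push_preservesInjectives {X Y : Scheme.{u}} (f : X ⟶ Y) :
    (EtCoh.push f).PreservesInjectiveObjects := by
  have : PreservesFiniteLimits (EtCoh.pull f) := Groth.Agent.S0101.result f
  have : (EtCoh.pull f).PreservesMonomorphisms := inferInstance
  exact Functor.preservesInjectiveObjects_of_adjunction_of_preservesMonomorphisms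
    (EtCoh.pullPushAdj f)

end Groth.Agent.Lib.Helper4.EtRestr
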