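import Groth.Agent.Lib.Helper33.DeltaPrecomp
import Mathlib.CategoryTheory.Preadditive.Injective.Basic
import Mathlib.CategoryTheory.Adjunction.Limits

/-!
# `Ext` and equivalences of abelian categories

For an equivalence `Φ : A ≌ B` of abelian categories (with enough injectives) and `Z : A`,
`Extⁿ_A(Z, -) ≅ Φ ⋙ Extⁿ_B(Φ Z, -)` as functors, by universality of δ-functors.
-/

set_option autoImplicit false
universe v u u'
open CategoryTheory CategoryTheory.Limits Opposite Abelian DeltaF

namespace Groth.Agent.Lib.Helper4.ExtEquiv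

open Groth.Agent.Lib.Helper33.ExtDelta

variable {A : Type u} [Category.{v} A] [Abelian A] [HasExt.{v} A]
  [EnoughInjectives A]
  {B : Type u'} [Category.{v} B] [Abelian B] [HasExt.{v} B]
  (Φ : A ≌ B) [Φ.functor.Additive] (Z : A)

/-- `Hom(Z, -) ≅ Φ ⋙ Hom(Φ Z, -)` -/
noncomputable def coyonedaEquivIso :
    preadditiveCoyoneda.obj (op Z) ≅
      Φ.functor ⋙ preadditiveCoyoneda.obj (op (Φ.functor.obj Z)) :=
  NatIso.ofComponents
    (fun N => (AddEquiv.ofBijective (Φ.functor.mapAddHom (X := Z) (Y := N))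
      ⟨Φ.functor.map_injective, Φ.functor.map_surjective⟩).toAddCommGrpIso)
    (by
      intro N N' f
      ext (g : Z ⟶ N)
      exact Φ.functor.map_comp g f)

/-- **`Extⁿ(Z, -) ≅ Φ ⋙ Extⁿ(Φ Z, -)` for an equivalence `Φ`.** -/
theorem nonempty_extFunctor_iso (n : ℕ) :
    Nonempty ((extFunctor.{v} n).obj (op Z) ≅
      Φ.functor ⋙ (extFunctor.{v} n).obj (op (Φ.functor.obj Z))) := by
  have hT' : (precompDelta Φ.functor (extDelta.{v} (Φ.functor.obj Z))).IsUniversal := by
    apply Groth.Agent.S6773.result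
    rw [Groth.Agent.S14349.result]
    intro n I hI
    have : Injective (Φ.functor.obj I) :=
      Injective.injective_of_adjoint Φ.symm.toAdjunction I
    have : Subsingleton (Ext.{v} (Φ.functor.obj Z) (Φ.functor.obj I) (n + 1)) :=
      subsingleton_of_forall_eq 0 (fun x => Ext.eq_zero_of_injective x)
    exact AddCommGrpCat.isZero_of_subsingleton
      (AddCommGrpCat.of (Ext.{v} (Φ.functor.obj Z) (Φ.functor.obj I) (n + 1)))
  exact nonempty_iso_of_isUniversal (extDelta.{v} Z)
    (precompDelta Φ.functor (extDelta.{v} (Φ.functor.obj Z))) (extDelta_isUniversal Z) hT'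
    ((coyonedaIsoExtZero Z).symm ≪≫ coyonedaEquivIso Φ Z ≪≫
      Functor.isoWhiskerLeft Φ.functor (coyonedaIsoExtZero (Φ.functor.obj Z))) n

end Groth.Agent.Lib.Helper4.ExtEquiv
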