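import Groth.Agent.Lib.Lead.ExtDelta
import Mathlib.Algebra.Homology.ShortComplex.ExactFunctor
import Mathlib.Algebra.Homology.ShortComplex.PreservesHomology
import Mathlib.CategoryTheory.Abelian.FunctorCategory
import Mathlib.Algebra.Category.Grp.Abelian

/-!
# δ-functors: families of `Ext` δ-functors and postcomposition with exact functors

* `extFamilyDelta Z`: for a functor `Z : C ⥤ A`, the presheaf-valued cohomological δ-functor
  `N ↦ (U ↦ Extⁿ(Z U, N))` from `A` to `Cᵒᵖ ⥤ Ab`.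
* `postcompExact E T`: postcomposition of a δ-functor with an exact functor.
-/

set_option autoImplicit false
universe w v u v' u' v'' u''
open CategoryTheory CategoryTheory.Limits Opposite

namespace Groth.Agent.Lib.Helper4.DeltaFamily

open Abelian Groth.Agent.Lib.Lead.ExtDelta

section Evaluation

lemma shortComplex_exact_of_evaluation {T : Type*} [Category T] {V : Type*} [Category V] [Abelian V]
    (S : ShortComplex (T ⥤ V))
    (h : ∀ t : T, (S.map ((evaluation T V).obj t)).Exact) : S.Exact := by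
  rw [ShortComplex.exact_iff_isZero_homology, Functor.isZero_iff]
  intro t
  have e := S.mapHomologyIso ((evaluation T V).obj t)
  exact (Iso.isZero_iff e).1 ((ShortComplex.exact_iff_isZero_homology _).1 (h t))

end Evaluation

section Family

variable {A : Type u} [Category.{v} A] [Abelian A] [HasExt.{w} A]
  {C : Type u'} [Category.{v'} C] (Z : C ⥤ A)

/-- the functor `N ↦ (U ↦ Extⁿ(Z U, N))` -/
noncomputable abbrev extFamily (n : ℕ) : A ⥤ Cᵒᵖ ⥤ AddCommGrpCat.{w} :=
  (Z.op ⋙ extFunctor.{w} n).flip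

instance (n : ℕ) : (extFamily Z n).Additive where
  map_add {N N' f g} := by
    ext U : 2
    exact (extFunctorObj (Z.obj U.unop) n).map_add

/-- the connecting morphisms -/
noncomputable def extFamilyδ (S : ShortComplex A) (hS : S.ShortExact) (n₀ n₁ : ℕ)
    (h : n₀ + 1 = n₁) : (extFamily Z n₀).obj S.X₃ ⟶ (extFamily Z n₁).obj S.X₁ where
  app U := (extDeltaFunctor.{w} (Z.obj U.unop)).δ S hS n₀ n₁ h
  naturality U V f := by
    ext x
    change ((Ext.mk₀ (Z.map f.unop)).comp x (zero_add n₀)).comp hS.extClass h =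
      (Ext.mk₀ (Z.map f.unop)).comp (x.comp hS.extClass h) (zero_add n₁)
    exact Ext.comp_assoc _ _ _ (zero_add n₀) h (by omega)

/-- **The presheaf-valued δ-functor** `N ↦ (U ↦ Extⁿ(Z U, N))`. -/
noncomputable def extFamilyDelta : DeltaF.CohDeltaFunctor A (Cᵒᵖ ⥤ AddCommGrpCat.{w}) ℕ where
  F n := extFamily Z n
  additive n := inferInstance
  δ S hS n₀ n₁ h := extFamilyδ Z S hS n₀ n₁ h
  δ_natural {S S'} hS hS' φ n₀ n₁ h := by
    ext U : 2
    exact (extDeltaFunctor.{w} (Z.obj U.unop)).δ_natural hS hS' φ n₀ n₁ h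
  exact₂ S hS n := shortComplex_exact_of_evaluation _
    (fun U => (extDeltaFunctor.{w} (Z.obj U.unop)).exact₂ S hS n)
  comp_δ S hS n₀ n₁ h := by
    ext U : 2
    exact (extDeltaFunctor.{w} (Z.obj U.unop)).comp_δ S hS n₀ n₁ h
  exact₃ S hS n₀ n₁ h := shortComplex_exact_of_evaluation _
    (fun U => (extDeltaFunctor.{w} (Z.obj U.unop)).exact₃ S hS n₀ n₁ h)
  δ_comp S hS n₀ n₁ h := by
    ext U : 2
    exact (extDeltaFunctor.{w} (Z.obj U.unop)).δ_comp S hS n₀ n₁ h
  exact₁ S hS n₀ n₁ h := shortComplex_exact_of_evaluation _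
    (fun U => (extDeltaFunctor.{w} (Z.obj U.unop)).exact₁ S hS n₀ n₁ h)

end Family

section Postcomp

variable {A : Type u} [Category.{v} A] [Abelian A] {B : Type u'} [Category.{v'} B] [Abelian B]
  {D : Type u''} [Category.{v''} D] [Abelian D]

/-- Postcomposition of a δ-functor with an exact functor. -/
noncomputable def postcompExact (E : B ⥤ D) [E.Additive] [PreservesFiniteLimits E]
    [PreservesFiniteColimits E] (T : DeltaF.CohDeltaFunctor A B ℕ) :
    DeltaF.CohDeltaFunctor A D ℕ where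
  F n := T.F n ⋙ E
  additive n := inferInstance
  δ S hS n₀ n₁ h := E.map (T.δ S hS n₀ n₁ h)
  δ_natural {S S'} hS hS' φ n₀ n₁ h := by
    change E.map ((T.F n₀).map φ.τ₃) ≫ E.map _ = E.map _ ≫ E.map ((T.F n₁).map φ.τ₁)
    rw [← E.map_comp, ← E.map_comp, T.δ_natural hS hS' φ n₀ n₁ h]
  exact₂ S hS n := (T.exact₂ S hS n).map E
  comp_δ S hS n₀ n₁ h := by
    change E.map ((T.F n₀).map S.g) ≫ E.map _ = 0
    rw [← E.map_comp, T.comp_δ S hS n₀ n₁ h, E.map_zero]
  exact₃ S hS n₀ n₁ h := (T.exact₃ S hS n₀ n₁ h).map E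
  δ_comp S hS n₀ n₁ h := by
    change E.map _ ≫ E.map ((T.F n₁).map S.f) = 0
    rw [← E.map_comp, T.δ_comp S hS n₀ n₁ h, E.map_zero]
  exact₁ S hS n₀ n₁ h := (T.exact₁ S hS n₀ n₁ h).map E

end Postcomp

end Groth.Agent.Lib.Helper4.DeltaFamily
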