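import Groth.Prelude.Def_CohSite
import Groth.Agent.S0487
import Groth.Agent.Lib.Helper33.DeltaPrecomp
import Groth.Agent.Lib.Helper4.DeltaFamily
import Groth.Agent.S14349
import Groth.Agent.S16465
import Groth.Agent.S6773

/-!
# `R^p f_* ≅ (N ↦ (V ↦ H^p(u V, N))^#)` as functors

Kernel-performance note: object-level definitional equalities between functors whose instance
arguments are syntactically different (e.g. abstracted `_proof_n` versus explicit instance terms) are
extremely slow in the kernel; everything here is phrased so that only functor-level equalities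
(`rfl` between functors, then `rw`) and generic lemmas are used.
-/

set_option autoImplicit false
universe u
open CategoryTheory
open CohSite

namespace Groth.Agent.Lib.Helper4.RpushDelta

open Opposite CategoryTheory.Limits CategoryTheory.Abelian DeltaF
  Groth.Agent.Lib.Helper4.DeltaFamily Groth.Agent.Lib.Helper5

section Generic

variable {C D : Type u} [SmallCategory C] [SmallCategory D] {A : Type*} [Category A]

/-- generic: evaluating `G ⋙ (- ∘ u)` at `V` is evaluating the flipped `G` at `u V`. -/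
noncomputable def flipObjIso (G : A ⥤ Cᵒᵖ ⥤ AddCommGrpCat.{u}) (u : D ⥤ C) (V : D) :
    (G ⋙ (Functor.whiskeringLeft Dᵒᵖ Cᵒᵖ AddCommGrpCat.{u}).obj u.op) ⋙
      (evaluation Dᵒᵖ AddCommGrpCat.{u}).obj (op V) ≅ G.flip.obj (op (u.obj V)) :=
  NatIso.ofComponents (fun _ => Iso.refl _) (by intros; simp)

end Generic

section

variable {C D : Type u} [SmallCategory C] [SmallCategory D]
  (J : GrothendieckTopology C) (K : GrothendieckTopology D) (u : D ⥤ C) [u.IsContinuous K J]

/-- `U ↦ ℤ_U` -/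
noncomputable abbrev Zfun : C ⥤ Sheaf J AddCommGrpCat.{u} :=
  yoneda ⋙ (Functor.whiskeringRight _ _ _).obj AddCommGrpCat.free ⋙
    presheafToSheaf J AddCommGrpCat.{u}

lemma extFamily_eq (n : ℕ) :
    extFamily.{u} (Zfun J) n = Sheaf.cohomologyPresheafFunctor.{u} J n := rfl

lemma cPF_map_app_apply {N N' : Sheaf J AddCommGrpCat.{u}} (f : N ⟶ N') (n : ℕ) (U : Cᵒᵖ)
    (x : Ext.{u} (SiteCoh.freeSheaf J U.unop) N n) :
    ((Sheaf.cohomologyPresheafFunctor.{u} J n).map f).app U x =
      x.comp (Ext.mk₀ f) (add_zero n) := rfl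

lemma zeroIso_hom_app_apply (N : Sheaf J AddCommGrpCat.{u}) (U : Cᵒᵖ)
    (x : Ext.{u} (SiteCoh.freeSheaf J U.unop) N 0) :
    (SiteCoh.zeroIso N).hom.app U x = SiteCoh.βAdd U.unop N (Ext.addEquiv₀ x) := rfl

lemma zeroIso_natural {N N' : Sheaf J AddCommGrpCat.{u}} (f : N ⟶ N') :
    (Sheaf.cohomologyPresheafFunctor.{u} J 0).map f ≫ (SiteCoh.zeroIso N').hom =
      (SiteCoh.zeroIso N).hom ≫ f.hom := by
  ext U x
  rw [NatTrans.comp_app, NatTrans.comp_app, ConcreteCategory.comp_apply,
    ConcreteCategory.comp_apply]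
  obtain ⟨φ, rfl⟩ := (Ext.mk₀_bijective (SiteCoh.freeSheaf J U.unop) N).2 x
  rw [cPF_map_app_apply, zeroIso_hom_app_apply, zeroIso_hom_app_apply, Ext.mk₀_comp_mk₀,
    SiteCoh.addEquiv₀_mk₀, SiteCoh.addEquiv₀_mk₀, SiteCoh.βAdd_naturality]

/-- degree zero: `H⁰(-, N) ≅ N` naturally in `N` -/
theorem nonempty_zeroNatIso :
    Nonempty (Sheaf.cohomologyPresheafFunctor.{u} J 0 ≅ sheafToPresheaf J AddCommGrpCat.{u}) :=
  ⟨NatIso.ofComponents (fun N => SiteCoh.zeroIso N) (fun f => zeroIso_natural J f)⟩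

/-- the δ-functor `N ↦ (V ↦ Hⁿ(u V, N))^#` -/
noncomputable def T' : CohDeltaFunctor (Sheaf J AddCommGrpCat.{u}) (Sheaf K AddCommGrpCat.{u}) ℕ :=
  postcompExact (Groth.Agent.S0487.E K u) (extFamilyDelta.{u} (Zfun J))

lemma T'_F (n : ℕ) :
    (T' J K u).F n = extFamily.{u} (Zfun J) n ⋙ Groth.Agent.S0487.E K u := rfl

lemma T'_isUniversal : (T' J K u).IsUniversal := by
  apply Groth.Agent.S6773.result
  rw [Groth.Agent.S14349.result]
  intro n I hI
  have hz : IsZero ((extFamily.{u} (Zfun J) (n + 1)).obj I) := by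
    rw [Functor.isZero_iff]
    intro U
    have : Subsingleton (Ext.{u} ((Zfun J).obj U.unop) I (n + 1)) :=
      subsingleton_of_forall_eq 0 (fun x => Ext.eq_zero_of_injective x)
    exact @AddCommGrpCat.isZero_of_subsingleton
      (((extFamily.{u} (Zfun J) (n + 1)).obj I).obj U) this
  rw [T'_F, Functor.comp_obj]
  exact Functor.map_isZero (Groth.Agent.S0487.E K u) hz

/-- degree zero of `T'` is the direct image -/
theorem nonempty_T'ZeroIso : Nonempty (CohSite.push J K u ≅ (T' J K u).F 0) := by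
  obtain ⟨z⟩ := nonempty_zeroNatIso J
  rw [T'_F]
  exact ⟨Groth.Agent.S0487.θ J K u ≪≫
    Functor.isoWhiskerRight (eqToIso (extFamily_eq J 0) ≪≫ z).symm (Groth.Agent.S0487.E K u)⟩

open Groth.Agent.Lib.Helper83 Groth.Agent.Lib.Helper33.ExtDelta in
/-- **`R^p f_* ≅ (N ↦ (V ↦ H^p(u V, N))^#)` as functors.** -/
theorem nonempty_Rpush_iso (p : ℕ) :
    Nonempty (CohSite.Rpush J K u p ≅
      extFamily.{u} (Zfun J) p ⋙ Groth.Agent.S0487.E K u) := by
  have hlim : PreservesFiniteLimits (CohSite.push J K u) := by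
    have : (CohSite.push J K u).IsRightAdjoint := inferInstance
    infer_instance
  obtain ⟨z⟩ := nonempty_T'ZeroIso J K u
  have := nonempty_iso_of_isUniversal (derivedLES (CohSite.push J K u)).toCohDeltaFunctor
    (T' J K u) (Groth.Agent.S16465.result _ _) (T'_isUniversal J K u)
    ((CohSite.push J K u).rightDerivedZeroIsoSelf ≪≫ z) p
  rw [T'_F] at this
  exact this

end

end Groth.Agent.Lib.Helper4.RpushDelta
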