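import Groth.Agent.Lib.Helper4.EtaleSmallSite
import Groth.Agent.Lib.Helper4.ExtEquiv
import Groth.Agent.Lib.Helper4.RpushDelta
import Groth.Agent.S0862
import Groth.Prelude.Def_EtCore
import Mathlib.CategoryTheory.Sites.ConstantSheaf
import Mathlib.GroupTheory.FreeAbelianGroup

/-!
# Transfer of "cohomology commutes with filtered colimits" to the small étale site
-/

set_option autoImplicit false
open CategoryTheory CategoryTheory.Limits AlgebraicGeometry Opposite Abelian
universe w' w v u

namespace Groth.Agent.Lib.Helper4.EtaleTransfer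

open Groth.Agent.Lib.Helper4.EtaleSmallSite Groth.Agent.Lib.Helper4.DeltaFamily

section Generic

/-- `Sheaf.functorH` is an `Ext` functor -/
lemma functorH_eq_extFunctor {C : Type u} [Category.{v} C] (J : GrothendieckTopology C)
    [HasSheafify J AddCommGrpCat.{w}] [HasExt.{w'} (Sheaf J AddCommGrpCat.{w})] (n : ℕ) :
    Sheaf.functorH.{w', w} J n =
      (extFunctor.{w'} n).obj (op ((constantSheaf J AddCommGrpCat.{w}).obj
        (AddCommGrpCat.of (ULift ℤ)))) := rfl

/-- evaluating the flipped family at `T` is `Ext(Z T, -)` -/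
noncomputable def extFamilyFlipObjIso {A : Type u} [Category.{v} A] [Abelian A] [HasExt.{w} A]
    {C : Type*} [Category C] (Z : C ⥤ A) (n : ℕ) (T : C) :
    (extFamily.{w} Z n).flip.obj (op T) ≅ (extFunctor.{w} n).obj (op (Z.obj T)) :=
  NatIso.ofComponents (fun _ => Iso.refl _) (by intros; simp)

/-- on a small site with terminal object `T`, the constant sheaf `ℤ` is the free sheaf on `T` -/
theorem nonempty_constantSheaf_iso_free {C : Type u} [SmallCategory C]
    (J : GrothendieckTopology C) {T : C} (hT : IsTerminal T) :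
    Nonempty ((constantSheaf J AddCommGrpCat.{u}).obj (AddCommGrpCat.of (ULift.{u} ℤ)) ≅
      (presheafToSheaf J AddCommGrpCat.{u}).obj (yoneda.obj T ⋙ AddCommGrpCat.free.{u})) := by
  let i1 : yoneda.obj T ≅ (Functor.const Cᵒᵖ).obj PUnit.{u + 1} :=
    NatIso.ofComponents (fun U =>
      Equiv.toIso (X := (U.unop ⟶ T)) (Y := PUnit.{u + 1})
        { toFun := fun _ => PUnit.unit
          invFun := fun _ => hT.from _
          left_inv := fun _ => hT.hom_ext _ _
          right_inv := fun _ => rfl }) (by intros; rfl)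
  let i2 : AddCommGrpCat.free.{u}.obj PUnit.{u + 1} ≅ AddCommGrpCat.of (ULift.{u} ℤ) :=
    ((FreeAbelianGroup.uniqueEquiv PUnit.{u + 1}).trans AddEquiv.ulift.symm).toAddCommGrpIso
  let i3 : yoneda.obj T ⋙ AddCommGrpCat.free.{u} ≅
      (Functor.const Cᵒᵖ).obj (AddCommGrpCat.of (ULift.{u} ℤ)) :=
    Functor.isoWhiskerRight i1 AddCommGrpCat.free.{u} ≪≫ Functor.constComp _ _ _ ≪≫
      (Functor.const Cᵒᵖ).mapIso i2
  exact ⟨(presheafToSheaf J AddCommGrpCat.{u}).mapIso i3.symm⟩

end Generic

section Etale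

universe u₀

variable (X : Scheme.{u₀})

open Groth.Agent.Lib.Helper4.RpushDelta Groth.Agent.Lib.Helper4.ExtEquiv

/-- the equivalence of sheaf categories -/
noncomputable abbrev Φ : Sheaf X.smallEtaleTopology AddCommGrpCat.{u₀ + 1} ≌
    Sheaf (J' X) AddCommGrpCat.{u₀ + 1} :=
  (eqv X).sheafCongr X.smallEtaleTopology (J' X) AddCommGrpCat.{u₀ + 1}

noncomputable instance : (Φ X).functor.Additive :=
  Functor.additive_of_preserves_binary_products _

/-- the terminal object of the small model -/
noncomputable abbrev top' : C' X := ULiftHom.objUp (EtCoh.top X)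

/-- it is terminal -/
noncomputable def top'IsTerminal : IsTerminal (top' X) :=
  IsTerminal.isTerminalObj (eqv X).functor _ (EtCore.topIsTerminal X)

lemma top'_mem : top' X ∈ B' X :=
  ⟨(inferInstance : QuasiCompact (𝟙 X)), (inferInstance : QuasiSeparated (𝟙 X))⟩

theorem nonempty_constantSheaf_comp_iso :
    Nonempty (constantSheaf X.smallEtaleTopology AddCommGrpCat.{u₀ + 1} ⋙ (Φ X).functor ≅
      constantSheaf (J' X) AddCommGrpCat.{u₀ + 1}) := by
  let adj1 := (constantSheafAdj X.smallEtaleTopology AddCommGrpCat.{u₀ + 1}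
    (EtCore.topIsTerminal X)).comp (Φ X).toAdjunction
  let adj2 := constantSheafAdj (J' X) AddCommGrpCat.{u₀ + 1} (top'IsTerminal X)
  let i : (Φ X).inverse ⋙ (sheafSections X.smallEtaleTopology AddCommGrpCat.{u₀ + 1}).obj
        (op (EtCoh.top X)) ≅
      (sheafSections (J' X) AddCommGrpCat.{u₀ + 1}).obj (op (top' X)) :=
    NatIso.ofComponents (fun _ => Iso.refl _) (by intros; rfl)
  exact ⟨adj1.leftAdjointUniq (adj2.ofNatIsoRight i.symm)⟩

/-- **Étale cohomology of a qcqs scheme commutes with filtered colimits** (index category in the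
universe of the sheaves). -/
theorem preservesColimitsOfShape_functorH [CompactSpace X] [QuasiSeparatedSpace X] (n : ℕ)
    (I : Type (u₀ + 1)) [SmallCategory I] [IsFiltered I] :
    PreservesColimitsOfShape I
      (Sheaf.functorH.{u₀ + 1, u₀ + 1} X.smallEtaleTopology n) := by
  obtain ⟨e1⟩ := nonempty_extFunctor_iso (Φ X)
    ((constantSheaf X.smallEtaleTopology AddCommGrpCat.{u₀ + 1}).obj
      (AddCommGrpCat.of (ULift ℤ))) n
  obtain ⟨c1⟩ := nonempty_constantSheaf_comp_iso X
  obtain ⟨c2⟩ := nonempty_constantSheaf_iso_free (J' X) (top'IsTerminal X)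
  let iZ : (Φ X).functor.obj ((constantSheaf X.smallEtaleTopology AddCommGrpCat.{u₀ + 1}).obj
      (AddCommGrpCat.of (ULift ℤ))) ≅ (Zfun (J' X)).obj (top' X) :=
    c1.app _ ≪≫ c2
  let e2 := (extFunctor.{u₀ + 1} n).mapIso iZ.symm.op
  let e3 := (extFamilyFlipObjIso.{u₀ + 1} (Zfun (J' X)) n (top' X)).symm
  have hG : PreservesColimitsOfShape I
      ((extFamily.{u₀ + 1} (Zfun (J' X)) n).flip.obj (op (top' X))) := by
    rw [extFamily_eq]
    exact ⟨fun {F} => Groth.Agent.S0862.result.{u₀ + 1} (J' X) (B' X) (Cov' X) cov_h1 cov_h2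
      (top' X) (top'_mem X) n I F⟩
  rw [functorH_eq_extFunctor]
  exact preservesColimitsOfShape_of_natIso
    (e1 ≪≫ Functor.isoWhiskerLeft (Φ X).functor (e2 ≪≫ e3)).symm

end Etale

end Groth.Agent.Lib.Helper4.EtaleTransfer
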