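import Mathlib.RingTheory.Spectrum.Prime.Topology
import Mathlib.Topology.Connected.TotallyDisconnected
import Mathlib.Topology.Connected.Separation

/-! Spectra with no nontrivial specializations are profinite. -/

set_option autoImplicit false
universe u

namespace Groth.Agent.Lib.Helper4

open PrimeSpectrum

/-- If there are no strict inclusions between primes of `B`, every basic open of `Spec B` is clopen. -/
theorem isClopen_basicOpen_of_incomparable (B : Type u) [CommRing B]
    (h : ∀ q q' : PrimeSpectrum B, q ≤ q' → q = q') (b : B) :
    IsClopen (basicOpen b : Set (PrimeSpectrum B)) := by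
  refine ⟨?_, (basicOpen b).isOpen⟩
  rw [← localization_away_comap_range (Localization.Away b) b]
  apply isClosed_range_of_stableUnderSpecialization
  intro x y hxy hx
  rw [← le_iff_specializes] at hxy
  rwa [← h x y hxy]

/-- If there are no strict inclusions between primes of `B`, `Spec B` is totally separated. -/
theorem totallySeparatedSpace_of_incomparable (B : Type u) [CommRing B]
    (h : ∀ q q' : PrimeSpectrum B, q ≤ q' → q = q') :
    TotallySeparatedSpace (PrimeSpectrum B) := by
  rw [totallySeparatedSpace_iff_exists_isClopen]
  intro x y hxy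
  have hnle : ¬ y ≤ x := fun hle => hxy (h y x hle).symm
  rw [← asIdeal_le_asIdeal, SetLike.not_le_iff_exists] at hnle
  obtain ⟨b, hby, hbx⟩ := hnle
  refine ⟨basicOpen b, isClopen_basicOpen_of_incomparable B h b, hbx, ?_⟩
  simp only [Set.mem_compl_iff, SetLike.mem_coe, mem_basicOpen, not_not]
  exact hby

end Groth.Agent.Lib.Helper4

namespace Groth.Agent.Lib.Helper4

open PrimeSpectrum

/-- If `Spec A` is T1 and primes of `B` in the same fibre over `A` are incomparable, then `Spec B` is
compact, Hausdorff and totally disconnected. -/
theorem profinite_of_fibres_incomparable (A B : Type u) [CommRing A] [CommRing B]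
    [Algebra A B] [T1Space (PrimeSpectrum A)]
    (h : ∀ q q' : PrimeSpectrum B, q.asIdeal.comap (algebraMap A B) = q'.asIdeal.comap (algebraMap A B) →
      q.asIdeal ≤ q'.asIdeal → q = q') :
    CompactSpace (PrimeSpectrum B) ∧ T2Space (PrimeSpectrum B) ∧
      TotallyDisconnectedSpace (PrimeSpectrum B) := by
  have hB : ∀ q q' : PrimeSpectrum B, q ≤ q' → q = q' := by
    intro q q' hqq'
    refine h q q' ?_ hqq'
    have h1 : comap (algebraMap A B) q ≤ comap (algebraMap A B) q' := Ideal.comap_mono hqq'
    rw [le_iff_specializes] at h1
    exact congrArg PrimeSpectrum.asIdeal h1.eq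
  have := totallySeparatedSpace_of_incomparable B hB
  exact ⟨inferInstance, inferInstance, inferInstance⟩

end Groth.Agent.Lib.Helper4
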