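import Groth.Agent.S0862
import Mathlib.Topology.Spectral.Prespectral
import Mathlib.Topology.QuasiSeparated

set_option autoImplicit false
universe u
open CategoryTheory TopologicalSpace Opposite CategoryTheory.Limits

namespace Groth.Agent.Lib.Helper4.ColimCohQS

variable {X : TopCat.{u}}

lemma prod_left_eq {W : Opens X} {κ : Type u} (Y : κ → Over W) (n : ℕ) (a : Fin (n + 1) → κ) :
    ((∏ᶜ fun k => Y (a k)).left : Opens X) = ⨅ k, (Y (a k)).left := by
  apply le_antisymm
  · apply le_iInf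
    intro k
    exact leOfHom (Pi.π (fun k => Y (a k)) k).left
  · let Z : Over W := Over.mk (homOfLE ((iInf_le _ 0).trans (leOfHom (Y (a 0)).hom)) :
      (⨅ k, (Y (a k)).left) ⟶ W)
    let f : ∀ k, Z ⟶ Y (a k) := fun k => Over.homMk (homOfLE (iInf_le _ k)) (Subsingleton.elim _ _)
    exact leOfHom (Pi.lift f).left

lemma isCompact_biInter_of_isQuasiSeparated {W₀ : Set X} (hqs : IsQuasiSeparated W₀)
    {κ : Type*} (V : κ → Opens X) (hV : ∀ k, (V k : Set X) ⊆ W₀ ∧ IsCompact (V k : Set X))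
    (s : Finset κ) (hs : s.Nonempty) :
    IsCompact (⋂ k ∈ s, (V k : Set X)) ∧ IsOpen (⋂ k ∈ s, (V k : Set X)) ∧
      (⋂ k ∈ s, (V k : Set X)) ⊆ W₀ := by
  induction hs using Finset.Nonempty.cons_induction with
  | singleton a =>
    have e : (⋂ k ∈ ({a} : Finset κ), (V k : Set X)) = (V a : Set X) := by simp
    rw [e]
    exact ⟨(hV a).2, (V a).isOpen, (hV a).1⟩
  | cons a s ha hs ih =>
    have e : (⋂ k ∈ Finset.cons a s ha, (V k : Set X)) =
        (V a : Set X) ∩ ⋂ k ∈ s, (V k : Set X) := by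
      simp
    rw [e]
    refine ⟨hqs _ _ (hV a).1 (V a).isOpen (hV a).2 ih.2.2 ih.2.1 ih.1, (V a).isOpen.inter ih.2.1,
      Set.inter_subset_left.trans (hV a).1⟩

lemma isCompact_iInf_of_isQuasiSeparated {W₀ : Set X} (hqs : IsQuasiSeparated W₀)
    (n : ℕ) (V : Fin (n + 1) → Opens X)
    (hV : ∀ k, (V k : Set X) ⊆ W₀ ∧ IsCompact (V k : Set X)) :
    IsCompact ((⨅ k, V k : Opens X) : Set X) := by
  have h : ((⨅ k, V k : Opens X) : Set X) = ⋂ k ∈ (Finset.univ : Finset (Fin (n + 1))),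
      (V k : Set X) := by
    rw [Opens.coe_iInf]
    simp
  rw [h]
  exact (isCompact_biInter_of_isQuasiSeparated hqs V hV Finset.univ Finset.univ_nonempty).1

/-- the class of compact opens inside `W₀` -/
def Bc (W₀ : Opens X) : Set (Opens X) := {W | IsCompact (W : Set X) ∧ W ≤ W₀}

/-- finite covering families by compact opens of compact opens inside `W₀` -/
def Covc (W₀ : Opens X) (W : Opens X) (κ : Type u) (Y : κ → Over W) : Prop :=
  Finite κ ∧ (IsCompact (W : Set X) ∧ W ≤ W₀) ∧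
    Sieve.ofArrows (fun i => (Y i).left) (fun i => (Y i).hom) ∈ Opens.grothendieckTopology X W ∧
    ∀ i, IsCompact ((Y i).left : Set X)

/-- On a prespectral space, cohomology over a compact open contained in a quasi-separated open
commutes with filtered colimits of abelian sheaves. -/
theorem preservesColimit_cohomology_of_isQuasiSeparated [PrespectralSpace X]
    (W₀ : Opens X) (hqs : IsQuasiSeparated (W₀ : Set X))
    (U : Opens X) (hU : IsCompact (U : Set X)) (hUW : U ≤ W₀)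
    (q : ℕ) (I : Type u) [SmallCategory I] [IsFiltered I]
    (F : I ⥤ Sheaf (Opens.grothendieckTopology X) AddCommGrpCat.{u}) :
    PreservesColimit F
      ((Sheaf.cohomologyPresheafFunctor (Opens.grothendieckTopology X) q).flip.obj (op U)) := by
  refine Groth.Agent.S0862.result (Opens.grothendieckTopology X) (Bc W₀) (Covc W₀) ?_ ?_ U
    ⟨hU, hUW⟩ q I F
  · -- h1
    rintro W κ Y ⟨hfin, hW, hcov, hY⟩
    refine ⟨hfin, hW, hcov, fun n a => ?_⟩
    change IsCompact (((∏ᶜ fun k => Y (a k)).left : Opens X) : Set X) ∧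
      ((∏ᶜ fun k => Y (a k)).left : Opens X) ≤ W₀
    rw [prod_left_eq Y n a]
    have hle : ∀ k, ((Y (a k)).left : Opens X) ≤ W₀ := fun k =>
      (leOfHom (Y (a k)).hom).trans hW.2
    exact ⟨isCompact_iInf_of_isQuasiSeparated hqs n _ (fun k => ⟨hle k, hY (a k)⟩),
      (iInf_le _ 0).trans (hle 0)⟩
  · -- h2
    rintro W ⟨hW, hWW₀⟩ T hT
    rw [Opens.mem_grothendieckTopology] at hT
    choose V f hf hxV using hT
    have hK : ∀ (x : X) (hx : x ∈ W), ∃ K : Set X, IsCompact K ∧ IsOpen K ∧ {x} ⊆ K ∧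
        K ⊆ (V x hx : Set X) := fun x hx =>
      PrespectralSpace.exists_isCompact_and_isOpen_between isCompact_singleton (V x hx).isOpen
        (Set.singleton_subset_iff.2 (hxV x hx))
    choose K hKc hKo hxK hKV using hK
    obtain ⟨t, ht⟩ := IsCompact.elim_finite_subcover (ι := ↥W) hW (fun x => K x.1 x.2)
      (fun x => hKo x.1 x.2) (fun x hx => Set.mem_iUnion.2 ⟨⟨x, hx⟩, hxK x hx rfl⟩)
    have hKW : ∀ x : ↥W, (⟨K x.1 x.2, hKo x.1 x.2⟩ : Opens X) ≤ W := fun x y hy =>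
      (leOfHom (f x.1 x.2)) (hKV x.1 x.2 hy)
    let Y : {x // x ∈ t} → Over W := fun x => Over.mk (homOfLE (hKW x.1))
    refine ⟨{x // x ∈ t}, Y, ⟨inferInstance, ⟨hW, hWW₀⟩, ?_, fun x => hKc x.1.1 x.1.2⟩,
      fun x => ?_⟩
    · rw [Opens.mem_grothendieckTopology]
      intro y hy
      obtain ⟨x, hxt, hyx⟩ : ∃ x ∈ t, y ∈ K x.1 x.2 := by
        have := ht hy
        simpa only [Set.mem_iUnion, exists_prop] using this
      exact ⟨(Y ⟨x, hxt⟩).left, (Y ⟨x, hxt⟩).hom, Sieve.ofArrows_mk _ _ (⟨x, hxt⟩ : {x // x ∈ t}), hyx⟩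
    · have hle : (⟨K x.1.1 x.1.2, hKo x.1.1 x.1.2⟩ : Opens X) ≤ V x.1.1 x.1.2 :=
        fun y hy => hKV x.1.1 x.1.2 hy
      have h := T.downward_closed (hf x.1.1 x.1.2) (homOfLE hle)
      have e : homOfLE hle ≫ f x.1.1 x.1.2 = (Y x).hom := Subsingleton.elim _ _
      rw [e] at h
      exact h

end Groth.Agent.Lib.Helper4.ColimCohQS
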