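import Mathlib.CategoryTheory.Sites.Limits
import Mathlib.CategoryTheory.Sites.LocallyBijective
import Mathlib.CategoryTheory.Sites.Abelian
import Mathlib.Algebra.Category.Grp.FilteredColimits
import Mathlib.Algebra.Category.Grp.AB
import Mathlib.CategoryTheory.Limits.ConcreteCategory.Basic
import Mathlib.CategoryTheory.Sites.ConcreteSheafification
import Mathlib.CategoryTheory.Sites.SheafOfTypes
import Mathlib.CategoryTheory.Filtered.Basic

/-!
# Sections of a filtered colimit of abelian sheaves over quasi-compact objects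

Let `F : Λ ⥤ Sheaf J Ab` be a filtered diagram of abelian sheaves on a small site.  If `U` is
quasi-compact (every covering sieve contains a finite covering family), then a section of `F_j`
over `U` dying in the colimit sheaf dies at a later stage (`colimit_ι_eq_zero`).  If moreover
the finite covering families can be chosen with quasi-compact "overlaps", every section of the colimit
sheaf over `U` comes from a stage (`colimit_ι_surjective`).
-/

universe u

open CategoryTheory Limits Opposite

namespace Groth.Agent.Lib.Helper4.ColimSections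

section Filtered

variable {Λ : Type u} [SmallCategory Λ] [IsFiltered Λ]

/-- Common refinement for finitely many upward closed nonempty properties on the coslice `j/Λ`. -/
lemma exists_common {ι : Type*} [Finite ι] (j : Λ) (Q : ι → ∀ j' : Λ, (j ⟶ j') → Prop)
    (hup : ∀ (i : ι) (j' : Λ) (b : j ⟶ j') (j'' : Λ) (c : j' ⟶ j''), Q i j' b → Q i j'' (b ≫ c))
    (hne : ∀ i, ∃ (j' : Λ) (b : j ⟶ j'), Q i j' b) :
    ∃ (j' : Λ) (b : j ⟶ j'), ∀ i, Q i j' b := by
  classical
  have key : ∀ S : Finset ι, ∃ (j' : Λ) (b : j ⟶ j'), ∀ i ∈ S, Q i j' b := by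
    intro S
    induction S using Finset.induction_on with
    | empty => exact ⟨j, 𝟙 j, by simp⟩
    | insert i S _ ih =>
      obtain ⟨j1, b1, h1⟩ := ih
      obtain ⟨j2, b2, h2⟩ := hne i
      let l := IsFiltered.leftToMax j1 j2
      let r := IsFiltered.rightToMax j1 j2
      let e := IsFiltered.coeqHom (b1 ≫ l) (b2 ≫ r)
      refine ⟨_, b1 ≫ l ≫ e, ?_⟩
      intro i' hi'
      rcases Finset.mem_insert.1 hi' with rfl | hi'
      · have h := hup _ _ b2 _ (r ≫ e) h2
        have hc : b1 ≫ l ≫ e = b2 ≫ r ≫ e := by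
          have := IsFiltered.coeq_condition (b1 ≫ l) (b2 ≫ r)
          simpa only [Category.assoc] using this
        rw [hc]
        exact h
      · exact hup _ _ b1 _ (l ≫ e) (h1 _ hi')
  haveI := Fintype.ofFinite ι
  obtain ⟨j', b, h⟩ := key Finset.univ
  exact ⟨j', b, fun i => h i (Finset.mem_univ i)⟩

/-- A common upper bound of finitely many objects. -/
lemma exists_upper {ι : Type*} [Finite ι] (j : ι → Λ) : ∃ (k : Λ), ∀ i, Nonempty (j i ⟶ k) := by
  classical
  haveI := Fintype.ofFinite ι
  obtain ⟨k, hk⟩ := IsFiltered.sup_objs_exists (Finset.univ.image j)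
  exact ⟨k, fun i => hk (Finset.mem_image_of_mem j (Finset.mem_univ i))⟩

end Filtered

section Presheaf

variable {C : Type u} [SmallCategory C] {J : GrothendieckTopology C}
variable {Λ : Type u} [SmallCategory Λ] [IsFiltered Λ] (F : Λ ⥤ Sheaf J AddCommGrpCat.{u})

/-- the underlying diagram of presheaves -/
abbrev Fp : Λ ⥤ Cᵒᵖ ⥤ AddCommGrpCat.{u} := F ⋙ sheafToPresheaf J AddCommGrpCat.{u}

/-- the presheaf colimit cocone -/
noncomputable abbrev E : Cocone (Fp F) := colimit.cocone (Fp F)

/-- evaluation of the presheaf colimit cocone is a colimit -/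
noncomputable def evalIsColimit (V : C) :
    IsColimit (((evaluation Cᵒᵖ AddCommGrpCat.{u}).obj (op V)).mapCocone (E F)) :=
  isColimitOfPreserves _ (colimit.isColimit _)

lemma E_surj (V : C) (t : (E F).pt.obj (op V)) :
    ∃ (j : Λ) (s : (F.obj j).obj.obj (op V)), ((E F).ι.app j).app (op V) s = t :=
  Concrete.isColimit_exists_rep _ (evalIsColimit F V) t

lemma E_inj (V : C) (j : Λ) (s : (F.obj j).obj.obj (op V))
    (h : ((E F).ι.app j).app (op V) s = 0) :
    ∃ (j' : Λ) (a : j ⟶ j'), (F.map a).hom.app (op V) s = 0 := by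
  obtain ⟨k, f, g, hfg⟩ := Concrete.isColimit_exists_of_rep_eq
    (Fp F ⋙ (evaluation Cᵒᵖ AddCommGrpCat.{u}).obj (op V)) (evalIsColimit F V) s
    (0 : (F.obj j).obj.obj (op V)) (by
      refine Eq.trans h ?_
      exact (map_zero _).symm)
  refine ⟨k, f, ?_⟩
  refine Eq.trans hfg ?_
  exact map_zero _

variable (J) in
/-- quasi-compactness of an object, in terms of finite covering families -/
def IsQC (U : C) : Prop :=
  ∀ T ∈ J U, ∃ (ι : Type u) (_ : Finite ι) (Y : ι → Over U),
    (∀ i, T.arrows (Y i).hom) ∧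
      Sieve.ofArrows (fun i => (Y i).left) (fun i => (Y i).hom) ∈ J U

lemma isSheafFor_ofArrows (G : Sheaf J AddCommGrpCat.{u}) {U : C} {ι : Type u} (Y : ι → Over U)
    (hY : Sieve.ofArrows (fun i => (Y i).left) (fun i => (Y i).hom) ∈ J U) :
    Presieve.IsSheafFor (G.obj ⋙ forget AddCommGrpCat.{u})
      (Presieve.ofArrows (fun i => (Y i).left) (fun i => (Y i).hom)) := by
  have h1 : Presieve.IsSheaf J (G.obj ⋙ forget AddCommGrpCat.{u}) :=
    (isSheaf_iff_isSheaf_of_type J _).1
      ((Presheaf.isSheaf_iff_isSheaf_forget J G.obj (forget AddCommGrpCat.{u})).1 G.property)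
  exact (Presieve.isSheafFor_iff_generate _).2 (h1 _ hY)

/-- sections of a sheaf agreeing on a covering family are equal -/
lemma sheaf_ext_of_cover (G : Sheaf J AddCommGrpCat.{u}) {U : C} {ι : Type u} (Y : ι → Over U)
    (hY : Sieve.ofArrows (fun i => (Y i).left) (fun i => (Y i).hom) ∈ J U)
    (s t : G.obj.obj (op U))
    (h : ∀ i, G.obj.map (Y i).hom.op s = G.obj.map (Y i).hom.op t) : s = t := by
  refine (isSheafFor_ofArrows G Y hY).isSeparatedFor.ext ?_
  rintro _ _ ⟨i⟩
  exact h i

/-- **Separatedness at quasi-compact objects**: a section of `F_j` over a quasi-compact `U`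
which dies in the sheafification of the presheaf colimit dies at a later stage. -/
lemma eq_zero_of_toSheafify_eq_zero (U : C) (hU : IsQC J U) (j : Λ)
    (s : (F.obj j).obj.obj (op U))
    (h : (toSheafify J (E F).pt).app (op U) (((E F).ι.app j).app (op U) s) = 0) :
    ∃ (j' : Λ) (a : j ⟶ j'), (F.map a).hom.app (op U) s = 0 := by
  have hT := Presheaf.equalizerSieve_mem J (toSheafify J (E F).pt)
    (((E F).ι.app j).app (op U) s) 0 (h.trans (map_zero _).symm)
  obtain ⟨ι, _, Y, hYT, hY⟩ := hU _ hT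
  have h1 : ∀ i, ((E F).ι.app j).app (op (Y i).left) ((F.obj j).obj.map (Y i).hom.op s) = 0 := by
    intro i
    have h2 : (E F).pt.map (Y i).hom.op (((E F).ι.app j).app (op U) s) =
        (E F).pt.map (Y i).hom.op 0 := hYT i
    rw [map_zero] at h2
    rw [← h2]
    exact NatTrans.naturality_apply ((E F).ι.app j) (Y i).hom.op s
  obtain ⟨j', b, hb⟩ := exists_common j
    (fun (i : ι) (j' : Λ) (b : j ⟶ j') =>
      (F.map b).hom.app (op (Y i).left) ((F.obj j).obj.map (Y i).hom.op s) = 0)
    (by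
      intro i j' b j'' c hQ
      dsimp only at hQ ⊢
      rw [Functor.map_comp]
      change (F.map c).hom.app (op (Y i).left)
        ((F.map b).hom.app (op (Y i).left) ((F.obj j).obj.map (Y i).hom.op s)) = 0
      rw [hQ, map_zero])
    (fun i => E_inj F (Y i).left j _ (h1 i))
  refine ⟨j', b, sheaf_ext_of_cover (F.obj j') Y hY _ 0 (fun i => ?_)⟩
  rw [map_zero]
  have := NatTrans.naturality_apply (F.map b).hom (Y i).hom.op s
  rw [← this]
  exact hb i

variable (J) in
/-- every covering sieve of `U` contains a finite covering family with quasi-compact overlaps -/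
def HasQCOverlapCovers (U : C) : Prop :=
  ∀ T ∈ J U, ∃ (ι : Type u) (_ : Finite ι) (Y : ι → Over U),
    (∀ i, T.arrows (Y i).hom) ∧
      Sieve.ofArrows (fun i => (Y i).left) (fun i => (Y i).hom) ∈ J U ∧
      ∀ i k, ∃ (W : C) (p : W ⟶ (Y i).left) (q : W ⟶ (Y k).left),
        p ≫ (Y i).hom = q ≫ (Y k).hom ∧ IsQC J W ∧
        ∀ (Z : C) (gi : Z ⟶ (Y i).left) (gk : Z ⟶ (Y k).left),
          gi ≫ (Y i).hom = gk ≫ (Y k).hom → ∃ l : Z ⟶ W, l ≫ p = gi ∧ l ≫ q = gk

/-- the sheafification of the presheaf colimit -/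
noncomputable abbrev G : Sheaf J AddCommGrpCat.{u} :=
  (presheafToSheaf J AddCommGrpCat.{u}).obj (E F).pt

/-- the composite `F_j ⟶ P ⟶ P^#` on sections -/
noncomputable abbrev θ (j : Λ) (V : C) : (F.obj j).obj.obj (op V) → (G F).obj.obj (op V) :=
  fun s => (toSheafify J (E F).pt).app (op V) (((E F).ι.app j).app (op V) s)

omit [IsFiltered Λ] in
lemma θ_map (j : Λ) {V V' : C} (f : V' ⟶ V) (s : (F.obj j).obj.obj (op V)) :
    θ F j V' ((F.obj j).obj.map f.op s) = (G F).obj.map f.op (θ F j V s) := by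
  dsimp only [θ]
  have h1 : ((E F).ι.app j).app (op V') ((F.obj j).obj.map f.op s) =
      (E F).pt.map f.op (((E F).ι.app j).app (op V) s) :=
    NatTrans.naturality_apply ((E F).ι.app j) f.op s
  rw [h1]
  exact NatTrans.naturality_apply (toSheafify J (E F).pt) f.op _

omit [IsFiltered Λ] in
lemma θ_trans {j j' : Λ} (a : j ⟶ j') (V : C) (s : (F.obj j).obj.obj (op V)) :
    θ F j' V ((F.map a).hom.app (op V) s) = θ F j V s := by
  dsimp only [θ]
  congr 1
  have := (E F).w a
  exact congrArg (fun φ => (φ.app (op V)) s) this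

omit [IsFiltered Λ] in
lemma θ_sub (j : Λ) (V : C) (s s' : (F.obj j).obj.obj (op V)) :
    θ F j V (s - s') = θ F j V s - θ F j V s' := by
  dsimp only [θ]
  rw [map_sub, map_sub]

/-- restatement of `eq_zero_of_toSheafify_eq_zero` with `θ` -/
lemma eq_zero_of_θ_eq_zero (U : C) (hU : IsQC J U) (j : Λ) (s : (F.obj j).obj.obj (op U))
    (h : θ F j U s = 0) : ∃ (j' : Λ) (a : j ⟶ j'), (F.map a).hom.app (op U) s = 0 :=
  eq_zero_of_toSheafify_eq_zero F U hU j s h

/-- **Surjectivity at objects with quasi-compact overlaps.** -/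
lemma exists_θ_eq (U : C) (hU : HasQCOverlapCovers J U) (t : (G F).obj.obj (op U)) :
    ∃ (j : Λ) (s : (F.obj j).obj.obj (op U)), θ F j U s = t := by
  have hT := Presheaf.imageSieve_mem J (toSheafify J (E F).pt) (U := op U) t
  obtain ⟨ι, _, Y, hYT, hY, hov⟩ := hU _ hT
  -- local preimages in the presheaf colimit
  choose pi hpi using hYT
  choose ji si hsi using fun i => E_surj F (Y i).left (pi i)
  obtain ⟨j0, hj0⟩ := exists_upper ji
  let a : ∀ i, ji i ⟶ j0 := fun i => (hj0 i).some
  let s' : ∀ i, (F.obj j0).obj.obj (op (Y i).left) := fun i => (F.map (a i)).hom.app _ (si i)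
  have hs' : ∀ i, θ F j0 (Y i).left (s' i) = (G F).obj.map (Y i).hom.op t := by
    intro i
    dsimp only [s']
    rw [θ_trans]
    dsimp only [θ]
    rw [hsi i]
    exact hpi i
  -- overlaps
  choose W p q hpq hW huniv using hov
  let x : ∀ ik : ι × ι, (F.obj j0).obj.obj (op (W ik.1 ik.2)) := fun ik =>
    (F.obj j0).obj.map (p ik.1 ik.2).op (s' ik.1) - (F.obj j0).obj.map (q ik.1 ik.2).op (s' ik.2)
  have hx : ∀ ik : ι × ι, θ F j0 (W ik.1 ik.2) (x ik) = 0 := by
    rintro ⟨i, k⟩
    dsimp only [x]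
    rw [θ_sub, θ_map, θ_map, hs', hs', sub_eq_zero]
    change ((G F).obj.map (Y i).hom.op ≫ (G F).obj.map (p i k).op) t =
      ((G F).obj.map (Y k).hom.op ≫ (G F).obj.map (q i k).op) t
    rw [← Functor.map_comp, ← Functor.map_comp, ← op_comp, ← op_comp, hpq]
  obtain ⟨j1, b, hb⟩ := exists_common j0
    (fun (ik : ι × ι) (j' : Λ) (b : j0 ⟶ j') =>
      (F.map b).hom.app (op (W ik.1 ik.2)) (x ik) = 0)
    (by
      intro ik j' b j'' c hQ
      dsimp only at hQ ⊢
      rw [Functor.map_comp]
      change (F.map c).hom.app (op (W ik.1 ik.2))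
        ((F.map b).hom.app (op (W ik.1 ik.2)) (x ik)) = 0
      rw [hQ, map_zero])
    (fun ik => eq_zero_of_θ_eq_zero F _ (hW ik.1 ik.2) j0 _ (hx ik))
  let s'' : ∀ i, (F.obj j1).obj.obj (op (Y i).left) := fun i => (F.map b).hom.app _ (s' i)
  have hs''pq : ∀ i k, (F.obj j1).obj.map (p i k).op (s'' i) =
      (F.obj j1).obj.map (q i k).op (s'' k) := by
    intro i k
    have h := hb (i, k)
    dsimp only [x] at h
    rw [map_sub, sub_eq_zero] at h
    dsimp only [s'']
    rw [← NatTrans.naturality_apply (F.map b).hom (p i k).op (s' i),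
      ← NatTrans.naturality_apply (F.map b).hom (q i k).op (s' k)]
    exact h
  have hcompat : Presieve.Arrows.Compatible ((F.obj j1).obj ⋙ forget AddCommGrpCat.{u})
      (fun i => (Y i).hom) s'' := by
    intro i k Z gi gk h
    change (F.obj j1).obj.map gi.op (s'' i) = (F.obj j1).obj.map gk.op (s'' k)
    obtain ⟨l, rfl, rfl⟩ := huniv i k Z gi gk h
    rw [op_comp, op_comp, Functor.map_comp, Functor.map_comp, ConcreteCategory.comp_apply,
      ConcreteCategory.comp_apply, hs''pq]
  obtain ⟨s, hs, -⟩ := (Presieve.isSheafFor_arrows_iff _ _).1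
    (isSheafFor_ofArrows (F.obj j1) Y hY) s'' hcompat
  refine ⟨j1, s, sheaf_ext_of_cover (G F) Y hY _ _ (fun i => ?_)⟩
  have hsi' : (F.obj j1).obj.map (Y i).hom.op s = s'' i := hs i
  rw [← θ_map, hsi']
  dsimp only [s'']
  rw [θ_trans, hs']

/-- the sheafified colimit cocone -/
noncomputable abbrev c' : Cocone F := Sheaf.sheafifyCocone (E F)

/-- it is a colimit cocone -/
noncomputable def hc' : IsColimit (c' F) :=
  Sheaf.isColimitSheafifyCocone (E F) (colimit.isColimit _)

/-- comparison with the chosen colimit -/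
noncomputable def e : colimit F ≅ (c' F).pt :=
  (colimit.isColimit F).coconePointUniqueUpToIso (hc' F)

omit [IsFiltered Λ] in
lemma e_hom_ι (j : Λ) (V : C) (s : (F.obj j).obj.obj (op V)) :
    (e F).hom.hom.app (op V) ((colimit.ι F j).hom.app (op V) s) = θ F j V s := by
  have h1 : colimit.ι F j ≫ (e F).hom = (c' F).ι.app j :=
    IsColimit.comp_coconePointUniqueUpToIso_hom (colimit.isColimit F) (hc' F) j
  have h2 : ((c' F).ι.app j).hom = (E F).ι.app j ≫ toSheafify J (E F).pt :=
    Sheaf.sheafifyCocone_ι_app_val (E F) j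
  have h3 : (colimit.ι F j).hom ≫ (e F).hom.hom = (E F).ι.app j ≫ toSheafify J (E F).pt := by
    rw [← h2, ← h1]
    rfl
  exact congrArg (fun φ => (φ.app (op V)) s) h3

omit [IsFiltered Λ] in
lemma e_hom_injective (V : C) : Function.Injective ((e F).hom.hom.app (op V)) := by
  intro x y hxy
  have h : (e F).hom.hom ≫ (e F).inv.hom = 𝟙 _ := by
    have := (e F).hom_inv_id
    exact congrArg (fun φ => φ.hom) this
  have hx := congrArg (fun φ => (φ.app (op V)) x) h
  have hy := congrArg (fun φ => (φ.app (op V)) y) h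
  simp only [NatTrans.comp_app, ConcreteCategory.comp_apply, NatTrans.id_app,
    ConcreteCategory.id_apply] at hx hy
  rw [← hx, ← hy, hxy]

/-- **(B2)** a section over a quasi-compact object dying in the colimit dies at a later stage. -/
theorem colimit_ι_eq_zero (U : C) (hU : IsQC J U) (j : Λ) (s : (F.obj j).obj.obj (op U))
    (h : (colimit.ι F j).hom.app (op U) s = 0) :
    ∃ (j' : Λ) (a : j ⟶ j'), (F.map a).hom.app (op U) s = 0 := by
  apply eq_zero_of_θ_eq_zero F U hU j s
  rw [← e_hom_ι, h, map_zero]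
  rfl

/-- **(B1)** every section of the colimit over an object with quasi-compact overlaps comes from
a stage. -/
theorem colimit_ι_surjective (U : C) (hU : HasQCOverlapCovers J U)
    (t : (colimit F).obj.obj (op U)) :
    ∃ (j : Λ) (s : (F.obj j).obj.obj (op U)), (colimit.ι F j).hom.app (op U) s = t := by
  obtain ⟨j, s, hs⟩ := exists_θ_eq F U hU ((e F).hom.hom.app (op U) t)
  refine ⟨j, s, e_hom_injective F U ?_⟩
  rw [e_hom_ι, hs]

end Presheaf

end Groth.Agent.Lib.Helper4.ColimSections
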