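import Groth.Agent.Lib.Helper4.DeltaMVExt

/-!
# Abstract comparison isomorphisms `Extⁿ(P, Φ F) ≃+ Extⁿ(Z', G F)` and their compatibility with
restriction maps

For an equivalence `Φ : 𝒳 ≌ ℬ`, an exact functor `G : 𝒳 ⥤ 𝒴` preserving injectives, objects
`Z' : 𝒴`, `P : ℬ` and a natural identification `ξ F : (Z' ⟶ G F) ≃+ (P ⟶ Φ F)`, universality of
δ-functors gives `eqv … F n : Extⁿ(P, Φ F) ≃+ Extⁿ(Z', G F)`.  Given two such data related by a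
"restriction" (`viaExt`), the equivalences are compatible (`eqv_via`).
-/

set_option autoImplicit false
set_option linter.unusedSectionVars false
universe v₁ v₂ v₃ u₁ u₂ u₃
open CategoryTheory CategoryTheory.Limits Opposite Abelian DeltaF

namespace Groth.Agent.Lib.Helper4.DeltaBridge

open Groth.Agent.Lib.Helper33.ExtDelta Groth.Agent.Lib.Helper4.DeltaMV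
  Groth.Agent.Lib.Helper4.DeltaMVAbs Groth.Agent.Lib.Helper4.DeltaMVExt

variable {ℬ : Type u₂} [Category.{v₂} ℬ] [Abelian ℬ] [HasExt.{v₂} ℬ]
  {𝒳 : Type u₁} [Category.{v₁} 𝒳] [Abelian 𝒳] [EnoughInjectives 𝒳] [HasExt.{v₂} 𝒳]
  (Φ : 𝒳 ≌ ℬ) [Φ.functor.Additive]

section One

variable {𝒴 : Type u₃} [Category.{v₃} 𝒴] [Abelian 𝒴] [HasExt.{v₂} 𝒴]
  (G : 𝒳 ⥤ 𝒴) [G.Additive] [PreservesFiniteLimits G] [PreservesFiniteColimits G]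
  [G.PreservesInjectiveObjects] (Z' : 𝒴) (P : ℬ)
  (ξ : ∀ F : 𝒳, (Z' ⟶ G.obj F) ≃+ (P ⟶ Φ.functor.obj F))
  (nat : ∀ {F F' : 𝒳} (f : F ⟶ F') (t : Z' ⟶ G.obj F),
    ξ F' (t ≫ G.map f) = ξ F t ≫ Φ.functor.map f)

lemma exists_kap : ∃ κ : ED Φ P ≅ TG G Z', κ.hom.app 0 = (zdPrecomp Φ G Z' P ξ nat).iso.hom :=
  (zdPrecomp Φ G Z' P ξ nat).exists_iso (TG_isUniversal G Z')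

/-- the comparison isomorphism of δ-functors -/
noncomputable def kap : ED Φ P ≅ TG G Z' := (exists_kap Φ G Z' P ξ nat).choose

lemma kap_zero : (kap Φ G Z' P ξ nat).hom.app 0 = (zdPrecomp Φ G Z' P ξ nat).iso.hom :=
  (exists_kap Φ G Z' P ξ nat).choose_spec

/-- the comparison `Extⁿ(P, Φ F) ≃+ Extⁿ(Z', G F)` -/
noncomputable def eqv (F : 𝒳) (n : ℕ) :
    Ext.{v₂} P (Φ.functor.obj F) n ≃+ Ext.{v₂} Z' (G.obj F) n :=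
  isoAddEquiv (kap Φ G Z' P ξ nat) n F

end One

section Top

variable (Z : 𝒳) (P₄ : ℬ)
  (ξ₄ : ∀ F : 𝒳, (Z ⟶ F) ≃+ (P₄ ⟶ Φ.functor.obj F))
  (nat₄ : ∀ {F F' : 𝒳} (f : F ⟶ F') (t : Z ⟶ F), ξ₄ F' (t ≫ f) = ξ₄ F t ≫ Φ.functor.map f)

lemma exists_kapTop :
    ∃ κ : ED Φ P₄ ≅ extDelta.{v₂} Z, κ.hom.app 0 = (zdExt Φ Z P₄ ξ₄ nat₄).iso.hom :=
  (zdExt Φ Z P₄ ξ₄ nat₄).exists_iso (extDelta_isUniversal Z)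

/-- the comparison isomorphism of δ-functors, absolute case -/
noncomputable def kapTop : ED Φ P₄ ≅ extDelta.{v₂} Z := (exists_kapTop Φ Z P₄ ξ₄ nat₄).choose

lemma kapTop_zero : (kapTop Φ Z P₄ ξ₄ nat₄).hom.app 0 = (zdExt Φ Z P₄ ξ₄ nat₄).iso.hom :=
  (exists_kapTop Φ Z P₄ ξ₄ nat₄).choose_spec

/-- the comparison `Extⁿ(P₄, Φ F) ≃+ Extⁿ(Z, F)` -/
noncomputable def eqvTop (F : 𝒳) (n : ℕ) :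
    Ext.{v₂} P₄ (Φ.functor.obj F) n ≃+ Ext.{v₂} Z F n :=
  isoAddEquiv (kapTop Φ Z P₄ ξ₄ nat₄) n F

end Top

section Via

variable {𝒴₁ 𝒴₂ : Type u₃} [Category.{v₃} 𝒴₁] [Abelian 𝒴₁] [HasExt.{v₂} 𝒴₁]
  [Category.{v₃} 𝒴₂] [Abelian 𝒴₂] [HasExt.{v₂} 𝒴₂]
  (G₁ : 𝒳 ⥤ 𝒴₁) [G₁.Additive] [PreservesFiniteLimits G₁] [PreservesFiniteColimits G₁]
  [G₁.PreservesInjectiveObjects]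
  (G₂ : 𝒳 ⥤ 𝒴₂) [G₂.Additive] [PreservesFiniteLimits G₂] [PreservesFiniteColimits G₂]
  [G₂.PreservesInjectiveObjects]
  (G₂₁ : 𝒴₂ ⥤ 𝒴₁) [G₂₁.Additive] [PreservesFiniteLimits G₂₁] [PreservesFiniteColimits G₂₁]
  (θ₂ : G₂ ⋙ G₂₁ ⟶ G₁)
  {Z : 𝒳} {Z₁ : 𝒴₁} {Z₂ : 𝒴₂}
  (c₁ : Z₁ ⟶ G₁.obj Z) (c₂ : Z₂ ⟶ G₂.obj Z) (d₂ : Z₁ ⟶ G₂₁.obj Z₂)
  (hc₂ : c₁ = d₂ ≫ G₂₁.map c₂ ≫ θ₂.app Z)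
  {P₁ P₂ P₄ : ℬ} (i₁₂ : P₁ ⟶ P₂) (i₂₄ : P₂ ⟶ P₄) [Mono i₂₄]
  (ξ₁ : ∀ F : 𝒳, (Z₁ ⟶ G₁.obj F) ≃+ (P₁ ⟶ Φ.functor.obj F))
  (nat₁ : ∀ {F F' : 𝒳} (f : F ⟶ F') (t : Z₁ ⟶ G₁.obj F),
    ξ₁ F' (t ≫ G₁.map f) = ξ₁ F t ≫ Φ.functor.map f)
  (ξ₂ : ∀ F : 𝒳, (Z₂ ⟶ G₂.obj F) ≃+ (P₂ ⟶ Φ.functor.obj F))
  (nat₂ : ∀ {F F' : 𝒳} (f : F ⟶ F') (t : Z₂ ⟶ G₂.obj F),
    ξ₂ F' (t ≫ G₂.map f) = ξ₂ F t ≫ Φ.functor.map f)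
  (ξ₄ : ∀ F : 𝒳, (Z ⟶ F) ≃+ (P₄ ⟶ Φ.functor.obj F))
  (nat₄ : ∀ {F F' : 𝒳} (f : F ⟶ F') (t : Z ⟶ F), ξ₄ F' (t ≫ f) = ξ₄ F t ≫ Φ.functor.map f)
  (hξ₁ : ∀ (F : 𝒳) (f : Z ⟶ F), ξ₁ F (c₁ ≫ G₁.map f) = (i₁₂ ≫ i₂₄) ≫ ξ₄ F f)
  (hξ₂ : ∀ (F : 𝒳) (f : Z ⟶ F), ξ₂ F (c₂ ≫ G₂.map f) = i₂₄ ≫ ξ₄ F f)

include nat₄ in
lemma hρ {𝒴 : Type u₃} [Category.{v₃} 𝒴] [Abelian 𝒴] [HasExt.{v₂} 𝒴]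
    (G : 𝒳 ⥤ 𝒴) [G.Additive] [PreservesFiniteLimits G] [PreservesFiniteColimits G]
    {Z' : 𝒴} (c : Z' ⟶ G.obj Z) {P : ℬ} (i : P ⟶ P₄)
    (ξ : ∀ F : 𝒳, (Z' ⟶ G.obj F) ≃+ (P ⟶ Φ.functor.obj F))
    (nat : ∀ {F F' : 𝒳} (f : F ⟶ F') (t : Z' ⟶ G.obj F),
      ξ F' (t ≫ G.map f) = ξ F t ≫ Φ.functor.map f)
    (h : ∀ (F : 𝒳) (f : Z ⟶ F), ξ F (c ≫ G.map f) = i ≫ ξ₄ F f)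
    (F : 𝒳) (t : ((extDelta.{v₂} Z).F 0).obj F) :
    (zdPrecomp Φ G Z' P ξ nat).ε F (((pullExtDelta.{v₂} G c).app 0).app F t) =
      i ≫ (zdExt Φ Z P₄ ξ₄ nat₄).ε F t := by
  obtain ⟨f, rfl⟩ := (Ext.mk₀_bijective _ _).2 t
  rw [zdExt_ε_mk₀, pullExtDelta_app_app]
  change (zdPrecomp Φ G Z' P ξ nat).ε F (pullExt G c F 0 (Ext.mk₀ f)) = _
  rw [pullExt_mk₀, zdPrecomp_ε_mk₀, h]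

include hξ₁ in
lemma sqTop₁ :
    RD Φ (i₁₂ ≫ i₂₄) ≫ (kap Φ G₁ Z₁ P₁ ξ₁ nat₁).hom =
      (kapTop Φ Z P₄ ξ₄ nat₄).hom ≫ pullExtDelta.{v₂} G₁ c₁ :=
  sq_of_zero (zdPrecomp Φ G₁ Z₁ P₁ ξ₁ nat₁) (zdExt Φ Z P₄ ξ₄ nat₄) (i₁₂ ≫ i₂₄)
    (pullExtDelta.{v₂} G₁ c₁) (hρ Φ ξ₄ nat₄ G₁ c₁ (i₁₂ ≫ i₂₄) ξ₁ nat₁ hξ₁)
    (kap Φ G₁ Z₁ P₁ ξ₁ nat₁) (kap_zero Φ G₁ Z₁ P₁ ξ₁ nat₁)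
    (kapTop Φ Z P₄ ξ₄ nat₄) (kapTop_zero Φ Z P₄ ξ₄ nat₄)

include hξ₂ in
lemma sqTop₂ :
    RD Φ i₂₄ ≫ (kap Φ G₂ Z₂ P₂ ξ₂ nat₂).hom =
      (kapTop Φ Z P₄ ξ₄ nat₄).hom ≫ pullExtDelta.{v₂} G₂ c₂ :=
  sq_of_zero (zdPrecomp Φ G₂ Z₂ P₂ ξ₂ nat₂) (zdExt Φ Z P₄ ξ₄ nat₄) i₂₄
    (pullExtDelta.{v₂} G₂ c₂) (hρ Φ ξ₄ nat₄ G₂ c₂ i₂₄ ξ₂ nat₂ hξ₂)
    (kap Φ G₂ Z₂ P₂ ξ₂ nat₂) (kap_zero Φ G₂ Z₂ P₂ ξ₂ nat₂)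
    (kapTop Φ Z P₄ ξ₄ nat₄) (kapTop_zero Φ Z P₄ ξ₄ nat₄)

include hc₂ hξ₁ hξ₂ nat₄ in
lemma sqVia :
    RD Φ i₁₂ ≫ (kap Φ G₁ Z₁ P₁ ξ₁ nat₁).hom =
      (kap Φ G₂ Z₂ P₂ ξ₂ nat₂).hom ≫ viaDelta.{v₂} G₂ G₂₁ G₁ θ₂ d₂ := by
  refine sq_of_mono (zdPrecomp Φ G₁ Z₁ P₁ ξ₁ nat₁) i₁₂ i₂₄ (pullExtDelta.{v₂} G₁ c₁)
    (pullExtDelta.{v₂} G₂ c₂) (viaDelta.{v₂} G₂ G₂₁ G₁ θ₂ d₂) ?_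
    (kap Φ G₁ Z₁ P₁ ξ₁ nat₁) (kap Φ G₂ Z₂ P₂ ξ₂ nat₂) (kapTop Φ Z P₄ ξ₄ nat₄)
    (sqTop₁ Φ G₁ c₁ i₁₂ i₂₄ ξ₁ nat₁ ξ₄ nat₄ hξ₁) (sqTop₂ Φ G₂ c₂ i₂₄ ξ₂ nat₂ ξ₄ nat₄ hξ₂)
  intro F t
  rw [viaDelta_app_app, pullExtDelta_app_app, pullExtDelta_app_app]
  exact viaExt_pullExt_zero G₂ G₂₁ G₁ θ₂ d₂ c₂ c₁ hc₂ F t

include hc₂ hξ₁ hξ₂ nat₄ in
/-- **compatibility of the comparison equivalences with restriction** -/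
theorem eqv_via (F : 𝒳) (n : ℕ) (x : Ext.{v₂} P₂ (Φ.functor.obj F) n) :
    eqv Φ G₁ Z₁ P₁ ξ₁ nat₁ F n ((Ext.mk₀ i₁₂).comp x (zero_add n)) =
      viaExt G₂ G₂₁ G₁ θ₂ d₂ F n (eqv Φ G₂ Z₂ P₂ ξ₂ nat₂ F n x) := by
  have key := congrArg (fun τ => ((τ.app n).app F) x)
    (sqVia Φ G₁ G₂ G₂₁ θ₂ c₁ c₂ d₂ hc₂ i₁₂ i₂₄ ξ₁ nat₁ ξ₂ nat₂ ξ₄ nat₄ hξ₁ hξ₂)
  simp only [CohDeltaFunctor.comp_app, NatTrans.comp_app, ConcreteCategory.comp_apply] at key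
  rw [RD_app_app_apply, viaDelta_app_app] at key
  exact key

include hc₂ hξ₁ hξ₂ nat₄ in
/-- variant with the restriction map given by a pointwise formula -/
theorem eqv_via' (F : 𝒳) (n : ℕ)
    (s₂ : Ext.{v₂} Z₂ (G₂.obj F) n →+ Ext.{v₂} Z₁ (G₁.obj F) n)
    (hs₂ : ∀ e : Ext.{v₂} Z₂ (G₂.obj F) n,
      s₂ e = ((Ext.mk₀ d₂).comp (e.mapExactFunctor G₂₁) (zero_add n)).comp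
        (Ext.mk₀ (θ₂.app F)) (add_zero n))
    (x : Ext.{v₂} P₂ (Φ.functor.obj F) n) :
    eqv Φ G₁ Z₁ P₁ ξ₁ nat₁ F n ((Ext.mk₀ i₁₂).comp x (zero_add n)) =
      s₂ (eqv Φ G₂ Z₂ P₂ ξ₂ nat₂ F n x) := by
  have f₂ : s₂ = viaExt G₂ G₂₁ G₁ θ₂ d₂ F n := by
    ext e; exact hs₂ e
  subst f₂
  exact eqv_via Φ G₁ G₂ G₂₁ θ₂ c₁ c₂ d₂ hc₂ i₁₂ i₂₄ ξ₁ nat₁ ξ₂ nat₂ ξ₄ nat₄ hξ₁ hξ₂ F n x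

end Via

end Groth.Agent.Lib.Helper4.DeltaBridge
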