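import Groth.Agent.Lib.Helper33.DeltaPrecomp
import Groth.Agent.S6774
import Mathlib.Algebra.Homology.DerivedCategory.Ext.Map

/-!
# Generic δ-functor tools for Mayer–Vietoris type comparisons

* `hom_ext_of_isUniversal`, `exists_iso_of_isUniversal`;
* `precompDeltaMap`, `precompDeltaWhisker`, `precompCompHom`;
* `extDeltaMap` : `Ext^•(Z, -) ⟶ Ext^•(Z', -)` for `Z' ⟶ Z`;
* `pullExt G c`, `pullExtDelta G c` : the maps `Extⁿ(Z, F) → Extⁿ(Z', G F)` for an exact functor
  `G` and `c : Z' ⟶ G Z`, as a morphism of δ-functors;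
* `viaDelta` : the relative version.
-/

set_option autoImplicit false
universe w v₁ v₂ v₃ u₁ u₂ u₃
open CategoryTheory CategoryTheory.Limits Opposite Abelian DeltaF

namespace Groth.Agent.Lib.Helper4.DeltaMV

open Groth.Agent.Lib.Helper33.ExtDelta

section Util

variable {A : Type u₁} [Category.{v₁} A] [Abelian A] {D : Type u₃} [Category.{v₃} D] [Abelian D]

lemma hom_ext_of_isUniversal {T T' : CohDeltaFunctor A D ℕ} (hT : T.IsUniversal) (τ τ' : T ⟶ T')
    (h : τ.app 0 = τ'.app 0) : τ = τ' := by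
  obtain ⟨σ, -, hσ⟩ := hT T' (τ.app 0)
  rw [hσ τ rfl, hσ τ' h.symm]

theorem exists_iso_of_isUniversal {T T' : CohDeltaFunctor A D ℕ} (hT : T.IsUniversal)
    (hT' : T'.IsUniversal) (e : T.F 0 ≅ T'.F 0) : ∃ φ : T ≅ T', φ.hom.app 0 = e.hom := by
  obtain ⟨φ, h, -⟩ := Groth.Agent.S6774.result T T' hT hT' e
  exact ⟨φ, h⟩

variable {B : Type u₂} [Category.{v₂} B] [Abelian B]

/-- A natural transformation between exact functors induces a morphism between the precomposed
δ-functors. -/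
noncomputable def precompDeltaMap {E E' : A ⥤ B} [E.Additive] [PreservesFiniteLimits E]
    [PreservesFiniteColimits E] [E'.Additive] [PreservesFiniteLimits E']
    [PreservesFiniteColimits E'] (θ : E ⟶ E') (T : CohDeltaFunctor B D ℕ) :
    precompDelta E T ⟶ precompDelta E' T where
  app n := Functor.whiskerRight θ (T.F n)
  comm S hS n₀ n₁ h :=
    (T.δ_natural (hS.map_of_exact E) (hS.map_of_exact E') (S.mapNatTrans θ) n₀ n₁ h).symm

/-- A morphism of δ-functors can be whiskered by an exact functor. -/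
noncomputable def precompDeltaWhisker (E : A ⥤ B) [E.Additive] [PreservesFiniteLimits E]
    [PreservesFiniteColimits E] {T T' : CohDeltaFunctor B D ℕ} (τ : T ⟶ T') :
    precompDelta E T ⟶ precompDelta E T' where
  app n := Functor.whiskerLeft E (τ.app n)
  comm S hS n₀ n₁ h := τ.comm (S.map E) (hS.map_of_exact E) n₀ n₁ h

variable {B' : Type u₂} [Category.{v₂} B'] [Abelian B']

/-- `precompDelta E (precompDelta E' T) ⟶ precompDelta (E ⋙ E') T` (identity components). -/
noncomputable def precompCompHom (E : A ⥤ B) [E.Additive] [PreservesFiniteLimits E]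
    [PreservesFiniteColimits E] (E' : B ⥤ B') [E'.Additive] [PreservesFiniteLimits E']
    [PreservesFiniteColimits E'] (T : CohDeltaFunctor B' D ℕ) :
    precompDelta E (precompDelta E' T) ⟶ precompDelta (E ⋙ E') T where
  app n := (Functor.associator E E' (T.F n)).inv
  comm S hS n₀ n₁ h := by
    dsimp [precompDelta]
    erw [Category.comp_id, Category.id_comp]

end Util

section ExtMaps

variable {A : Type u₁} [Category.{v₁} A] [Abelian A] [HasExt.{w} A]

/-- precomposition `Ext^•(Z, -) ⟶ Ext^•(Z', -)` with `a : Z' ⟶ Z`, as a morphism of δ-functors -/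
noncomputable def extDeltaMap {Z Z' : A} (a : Z' ⟶ Z) : extDelta.{w} Z ⟶ extDelta.{w} Z' where
  app n := (extFunctor.{w} n).map a.op
  comm S hS n₀ n₁ h := by
    ext x
    change (Ext.mk₀ a).comp (x.comp hS.extClass h) (zero_add n₁) =
      ((Ext.mk₀ a).comp x (zero_add n₀)).comp hS.extClass h
    rw [Ext.comp_assoc _ _ _ (zero_add n₀) h (by omega)]

lemma extDeltaMap_app_apply {Z Z' : A} (a : Z' ⟶ Z) (n : ℕ) (F : A) (x : Ext.{w} Z F n) :
    ((extDeltaMap.{w} a).app n).app F x = (Ext.mk₀ a).comp x (zero_add n) := rfl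

variable {B : Type u₂} [Category.{v₂} B] [Abelian B] [HasExt.{w} B]
  (G : A ⥤ B) [G.Additive] [PreservesFiniteLimits G] [PreservesFiniteColimits G]
  {Z : A} {Z' : B} (c : Z' ⟶ G.obj Z)

/-- `Extⁿ(Z, F) → Extⁿ(Z', G F)`: apply the exact functor `G` and precompose with
`c : Z' ⟶ G Z`. -/
noncomputable def pullExt (F : A) (n : ℕ) : Ext.{w} Z F n →+ Ext.{w} Z' (G.obj F) n :=
  AddMonoidHom.comp
    (AddMonoidHom.mk' (fun e => (Ext.mk₀ c).comp e (zero_add n))
      (fun _ _ => Ext.comp_add _ _ _ _))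
    (G.mapExtAddHom _ _ n)

lemma pullExt_apply (F : A) (n : ℕ) (e : Ext.{w} Z F n) :
    pullExt G c F n e = (Ext.mk₀ c).comp (e.mapExactFunctor G) (zero_add n) := rfl

lemma pullExt_mk₀ (F : A) (f : Z ⟶ F) :
    pullExt.{w} G c F 0 (Ext.mk₀ f) = Ext.mk₀ (c ≫ G.map f) := by
  rw [pullExt_apply, Ext.mapExactFunctor_mk₀, Ext.mk₀_comp_mk₀]

/-- `pullExt` as a morphism of δ-functors. -/
noncomputable def pullExtDelta : extDelta.{w} Z ⟶ precompDelta G (extDelta.{w} Z') where
  app n :=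
    { app := fun F => AddCommGrpCat.ofHom (pullExt G c F n)
      naturality := fun F F' φ => by
        ext e
        change pullExt G c F' n (e.comp (Ext.mk₀ φ) (add_zero n)) =
          (pullExt G c F n e).comp (Ext.mk₀ (G.map φ)) (add_zero n)
        rw [pullExt_apply, pullExt_apply, Ext.mapExactFunctor_comp, Ext.mapExactFunctor_mk₀,
          Ext.comp_assoc_of_third_deg_zero] }
  comm S hS n₀ n₁ h := by
    ext e
    change pullExt G c S.X₁ n₁ (e.comp hS.extClass h) =
      (pullExt G c S.X₃ n₀ e).comp (hS.map_of_exact G).extClass h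
    rw [pullExt_apply, pullExt_apply, Ext.mapExactFunctor_comp, Ext.mapExactFunctor_extClass,
      Ext.comp_assoc (Ext.mk₀ c) (e.mapExactFunctor G)
        (hS.map_of_exact G).extClass (zero_add n₀) h (by omega)]
    rfl

lemma pullExtDelta_app_app (n : ℕ) (F : A) :
    ((pullExtDelta.{w} G c).app n).app F = AddCommGrpCat.ofHom (pullExt G c F n) := rfl

end ExtMaps

section Via

variable {A : Type u₁} [Category.{v₁} A] [Abelian A] [HasExt.{w} A]
  {B : Type u₂} [Category.{v₂} B] [Abelian B] [HasExt.{w} B]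
  {B' : Type u₂} [Category.{v₂} B'] [Abelian B'] [HasExt.{w} B']
  (G1 : A ⥤ B) [G1.Additive] [PreservesFiniteLimits G1] [PreservesFiniteColimits G1]
  (G2 : B ⥤ B') [G2.Additive] [PreservesFiniteLimits G2] [PreservesFiniteColimits G2]
  (G3 : A ⥤ B') [G3.Additive] [PreservesFiniteLimits G3] [PreservesFiniteColimits G3]
  (θ : G1 ⋙ G2 ⟶ G3) {ZB : B} {ZC : B'} (d : ZC ⟶ G2.obj ZB)

/-- the relative pullback map `Extⁿ(Z_B, G₁ F) → Extⁿ(Z_C, G₂ G₁ F) → Extⁿ(Z_C, G₃ F)` -/
noncomputable def viaExt (F : A) (n : ℕ) :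
    Ext.{w} ZB (G1.obj F) n →+ Ext.{w} ZC (G3.obj F) n :=
  (((extFunctor.{w} n).obj (op ZC)).map (θ.app F)).hom.comp (pullExt G2 d (G1.obj F) n)

/-- `viaExt` as a morphism of δ-functors. -/
noncomputable def viaDelta :
    precompDelta G1 (extDelta.{w} ZB) ⟶ precompDelta G3 (extDelta.{w} ZC) :=
  precompDeltaWhisker G1 (pullExtDelta.{w} G2 d) ≫ precompCompHom G1 G2 (extDelta.{w} ZC) ≫
    precompDeltaMap θ (extDelta.{w} ZC)

lemma viaDelta_app_app (n : ℕ) (F : A) :
    ((viaDelta.{w} G1 G2 G3 θ d).app n).app F = AddCommGrpCat.ofHom (viaExt G1 G2 G3 θ d F n) := by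
  ext x
  dsimp [viaDelta, precompDeltaWhisker, precompCompHom, precompDeltaMap, viaExt]
  rfl

lemma viaExt_mk₀ (F : A) (f : ZB ⟶ G1.obj F) :
    viaExt.{w} G1 G2 G3 θ d F 0 (Ext.mk₀ f) = Ext.mk₀ (d ≫ G2.map f ≫ θ.app F) := by
  change (pullExt G2 d (G1.obj F) 0 (Ext.mk₀ f)).comp (Ext.mk₀ (θ.app F)) (add_zero 0) = _
  rw [pullExt_mk₀, Ext.mk₀_comp_mk₀, Category.assoc]

variable {Z : A} (c₁ : ZB ⟶ G1.obj Z) (c₃ : ZC ⟶ G3.obj Z)

/-- composition law in degree `0` -/
lemma viaExt_pullExt_zero (hc : c₃ = d ≫ G2.map c₁ ≫ θ.app Z) (F : A) (x : Ext.{w} Z F 0) :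
    viaExt.{w} G1 G2 G3 θ d F 0 (pullExt G1 c₁ F 0 x) = pullExt G3 c₃ F 0 x := by
  obtain ⟨f, rfl⟩ := (Ext.mk₀_bijective Z F).2 x
  rw [pullExt_mk₀, viaExt_mk₀, pullExt_mk₀, hc]
  congr 1
  have := θ.naturality f
  dsimp at this
  rw [G2.map_comp, Category.assoc, Category.assoc, this]
  simp only [Category.assoc]

end Via

end Groth.Agent.Lib.Helper4.DeltaMV
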