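import Mathlib.Algebra.Group.Subgroup.Ker
import Mathlib.Algebra.Group.Prod
import Mathlib.Algebra.Group.Equiv.Basic
import Mathlib.Algebra.Group.Subgroup.Basic

/-!
# Transport of a Mayer–Vietoris exact sequence along isomorphisms (pure algebra)
-/

set_option autoImplicit false
universe v

namespace Groth.Agent.Lib.Helper4.MVTransport

variable {A₁ A₂ A₃ A₄ B₁ B₂ B₃ B₄ : ℕ → Type v}
  [∀ n, AddCommGroup (A₁ n)] [∀ n, AddCommGroup (A₂ n)] [∀ n, AddCommGroup (A₃ n)]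
  [∀ n, AddCommGroup (A₄ n)] [∀ n, AddCommGroup (B₁ n)] [∀ n, AddCommGroup (B₂ n)]
  [∀ n, AddCommGroup (B₃ n)] [∀ n, AddCommGroup (B₄ n)]
  (r₂ : ∀ n, A₄ n →+ A₂ n) (r₃ : ∀ n, A₄ n →+ A₃ n) (s₂ : ∀ n, A₂ n →+ A₁ n)
  (s₃ : ∀ n, A₃ n →+ A₁ n) (dl : ∀ n, A₁ n →+ A₄ (n + 1))
  (ρ₂ : ∀ n, B₄ n →+ B₂ n) (ρ₃ : ∀ n, B₄ n →+ B₃ n) (σ₂ : ∀ n, B₂ n →+ B₁ n)
  (σ₃ : ∀ n, B₃ n →+ B₁ n)
  (e₁ : ∀ n, A₁ n ≃+ B₁ n) (e₂ : ∀ n, A₂ n ≃+ B₂ n) (e₃ : ∀ n, A₃ n ≃+ B₃ n)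
  (e₄ : ∀ n, A₄ n ≃+ B₄ n)

theorem mv_transport
    (hρ₂ : ∀ n y, ρ₂ n (e₄ n y) = e₂ n (r₂ n y)) (hρ₃ : ∀ n y, ρ₃ n (e₄ n y) = e₃ n (r₃ n y))
    (hσ₂ : ∀ n y, σ₂ n (e₂ n y) = e₁ n (s₂ n y)) (hσ₃ : ∀ n y, σ₃ n (e₃ n y) = e₁ n (s₃ n y))
    (hA0 : ∀ x : A₄ 0, r₂ 0 x = 0 → r₃ 0 x = 0 → x = 0)
    (hA1 : ∀ n y₂ y₃, s₂ n y₂ - s₃ n y₃ = 0 → ∃ x, r₂ n x = y₂ ∧ r₃ n x = y₃)
    (hA2 : ∀ n z, dl n z = 0 → ∃ y₂ y₃, s₂ n y₂ - s₃ n y₃ = z)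
    (hA3 : ∀ n x, r₂ (n + 1) x = 0 → r₃ (n + 1) x = 0 → ∃ z, dl n z = x)
    (hZ1 : ∀ n x, s₂ n (r₂ n x) = s₃ n (r₃ n x))
    (hZ2 : ∀ n y₂ y₃, dl n (s₂ n y₂ - s₃ n y₃) = 0)
    (hZ3 : ∀ n z, r₂ (n + 1) (dl n z) = 0 ∧ r₃ (n + 1) (dl n z) = 0) :
    ∃ δ : ∀ n : ℕ, B₁ n →+ B₄ (n + 1),
      (AddMonoidHom.prod (ρ₂ 0) (ρ₃ 0)).ker = ⊥ ∧
      (∀ n : ℕ, (AddMonoidHom.prod (ρ₂ (n + 1)) (ρ₃ (n + 1))).ker = (δ n).range) ∧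
      (∀ n : ℕ, ((σ₂ n).comp (AddMonoidHom.fst _ _) - (σ₃ n).comp (AddMonoidHom.snd _ _)).ker =
        (AddMonoidHom.prod (ρ₂ n) (ρ₃ n)).range) ∧
      (∀ n : ℕ, (δ n).ker =
        ((σ₂ n).comp (AddMonoidHom.fst _ _) - (σ₃ n).comp (AddMonoidHom.snd _ _)).range) := by
  refine ⟨fun n => ((e₄ (n + 1)).toAddMonoidHom.comp (dl n)).comp (e₁ n).symm.toAddMonoidHom,
    ?_, ?_, ?_, ?_⟩
  · rw [eq_bot_iff]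
    intro x hx
    rw [AddMonoidHom.mem_ker, AddMonoidHom.prod_apply, Prod.mk_eq_zero] at hx
    obtain ⟨y, rfl⟩ := (e₄ 0).surjective x
    rw [hρ₂, hρ₃] at hx
    rw [AddSubgroup.mem_bot, hA0 y ((e₂ 0).map_eq_zero_iff.1 hx.1)
      ((e₃ 0).map_eq_zero_iff.1 hx.2), map_zero]
  · intro n
    ext x
    rw [AddMonoidHom.mem_ker, AddMonoidHom.prod_apply, Prod.mk_eq_zero, AddMonoidHom.mem_range]
    constructor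
    · intro hx
      obtain ⟨y, rfl⟩ := (e₄ (n + 1)).surjective x
      rw [hρ₂, hρ₃] at hx
      obtain ⟨z, rfl⟩ := hA3 n y ((e₂ (n + 1)).map_eq_zero_iff.1 hx.1)
        ((e₃ (n + 1)).map_eq_zero_iff.1 hx.2)
      exact ⟨e₁ n z, by simp⟩
    · rintro ⟨t, rfl⟩
      simp only [AddMonoidHom.coe_comp, AddEquiv.coe_toAddMonoidHom, Function.comp_apply]
      rw [hρ₂, hρ₃, (hZ3 n _).1, (hZ3 n _).2, map_zero, map_zero]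
      exact ⟨rfl, rfl⟩
  · intro n
    ext ⟨t₂, t₃⟩
    rw [AddMonoidHom.mem_ker, AddMonoidHom.mem_range]
    simp only [AddMonoidHom.sub_apply, AddMonoidHom.coe_comp, AddMonoidHom.coe_fst,
      AddMonoidHom.coe_snd, Function.comp_apply, AddMonoidHom.prod_apply, Prod.mk.injEq]
    constructor
    · intro h
      obtain ⟨y₂, rfl⟩ := (e₂ n).surjective t₂
      obtain ⟨y₃, rfl⟩ := (e₃ n).surjective t₃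
      rw [hσ₂, hσ₃, ← map_sub] at h
      obtain ⟨x, rfl, rfl⟩ := hA1 n y₂ y₃ ((e₁ n).map_eq_zero_iff.1 h)
      exact ⟨e₄ n x, hρ₂ n x, hρ₃ n x⟩
    · rintro ⟨x, rfl, rfl⟩
      obtain ⟨y, rfl⟩ := (e₄ n).surjective x
      rw [hρ₂, hρ₃, hσ₂, hσ₃, hZ1, sub_self]
  · intro n
    ext t
    rw [AddMonoidHom.mem_ker, AddMonoidHom.mem_range]
    simp only [AddMonoidHom.coe_comp, AddEquiv.coe_toAddMonoidHom, Function.comp_apply,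
      AddMonoidHom.sub_apply, AddMonoidHom.coe_fst, AddMonoidHom.coe_snd, Prod.exists]
    constructor
    · intro h
      obtain ⟨y₂, y₃, hy⟩ := hA2 n _ ((e₄ (n + 1)).map_eq_zero_iff.1 h)
      refine ⟨e₂ n y₂, e₃ n y₃, ?_⟩
      rw [hσ₂, hσ₃, ← map_sub, hy, AddEquiv.apply_symm_apply]
    · rintro ⟨t₂, t₃, rfl⟩
      obtain ⟨y₂, rfl⟩ := (e₂ n).surjective t₂
      obtain ⟨y₃, rfl⟩ := (e₃ n).surjective t₃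
      rw [hσ₂, hσ₃, ← map_sub, AddEquiv.symm_apply_apply, hZ2, map_zero]

end Groth.Agent.Lib.Helper4.MVTransport
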