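import Groth.Agent.Lib.Helper4.DeltaMV
import Mathlib.Algebra.Homology.DerivedCategory.Ext.ExactSequences
import Mathlib.CategoryTheory.Preadditive.Yoneda.Basic
import Groth.Agent.S6773
import Groth.Agent.S14349
import Groth.Agent.Lib.Helper4.MVTransport

/-!
# An abstract Mayer–Vietoris theorem for universal δ-functors

Part 1: the Mayer–Vietoris exact sequence of `Ext` groups attached to a short exact sequence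
`0 ⟶ P₁ ⟶ P₂ ⊞ P₃ ⟶ P₄ ⟶ 0`, elementwise.
-/

set_option autoImplicit false
universe w v₁ v₂ u₁ u₂
open CategoryTheory CategoryTheory.Limits Opposite Abelian DeltaF

namespace Groth.Agent.Lib.Helper4.DeltaMVAbs

open Groth.Agent.Lib.Helper33.ExtDelta Groth.Agent.Lib.Helper4.DeltaMV

section Alg

variable {ℬ : Type u₂} [Category.{v₂} ℬ] [Abelian ℬ] [HasExt.{w} ℬ]
  {P₁ P₂ P₃ P₄ : ℬ} (i₁₂ : P₁ ⟶ P₂) (i₁₃ : P₁ ⟶ P₃) (i₂₄ : P₂ ⟶ P₄) (i₃₄ : P₃ ⟶ P₄)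
  (hz : biprod.lift i₁₂ (-i₁₃) ≫ biprod.desc i₂₄ i₃₄ = 0)

/-- the Mayer–Vietoris short complex -/
noncomputable abbrev mvSC : ShortComplex ℬ :=
  ShortComplex.mk (biprod.lift i₁₂ (-i₁₃)) (biprod.desc i₂₄ i₃₄) hz

variable (hS : (mvSC i₁₂ i₁₃ i₂₄ i₃₄ hz).ShortExact) (M : ℬ)

include hz in
lemma mv_fac : i₁₂ ≫ i₂₄ = i₁₃ ≫ i₃₄ := by
  have := hz
  rw [biprod.lift_desc, Preadditive.neg_comp, ← sub_eq_add_neg, sub_eq_zero] at this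
  exact this

/-- the connecting map -/
noncomputable def mvδ (n : ℕ) : Ext.{w} P₁ M n →+ Ext.{w} P₄ M (n + 1) :=
  hS.extClass.precomp M (by omega)

lemma mvδ_apply (n : ℕ) (z : Ext.{w} P₁ M n) :
    mvδ i₁₂ i₁₃ i₂₄ i₃₄ hz hS M n z = hS.extClass.comp z (by omega) := rfl

lemma comp_g (n : ℕ) (x : Ext.{w} P₄ M n) :
    Ext.biprodAddEquiv ((Ext.mk₀ (biprod.desc i₂₄ i₃₄)).comp x (zero_add n)) =
      ((Ext.mk₀ i₂₄).comp x (zero_add n), (Ext.mk₀ i₃₄).comp x (zero_add n)) := by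
  ext
  · rw [Ext.biprodAddEquiv_apply_fst, ← Ext.comp_assoc _ _ _ (zero_add 0) (zero_add n) (by omega),
      Ext.mk₀_comp_mk₀, biprod.inl_desc]
  · rw [Ext.biprodAddEquiv_apply_snd, ← Ext.comp_assoc _ _ _ (zero_add 0) (zero_add n) (by omega),
      Ext.mk₀_comp_mk₀, biprod.inr_desc]

lemma comp_f (n : ℕ) (y₂ : Ext.{w} P₂ M n) (y₃ : Ext.{w} P₃ M n) :
    (Ext.mk₀ (biprod.lift i₁₂ (-i₁₃))).comp (Ext.biprodAddEquiv.symm (y₂, y₃)) (zero_add n) =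
      (Ext.mk₀ i₁₂).comp y₂ (zero_add n) - (Ext.mk₀ i₁₃).comp y₃ (zero_add n) := by
  rw [Ext.biprodAddEquiv_symm_apply, Ext.comp_add,
    ← Ext.comp_assoc _ _ _ (zero_add 0) (zero_add n) (by omega),
    ← Ext.comp_assoc _ _ _ (zero_add 0) (zero_add n) (by omega), Ext.mk₀_comp_mk₀,
    Ext.mk₀_comp_mk₀, biprod.lift_fst, biprod.lift_snd, Ext.mk₀_neg, Ext.neg_comp,
    sub_eq_add_neg]

include hS in
/-- (A0) -/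
lemma mv_inj (x : Ext.{w} P₄ M 0) (h₂ : (Ext.mk₀ i₂₄).comp x (zero_add 0) = 0)
    (h₃ : (Ext.mk₀ i₃₄).comp x (zero_add 0) = 0) : x = 0 := by
  have : Epi (biprod.desc i₂₄ i₃₄) := hS.epi_g
  apply Ext.precomp_mk₀_injective_of_epi M (biprod.desc i₂₄ i₃₄)
  rw [map_zero]
  apply Ext.biprodAddEquiv.injective
  change Ext.biprodAddEquiv ((Ext.mk₀ (biprod.desc i₂₄ i₃₄)).comp x (zero_add 0)) = _
  rw [comp_g, h₂, h₃, map_zero]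
  rfl

include hS in
/-- (A1) -/
lemma mv_exact₁ (n : ℕ) (y₂ : Ext.{w} P₂ M n) (y₃ : Ext.{w} P₃ M n)
    (h : (Ext.mk₀ i₁₂).comp y₂ (zero_add n) - (Ext.mk₀ i₁₃).comp y₃ (zero_add n) = 0) :
    ∃ x : Ext.{w} P₄ M n, (Ext.mk₀ i₂₄).comp x (zero_add n) = y₂ ∧
      (Ext.mk₀ i₃₄).comp x (zero_add n) = y₃ := by
  obtain ⟨x, hx⟩ := Ext.contravariant_sequence_exact₂ hS M (Ext.biprodAddEquiv.symm (y₂, y₃))
    (by rw [← h]; exact comp_f i₁₂ i₁₃ M n y₂ y₃)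
  refine ⟨x, ?_, ?_⟩
  · have := congrArg (fun t => (Ext.biprodAddEquiv t).1) hx
    simpa [comp_g] using this
  · have := congrArg (fun t => (Ext.biprodAddEquiv t).2) hx
    simpa [comp_g] using this

/-- (A2) -/
lemma mv_exact₂ (n : ℕ) (z : Ext.{w} P₁ M n) (h : mvδ i₁₂ i₁₃ i₂₄ i₃₄ hz hS M n z = 0) :
    ∃ (y₂ : Ext.{w} P₂ M n) (y₃ : Ext.{w} P₃ M n),
      (Ext.mk₀ i₁₂).comp y₂ (zero_add n) - (Ext.mk₀ i₁₃).comp y₃ (zero_add n) = z := by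
  obtain ⟨x₂, hx₂⟩ := Ext.contravariant_sequence_exact₁ hS M z (by omega) h
  refine ⟨(Ext.biprodAddEquiv x₂).1, (Ext.biprodAddEquiv x₂).2, ?_⟩
  rw [← comp_f, Prod.mk.eta, AddEquiv.symm_apply_apply]
  exact hx₂

/-- (A3) -/
lemma mv_exact₃ (n : ℕ) (x : Ext.{w} P₄ M (n + 1))
    (h₂ : (Ext.mk₀ i₂₄).comp x (zero_add (n + 1)) = 0)
    (h₃ : (Ext.mk₀ i₃₄).comp x (zero_add (n + 1)) = 0) :
    ∃ z : Ext.{w} P₁ M n, mvδ i₁₂ i₁₃ i₂₄ i₃₄ hz hS M n z = x := by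
  refine Ext.contravariant_sequence_exact₃ hS M x ?_ (by omega)
  apply Ext.biprodAddEquiv.injective
  change Ext.biprodAddEquiv ((Ext.mk₀ (biprod.desc i₂₄ i₃₄)).comp x (zero_add (n + 1))) = _
  rw [comp_g, h₂, h₃, map_zero]
  rfl

/-- zero conditions -/
lemma mvδ_sub (n : ℕ) (y₂ : Ext.{w} P₂ M n) (y₃ : Ext.{w} P₃ M n) :
    mvδ i₁₂ i₁₃ i₂₄ i₃₄ hz hS M n
      ((Ext.mk₀ i₁₂).comp y₂ (zero_add n) - (Ext.mk₀ i₁₃).comp y₃ (zero_add n)) = 0 := by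
  rw [← comp_f, mvδ_apply, ← Ext.comp_assoc _ _ _ (add_zero 1) (zero_add n) (by omega),
    hS.extClass_comp, Ext.zero_comp]

lemma comp_mvδ₂ (n : ℕ) (z : Ext.{w} P₁ M n) :
    (Ext.mk₀ i₂₄).comp (mvδ i₁₂ i₁₃ i₂₄ i₃₄ hz hS M n z) (zero_add (n + 1)) = 0 := by
  have h := congrArg Prod.fst
    (comp_g i₂₄ i₃₄ M (n + 1) (mvδ i₁₂ i₁₃ i₂₄ i₃₄ hz hS M n z))
  dsimp only at h
  rw [← h, mvδ_apply, ← Ext.comp_assoc _ _ _ (zero_add 1) (by omega) (by omega),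
    hS.comp_extClass, Ext.zero_comp, map_zero]
  rfl

lemma comp_mvδ₃ (n : ℕ) (z : Ext.{w} P₁ M n) :
    (Ext.mk₀ i₃₄).comp (mvδ i₁₂ i₁₃ i₂₄ i₃₄ hz hS M n z) (zero_add (n + 1)) = 0 := by
  have h := congrArg Prod.snd
    (comp_g i₂₄ i₃₄ M (n + 1) (mvδ i₁₂ i₁₃ i₂₄ i₃₄ hz hS M n z))
  dsimp only at h
  rw [← h, mvδ_apply, ← Ext.comp_assoc _ _ _ (zero_add 1) (by omega) (by omega),
    hS.comp_extClass, Ext.zero_comp, map_zero]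
  rfl

end Alg

section Compare

variable {ℬ : Type u₂} [Category.{v₂} ℬ] [Abelian ℬ] [HasExt.{v₂} ℬ]
  {𝒳 : Type u₁} [Category.{v₁} 𝒳] [Abelian 𝒳] [EnoughInjectives 𝒳]
  (Φ : 𝒳 ≌ ℬ) [Φ.functor.Additive]

/-- the δ-functor `F ↦ Extⁿ(P, Φ F)` -/
noncomputable def ED (P : ℬ) : CohDeltaFunctor 𝒳 AddCommGrpCat.{v₂} ℕ :=
  precompDelta Φ.functor (extDelta.{v₂} P)

lemma ED_isUniversal (P : ℬ) : (ED Φ P).IsUniversal := by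
  apply Groth.Agent.S6773.result
  rw [Groth.Agent.S14349.result]
  intro n I hI
  have : Injective (Φ.functor.obj I) :=
    Injective.injective_of_adjoint Φ.symm.toAdjunction I
  have : Subsingleton (Ext.{v₂} P (Φ.functor.obj I) (n + 1)) :=
    subsingleton_of_forall_eq 0 (fun x => Ext.eq_zero_of_injective x)
  exact AddCommGrpCat.isZero_of_subsingleton
    (AddCommGrpCat.of (Ext.{v₂} P (Φ.functor.obj I) (n + 1)))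

/-- restriction maps -/
noncomputable def RD {P Q : ℬ} (i : P ⟶ Q) : ED Φ Q ⟶ ED Φ P :=
  precompDeltaWhisker Φ.functor (extDeltaMap.{v₂} i)

lemma RD_app_app_apply {P Q : ℬ} (i : P ⟶ Q) (n : ℕ) (F : 𝒳)
    (x : Ext.{v₂} Q (Φ.functor.obj F) n) :
    ((RD Φ i).app n).app F x = (Ext.mk₀ i).comp x (zero_add n) := rfl

lemma ED_map_apply (P : ℬ) (n : ℕ) {F F' : 𝒳} (f : F ⟶ F') (x : Ext.{v₂} P (Φ.functor.obj F) n) :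
    ((ED Φ P).F n).map f x = x.comp (Ext.mk₀ (Φ.functor.map f)) (add_zero n) := rfl

/-- degree-zero data identifying `T⁰(F)` with `Hom(P, Φ F)` -/
structure ZeroData (T : CohDeltaFunctor 𝒳 AddCommGrpCat.{v₂} ℕ) (P : ℬ) where
  /-- the identification -/
  ε : ∀ F : 𝒳, (T.F 0).obj F ≃+ (P ⟶ Φ.functor.obj F)
  nat : ∀ {F F' : 𝒳} (f : F ⟶ F') (t : (T.F 0).obj F),
    ε F' ((T.F 0).map f t) = ε F t ≫ Φ.functor.map f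

variable {Φ}

/-- the degree zero comparison -/
noncomputable def ZeroData.iso {T : CohDeltaFunctor 𝒳 AddCommGrpCat.{v₂} ℕ} {P : ℬ}
    (d : ZeroData Φ T P) : (ED Φ P).F 0 ≅ T.F 0 :=
  NatIso.ofComponents
    (fun F => (Ext.addEquiv₀.trans (d.ε F).symm).toAddCommGrpIso)
    (fun {F F'} f => by
      ext x
      obtain ⟨φ, rfl⟩ := (Ext.mk₀_bijective _ _).2 x
      change (d.ε F').symm (Ext.addEquiv₀ ((Ext.mk₀ φ).comp (Ext.mk₀ (Φ.functor.map f))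
        (add_zero 0))) = (T.F 0).map f ((d.ε F).symm (Ext.addEquiv₀ (Ext.mk₀ φ)))
      apply (d.ε F').injective
      rw [AddEquiv.apply_symm_apply, d.nat, AddEquiv.apply_symm_apply, Ext.mk₀_comp_mk₀]
      erw [Ext.addEquiv₀.apply_symm_apply, Ext.addEquiv₀.apply_symm_apply])

lemma ZeroData.iso_hom_app_mk₀ {T : CohDeltaFunctor 𝒳 AddCommGrpCat.{v₂} ℕ} {P : ℬ}
    (d : ZeroData Φ T P) (F : 𝒳) (φ : P ⟶ Φ.functor.obj F) :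
    d.iso.hom.app F (Ext.mk₀ φ) = (d.ε F).symm φ := by
  change (d.ε F).symm (Ext.addEquiv₀ (Ext.mk₀ φ)) = _
  erw [Ext.addEquiv₀.apply_symm_apply]

/-- the comparison isomorphism of δ-functors -/
theorem ZeroData.exists_iso {T : CohDeltaFunctor 𝒳 AddCommGrpCat.{v₂} ℕ} {P : ℬ}
    (d : ZeroData Φ T P) (hT : T.IsUniversal) :
    ∃ κ : ED Φ P ≅ T, κ.hom.app 0 = d.iso.hom :=
  exists_iso_of_isUniversal (ED_isUniversal Φ P) hT d.iso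

end Compare

section Squares

variable {ℬ : Type u₂} [Category.{v₂} ℬ] [Abelian ℬ] [HasExt.{v₂} ℬ]
  {𝒳 : Type u₁} [Category.{v₁} 𝒳] [Abelian 𝒳] [EnoughInjectives 𝒳]
  {Φ : 𝒳 ≌ ℬ} [Φ.functor.Additive]

lemma RD_comp {P Q R : ℬ} (i : P ⟶ Q) (k : Q ⟶ R) : RD Φ k ≫ RD Φ i = RD Φ (i ≫ k) := by
  ext n F x
  change (Ext.mk₀ i).comp ((Ext.mk₀ k).comp x (zero_add n)) (zero_add n) =
    (Ext.mk₀ (i ≫ k)).comp x (zero_add n)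
  rw [← Ext.comp_assoc (Ext.mk₀ i) (Ext.mk₀ k) x (zero_add 0) (zero_add n) (by omega),
    Ext.mk₀_comp_mk₀]

/-- (Sq1) compatibility of the comparison isomorphisms with a morphism of δ-functors which is
"restriction" in degree zero. -/
theorem sq_of_zero {T T' : CohDeltaFunctor 𝒳 AddCommGrpCat.{v₂} ℕ} {P P' : ℬ}
    (d : ZeroData Φ T P) (d' : ZeroData Φ T' P') (i : P ⟶ P') (ρ : T' ⟶ T)
    (hρ : ∀ (F : 𝒳) (t : (T'.F 0).obj F), d.ε F ((ρ.app 0).app F t) = i ≫ d'.ε F t)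
    (κ : ED Φ P ≅ T) (hκ : κ.hom.app 0 = d.iso.hom)
    (κ' : ED Φ P' ≅ T') (hκ' : κ'.hom.app 0 = d'.iso.hom) :
    RD Φ i ≫ κ.hom = κ'.hom ≫ ρ := by
  apply hom_ext_of_isUniversal (ED_isUniversal Φ P')
  rw [CohDeltaFunctor.comp_app, CohDeltaFunctor.comp_app, hκ, hκ']
  ext F x
  obtain ⟨φ, rfl⟩ := (Ext.mk₀_bijective _ _).2 x
  rw [NatTrans.comp_app, NatTrans.comp_app, ConcreteCategory.comp_apply,
    ConcreteCategory.comp_apply, RD_app_app_apply, Ext.mk₀_comp_mk₀, d.iso_hom_app_mk₀,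
    d'.iso_hom_app_mk₀]
  apply (d.ε F).injective
  rw [AddEquiv.apply_symm_apply, hρ, AddEquiv.apply_symm_apply]

/-- (Sq2) the Yoneda–mono argument. -/
theorem sq_of_mono {T₁ T₂ T₄ : CohDeltaFunctor 𝒳 AddCommGrpCat.{v₂} ℕ} {P₁ P₂ P₄ : ℬ}
    (d₁ : ZeroData Φ T₁ P₁) (i₁₂ : P₁ ⟶ P₂) (i₂₄ : P₂ ⟶ P₄) [Mono i₂₄]
    (ρ₁ : T₄ ⟶ T₁) (ρ₂ : T₄ ⟶ T₂) (σ₂ : T₂ ⟶ T₁)
    (hσ : ∀ (F : 𝒳) (t : (T₄.F 0).obj F),
      (σ₂.app 0).app F ((ρ₂.app 0).app F t) = (ρ₁.app 0).app F t)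
    (κ₁ : ED Φ P₁ ≅ T₁) (κ₂ : ED Φ P₂ ≅ T₂) (κ₄ : ED Φ P₄ ≅ T₄)
    (h₁₄ : RD Φ (i₁₂ ≫ i₂₄) ≫ κ₁.hom = κ₄.hom ≫ ρ₁)
    (h₂₄ : RD Φ i₂₄ ≫ κ₂.hom = κ₄.hom ≫ ρ₂) :
    RD Φ i₁₂ ≫ κ₁.hom = κ₂.hom ≫ σ₂ := by
  apply hom_ext_of_isUniversal (ED_isUniversal Φ P₂)
  -- the two natural transformations
  set τ₁ : (ED Φ P₂).F 0 ⟶ T₁.F 0 := (RD Φ i₁₂ ≫ κ₁.hom).app 0 with hτ₁
  set τ₂ : (ED Φ P₂).F 0 ⟶ T₁.F 0 := (κ₂.hom ≫ σ₂).app 0 with hτ₂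
  have key : (RD Φ i₂₄).app 0 ≫ τ₁ = (RD Φ i₂₄).app 0 ≫ τ₂ := by
    rw [hτ₁, hτ₂, ← CohDeltaFunctor.comp_app, ← CohDeltaFunctor.comp_app, ← Category.assoc,
      ← Category.assoc, RD_comp, h₁₄, h₂₄]
    ext F t
    simp only [CohDeltaFunctor.comp_app, NatTrans.comp_app, ConcreteCategory.comp_apply]
    exact (hσ F _).symm
  ext F x
  obtain ⟨φ, rfl⟩ := (Ext.mk₀_bijective _ _).2 x
  -- universal elements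
  let Q₂ := Φ.inverse.obj P₂
  let Q₄ := Φ.inverse.obj P₄
  let u₂ : P₂ ⟶ Φ.functor.obj Q₂ := Φ.counitInv.app P₂
  let u₄ : P₄ ⟶ Φ.functor.obj Q₄ := Φ.counitInv.app P₄
  let g : Q₂ ⟶ F := Φ.inverse.map φ ≫ Φ.unitInv.app F
  let a' : Q₂ ⟶ Q₄ := Φ.inverse.map i₂₄
  have hg : u₂ ≫ Φ.functor.map g = φ := by
    dsimp only [u₂, g]
    rw [Functor.map_comp, ← Category.assoc, Φ.counitInv_naturality φ, Category.assoc,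
      Φ.counitInv_functor_comp, Category.comp_id]
  have hx : Ext.mk₀ φ = ((ED Φ P₂).F 0).map g (Ext.mk₀ u₂) := by
    rw [ED_map_apply, Ext.mk₀_comp_mk₀, hg]
  have ha : (Ext.mk₀ i₂₄).comp (Ext.mk₀ u₄) (zero_add 0) =
      ((ED Φ P₂).F 0).map a' (Ext.mk₀ u₂) := by
    rw [ED_map_apply, Ext.mk₀_comp_mk₀, Ext.mk₀_comp_mk₀]
    congr 1
    exact (Φ.counitInv_naturality i₂₄).symm
  have nat₁ : ∀ {G G' : 𝒳} (f : G ⟶ G') (y : ((ED Φ P₂).F 0).obj G),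
      τ₁.app G' (((ED Φ P₂).F 0).map f y) = (T₁.F 0).map f (τ₁.app G y) := fun f y => by
    have := congrArg (fun k => k y) (congrArg AddCommGrpCat.Hom.hom (τ₁.naturality f))
    simpa using this
  have nat₂ : ∀ {G G' : 𝒳} (f : G ⟶ G') (y : ((ED Φ P₂).F 0).obj G),
      τ₂.app G' (((ED Φ P₂).F 0).map f y) = (T₁.F 0).map f (τ₂.app G y) := fun f y => by
    have := congrArg (fun k => k y) (congrArg AddCommGrpCat.Hom.hom (τ₂.naturality f))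
    simpa using this
  have main : τ₁.app Q₂ (Ext.mk₀ u₂) = τ₂.app Q₂ (Ext.mk₀ u₂) := by
    have h := congrArg (fun k => k (Ext.mk₀ u₄))
      (congrArg AddCommGrpCat.Hom.hom (congrArg (fun τ => τ.app Q₄) key))
    simp only [NatTrans.comp_app, AddCommGrpCat.hom_comp, AddMonoidHom.coe_comp,
      Function.comp_apply] at h
    rw [RD_app_app_apply, ha, nat₁, nat₂] at h
    have hmono : Mono (Φ.functor.map a') := inferInstance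
    apply (d₁.ε Q₂).injective
    have h' := congrArg (d₁.ε Q₄) h
    rw [d₁.nat, d₁.nat] at h'
    exact (cancel_mono _).1 h'
  change τ₁.app F (Ext.mk₀ φ) = τ₂.app F (Ext.mk₀ φ)
  rw [hx, nat₁, nat₂, main]

end Squares

section Main

variable {ℬ : Type u₂} [Category.{v₂} ℬ] [Abelian ℬ] [HasExt.{v₂} ℬ]
  {𝒳 : Type u₁} [Category.{v₁} 𝒳] [Abelian 𝒳] [EnoughInjectives 𝒳]
  {Φ : 𝒳 ≌ ℬ} [Φ.functor.Additive]
  {P₁ P₂ P₃ P₄ : ℬ} (i₁₂ : P₁ ⟶ P₂) (i₁₃ : P₁ ⟶ P₃) (i₂₄ : P₂ ⟶ P₄) (i₃₄ : P₃ ⟶ P₄)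
  (hz : biprod.lift i₁₂ (-i₁₃) ≫ biprod.desc i₂₄ i₃₄ = 0)
  (hS : (mvSC i₁₂ i₁₃ i₂₄ i₃₄ hz).ShortExact) [Mono i₂₄] [Mono i₃₄]
  {T₁ T₂ T₃ T₄ : CohDeltaFunctor 𝒳 AddCommGrpCat.{v₂} ℕ}
  (h₁ : T₁.IsUniversal) (h₂ : T₂.IsUniversal) (h₃ : T₃.IsUniversal) (h₄ : T₄.IsUniversal)
  (d₁ : ZeroData Φ T₁ P₁) (d₂ : ZeroData Φ T₂ P₂) (d₃ : ZeroData Φ T₃ P₃) (d₄ : ZeroData Φ T₄ P₄)
  (ρ₁ : T₄ ⟶ T₁) (ρ₂ : T₄ ⟶ T₂) (ρ₃ : T₄ ⟶ T₃) (σ₂ : T₂ ⟶ T₁) (σ₃ : T₃ ⟶ T₁)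

/-- the additive equivalence underlying an isomorphism of δ-functors -/
noncomputable def isoAddEquiv {T T' : CohDeltaFunctor 𝒳 AddCommGrpCat.{v₂} ℕ} (κ : T ≅ T') (n : ℕ)
    (F : 𝒳) : (T.F n).obj F ≃+ (T'.F n).obj F :=
  ((isoApp κ n).app F).addCommGroupIsoToAddEquiv

lemma isoAddEquiv_apply {T T' : CohDeltaFunctor 𝒳 AddCommGrpCat.{v₂} ℕ} (κ : T ≅ T') (n : ℕ)
    (F : 𝒳) (x : (T.F n).obj F) : isoAddEquiv κ n F x = (κ.hom.app n).app F x := rfl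

include hS h₁ h₂ h₃ h₄ in
/-- **Abstract Mayer–Vietoris theorem for universal δ-functors.** -/
theorem mayerVietoris
    (hρ₁ : ∀ (F : 𝒳) (t : (T₄.F 0).obj F),
      d₁.ε F ((ρ₁.app 0).app F t) = (i₁₂ ≫ i₂₄) ≫ d₄.ε F t)
    (hρ₂ : ∀ (F : 𝒳) (t : (T₄.F 0).obj F), d₂.ε F ((ρ₂.app 0).app F t) = i₂₄ ≫ d₄.ε F t)
    (hρ₃ : ∀ (F : 𝒳) (t : (T₄.F 0).obj F), d₃.ε F ((ρ₃.app 0).app F t) = i₃₄ ≫ d₄.ε F t)
    (hσ₂ : ∀ (F : 𝒳) (t : (T₄.F 0).obj F),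
      (σ₂.app 0).app F ((ρ₂.app 0).app F t) = (ρ₁.app 0).app F t)
    (hσ₃ : ∀ (F : 𝒳) (t : (T₄.F 0).obj F),
      (σ₃.app 0).app F ((ρ₃.app 0).app F t) = (ρ₁.app 0).app F t)
    (F : 𝒳) :
    ∃ δ : ∀ n : ℕ, (T₁.F n).obj F →+ (T₄.F (n + 1)).obj F,
      (AddMonoidHom.prod ((ρ₂.app 0).app F).hom ((ρ₃.app 0).app F).hom).ker = ⊥ ∧
      (∀ n : ℕ, (AddMonoidHom.prod ((ρ₂.app (n + 1)).app F).hom
        ((ρ₃.app (n + 1)).app F).hom).ker = (δ n).range) ∧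
      (∀ n : ℕ, (((σ₂.app n).app F).hom.comp (AddMonoidHom.fst _ _) -
          ((σ₃.app n).app F).hom.comp (AddMonoidHom.snd _ _)).ker =
        (AddMonoidHom.prod ((ρ₂.app n).app F).hom ((ρ₃.app n).app F).hom).range) ∧
      (∀ n : ℕ, (δ n).ker =
        (((σ₂.app n).app F).hom.comp (AddMonoidHom.fst _ _) -
          ((σ₃.app n).app F).hom.comp (AddMonoidHom.snd _ _)).range) := by
  obtain ⟨κ₁, hκ₁⟩ := d₁.exists_iso h₁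
  obtain ⟨κ₂, hκ₂⟩ := d₂.exists_iso h₂
  obtain ⟨κ₃, hκ₃⟩ := d₃.exists_iso h₃
  obtain ⟨κ₄, hκ₄⟩ := d₄.exists_iso h₄
  have s₁₄ := sq_of_zero d₁ d₄ (i₁₂ ≫ i₂₄) ρ₁ hρ₁ κ₁ hκ₁ κ₄ hκ₄
  have s₂₄ := sq_of_zero d₂ d₄ i₂₄ ρ₂ hρ₂ κ₂ hκ₂ κ₄ hκ₄
  have s₃₄ := sq_of_zero d₃ d₄ i₃₄ ρ₃ hρ₃ κ₃ hκ₃ κ₄ hκ₄
  have s₁₂ := sq_of_mono d₁ i₁₂ i₂₄ ρ₁ ρ₂ σ₂ hσ₂ κ₁ κ₂ κ₄ s₁₄ s₂₄
  have s₁₃ := sq_of_mono d₁ i₁₃ i₃₄ ρ₁ ρ₃ σ₃ hσ₃ κ₁ κ₃ κ₄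
    (by rw [← mv_fac i₁₂ i₁₃ i₂₄ i₃₄ hz]; exact s₁₄) s₃₄
  have sq : ∀ {T T' : CohDeltaFunctor 𝒳 AddCommGrpCat.{v₂} ℕ} {P P' : ℬ} (i : P ⟶ P')
      (κ : ED Φ P ≅ T) (κ' : ED Φ P' ≅ T') (ρ : T' ⟶ T) (_ : RD Φ i ≫ κ.hom = κ'.hom ≫ ρ)
      (n : ℕ) (y : Ext.{v₂} P' (Φ.functor.obj F) n),
      ((ρ.app n).app F).hom (isoAddEquiv κ' n F y) =
        isoAddEquiv κ n F ((Ext.mk₀ i).comp y (zero_add n)) := by
    intro T T' P P' i κ κ' ρ h n y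
    have := congrArg (fun τ => (τ.app n).app F y) h
    simp only [CohDeltaFunctor.comp_app, NatTrans.comp_app, ConcreteCategory.comp_apply] at this
    rw [isoAddEquiv_apply, isoAddEquiv_apply, ← RD_app_app_apply]
    exact this.symm
  let M := Φ.functor.obj F
  exact MVTransport.mv_transport
    (A₁ := fun n => Ext.{v₂} P₁ M n) (A₂ := fun n => Ext.{v₂} P₂ M n)
    (A₃ := fun n => Ext.{v₂} P₃ M n) (A₄ := fun n => Ext.{v₂} P₄ M n)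
    (B₁ := fun n => (T₁.F n).obj F) (B₂ := fun n => (T₂.F n).obj F)
    (B₃ := fun n => (T₃.F n).obj F) (B₄ := fun n => (T₄.F n).obj F)
    (fun n => (Ext.mk₀ i₂₄).precomp M (zero_add n))
    (fun n => (Ext.mk₀ i₃₄).precomp M (zero_add n))
    (fun n => (Ext.mk₀ i₁₂).precomp M (zero_add n))
    (fun n => (Ext.mk₀ i₁₃).precomp M (zero_add n))
    (fun n => mvδ i₁₂ i₁₃ i₂₄ i₃₄ hz hS M n)
    (fun n => ((ρ₂.app n).app F).hom) (fun n => ((ρ₃.app n).app F).hom)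
    (fun n => ((σ₂.app n).app F).hom) (fun n => ((σ₃.app n).app F).hom)
    (fun n => isoAddEquiv κ₁ n F) (fun n => isoAddEquiv κ₂ n F) (fun n => isoAddEquiv κ₃ n F)
    (fun n => isoAddEquiv κ₄ n F)
    (fun n y => sq i₂₄ κ₂ κ₄ ρ₂ s₂₄ n y) (fun n y => sq i₃₄ κ₃ κ₄ ρ₃ s₃₄ n y)
    (fun n y => sq i₁₂ κ₁ κ₂ σ₂ s₁₂ n y) (fun n y => sq i₁₃ κ₁ κ₃ σ₃ s₁₃ n y)
    (fun x h₂ h₃ => mv_inj i₁₂ i₁₃ i₂₄ i₃₄ hz hS M x h₂ h₃)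
    (fun n y₂ y₃ h => mv_exact₁ i₁₂ i₁₃ i₂₄ i₃₄ hz hS M n y₂ y₃ h)
    (fun n z h => mv_exact₂ i₁₂ i₁₃ i₂₄ i₃₄ hz hS M n z h)
    (fun n x h₂ h₃ => mv_exact₃ i₁₂ i₁₃ i₂₄ i₃₄ hz hS M n x h₂ h₃)
    (fun n x => by
      change (Ext.mk₀ i₁₂).comp ((Ext.mk₀ i₂₄).comp x (zero_add n)) (zero_add n) =
        (Ext.mk₀ i₁₃).comp ((Ext.mk₀ i₃₄).comp x (zero_add n)) (zero_add n)
      rw [← Ext.comp_assoc _ _ _ (zero_add 0) (zero_add n) (by omega),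
        ← Ext.comp_assoc _ _ _ (zero_add 0) (zero_add n) (by omega), Ext.mk₀_comp_mk₀,
        Ext.mk₀_comp_mk₀, mv_fac i₁₂ i₁₃ i₂₄ i₃₄ hz])
    (fun n y₂ y₃ => mvδ_sub i₁₂ i₁₃ i₂₄ i₃₄ hz hS M n y₂ y₃)
    (fun n z => ⟨comp_mvδ₂ i₁₂ i₁₃ i₂₄ i₃₄ hz hS M n z, comp_mvδ₃ i₁₂ i₁₃ i₂₄ i₃₄ hz hS M n z⟩)

end Main

end Groth.Agent.Lib.Helper4.DeltaMVAbs
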