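import Groth.Agent.Lib.Helper4.DeltaMVAbs

/-!
# Abstract Mayer–Vietoris for `Ext`-δ-functors precomposed with exact functors

The hypotheses of `DeltaMVAbs.mayerVietoris` are specialised to δ-functors of the form
`F ↦ Extⁿ(Z_k, G_k F)` with transition maps `pullExt`, `viaExt`; the degree zero data is given
by natural additive equivalences `(Z_k ⟶ G_k F) ≃+ (P_k ⟶ Φ F)`.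
-/

set_option autoImplicit false
set_option linter.unusedSectionVars false
universe v₁ v₂ v₃ u₁ u₂ u₃
open CategoryTheory CategoryTheory.Limits Opposite Abelian DeltaF

namespace Groth.Agent.Lib.Helper4.DeltaMVExt

open Groth.Agent.Lib.Helper33.ExtDelta Groth.Agent.Lib.Helper4.DeltaMV
  Groth.Agent.Lib.Helper4.DeltaMVAbs

variable {ℬ : Type u₂} [Category.{v₂} ℬ] [Abelian ℬ] [HasExt.{v₂} ℬ]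
  {𝒳 : Type u₁} [Category.{v₁} 𝒳] [Abelian 𝒳] [EnoughInjectives 𝒳] [HasExt.{v₂} 𝒳]
  (Φ : 𝒳 ≌ ℬ) [Φ.functor.Additive]

section ZD

variable {𝒴 : Type u₃} [Category.{v₃} 𝒴] [Abelian 𝒴] [HasExt.{v₂} 𝒴]
  (G : 𝒳 ⥤ 𝒴) [G.Additive] [PreservesFiniteLimits G] [PreservesFiniteColimits G]

/-- the δ-functor `F ↦ Extⁿ(Z', G F)` -/
noncomputable abbrev TG (Z' : 𝒴) : CohDeltaFunctor 𝒳 AddCommGrpCat.{v₂} ℕ :=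
  precompDelta G (extDelta.{v₂} Z')

lemma TG_isUniversal [G.PreservesInjectiveObjects] (Z' : 𝒴) : (TG G Z').IsUniversal := by
  apply Groth.Agent.S6773.result
  rw [Groth.Agent.S14349.result]
  intro n I hI
  have : Injective (G.obj I) := G.injective_obj_of_injective hI
  have : Subsingleton (Ext.{v₂} Z' (G.obj I) (n + 1)) :=
    subsingleton_of_forall_eq 0 (fun x => Ext.eq_zero_of_injective x)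
  exact AddCommGrpCat.isZero_of_subsingleton (AddCommGrpCat.of (Ext.{v₂} Z' (G.obj I) (n + 1)))

/-- degree zero data from a natural identification of `Hom` groups -/
noncomputable def zdPrecomp (Z' : 𝒴) (P : ℬ)
    (ξ : ∀ F : 𝒳, (Z' ⟶ G.obj F) ≃+ (P ⟶ Φ.functor.obj F))
    (nat : ∀ {F F' : 𝒳} (f : F ⟶ F') (t : Z' ⟶ G.obj F),
      ξ F' (t ≫ G.map f) = ξ F t ≫ Φ.functor.map f) : ZeroData Φ (TG G Z') P where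
  ε F := Ext.addEquiv₀.trans (ξ F)
  nat {F F'} f t := by
    obtain ⟨φ, rfl⟩ := (Ext.mk₀_bijective _ _).2 t
    change ξ F' (Ext.addEquiv₀ ((Ext.mk₀ φ).comp (Ext.mk₀ (G.map f)) (add_zero 0))) =
      ξ F (Ext.addEquiv₀ (Ext.mk₀ φ)) ≫ Φ.functor.map f
    rw [Ext.mk₀_comp_mk₀]
    erw [Ext.addEquiv₀.apply_symm_apply, Ext.addEquiv₀.apply_symm_apply]
    exact nat f φ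

lemma zdPrecomp_ε_mk₀ (Z' : 𝒴) (P : ℬ)
    (ξ : ∀ F : 𝒳, (Z' ⟶ G.obj F) ≃+ (P ⟶ Φ.functor.obj F))
    (nat : ∀ {F F' : 𝒳} (f : F ⟶ F') (t : Z' ⟶ G.obj F),
      ξ F' (t ≫ G.map f) = ξ F t ≫ Φ.functor.map f) (F : 𝒳) (φ : Z' ⟶ G.obj F) :
    (zdPrecomp Φ G Z' P ξ nat).ε F (Ext.mk₀ φ) = ξ F φ := by
  change ξ F (Ext.addEquiv₀ (Ext.mk₀ φ)) = _
  erw [Ext.addEquiv₀.apply_symm_apply]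

/-- degree zero data for `Ext(Z, -)` -/
noncomputable def zdExt (Z : 𝒳) (P : ℬ)
    (ξ : ∀ F : 𝒳, (Z ⟶ F) ≃+ (P ⟶ Φ.functor.obj F))
    (nat : ∀ {F F' : 𝒳} (f : F ⟶ F') (t : Z ⟶ F), ξ F' (t ≫ f) = ξ F t ≫ Φ.functor.map f) :
    ZeroData Φ (extDelta.{v₂} Z) P where
  ε F := Ext.addEquiv₀.trans (ξ F)
  nat {F F'} f t := by
    obtain ⟨φ, rfl⟩ := (Ext.mk₀_bijective _ _).2 t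
    change ξ F' (Ext.addEquiv₀ ((Ext.mk₀ φ).comp (Ext.mk₀ f) (add_zero 0))) =
      ξ F (Ext.addEquiv₀ (Ext.mk₀ φ)) ≫ Φ.functor.map f
    rw [Ext.mk₀_comp_mk₀]
    erw [Ext.addEquiv₀.apply_symm_apply, Ext.addEquiv₀.apply_symm_apply]
    exact nat f φ

lemma zdExt_ε_mk₀ (Z : 𝒳) (P : ℬ)
    (ξ : ∀ F : 𝒳, (Z ⟶ F) ≃+ (P ⟶ Φ.functor.obj F))
    (nat : ∀ {F F' : 𝒳} (f : F ⟶ F') (t : Z ⟶ F), ξ F' (t ≫ f) = ξ F t ≫ Φ.functor.map f)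
    (F : 𝒳) (φ : Z ⟶ F) : (zdExt Φ Z P ξ nat).ε F (Ext.mk₀ φ) = ξ F φ := by
  change ξ F (Ext.addEquiv₀ (Ext.mk₀ φ)) = _
  erw [Ext.addEquiv₀.apply_symm_apply]

end ZD

section Main

variable {𝒴₁ 𝒴₂ 𝒴₃ : Type u₃} [Category.{v₃} 𝒴₁] [Abelian 𝒴₁] [HasExt.{v₂} 𝒴₁]
  [Category.{v₃} 𝒴₂] [Abelian 𝒴₂] [HasExt.{v₂} 𝒴₂] [Category.{v₃} 𝒴₃] [Abelian 𝒴₃] [HasExt.{v₂} 𝒴₃]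
  (G₁ : 𝒳 ⥤ 𝒴₁) [G₁.Additive] [PreservesFiniteLimits G₁] [PreservesFiniteColimits G₁]
  [G₁.PreservesInjectiveObjects]
  (G₂ : 𝒳 ⥤ 𝒴₂) [G₂.Additive] [PreservesFiniteLimits G₂] [PreservesFiniteColimits G₂]
  [G₂.PreservesInjectiveObjects]
  (G₃ : 𝒳 ⥤ 𝒴₃) [G₃.Additive] [PreservesFiniteLimits G₃] [PreservesFiniteColimits G₃]
  [G₃.PreservesInjectiveObjects]
  (G₂₁ : 𝒴₂ ⥤ 𝒴₁) [G₂₁.Additive] [PreservesFiniteLimits G₂₁] [PreservesFiniteColimits G₂₁]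
  (G₃₁ : 𝒴₃ ⥤ 𝒴₁) [G₃₁.Additive] [PreservesFiniteLimits G₃₁] [PreservesFiniteColimits G₃₁]
  (θ₂ : G₂ ⋙ G₂₁ ⟶ G₁) (θ₃ : G₃ ⋙ G₃₁ ⟶ G₁)
  {Z : 𝒳} {Z₁ : 𝒴₁} {Z₂ : 𝒴₂} {Z₃ : 𝒴₃}
  (c₁ : Z₁ ⟶ G₁.obj Z) (c₂ : Z₂ ⟶ G₂.obj Z) (c₃ : Z₃ ⟶ G₃.obj Z)
  (d₂ : Z₁ ⟶ G₂₁.obj Z₂) (d₃ : Z₁ ⟶ G₃₁.obj Z₃)
  (hc₂ : c₁ = d₂ ≫ G₂₁.map c₂ ≫ θ₂.app Z) (hc₃ : c₁ = d₃ ≫ G₃₁.map c₃ ≫ θ₃.app Z)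
  {P₁ P₂ P₃ P₄ : ℬ} (i₁₂ : P₁ ⟶ P₂) (i₁₃ : P₁ ⟶ P₃) (i₂₄ : P₂ ⟶ P₄) (i₃₄ : P₃ ⟶ P₄)
  (hz : biprod.lift i₁₂ (-i₁₃) ≫ biprod.desc i₂₄ i₃₄ = 0)
  (hS : (mvSC i₁₂ i₁₃ i₂₄ i₃₄ hz).ShortExact) [Mono i₂₄] [Mono i₃₄]
  (ξ₁ : ∀ F : 𝒳, (Z₁ ⟶ G₁.obj F) ≃+ (P₁ ⟶ Φ.functor.obj F))
  (nat₁ : ∀ {F F' : 𝒳} (f : F ⟶ F') (t : Z₁ ⟶ G₁.obj F),
    ξ₁ F' (t ≫ G₁.map f) = ξ₁ F t ≫ Φ.functor.map f)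
  (ξ₂ : ∀ F : 𝒳, (Z₂ ⟶ G₂.obj F) ≃+ (P₂ ⟶ Φ.functor.obj F))
  (nat₂ : ∀ {F F' : 𝒳} (f : F ⟶ F') (t : Z₂ ⟶ G₂.obj F),
    ξ₂ F' (t ≫ G₂.map f) = ξ₂ F t ≫ Φ.functor.map f)
  (ξ₃ : ∀ F : 𝒳, (Z₃ ⟶ G₃.obj F) ≃+ (P₃ ⟶ Φ.functor.obj F))
  (nat₃ : ∀ {F F' : 𝒳} (f : F ⟶ F') (t : Z₃ ⟶ G₃.obj F),
    ξ₃ F' (t ≫ G₃.map f) = ξ₃ F t ≫ Φ.functor.map f)
  (ξ₄ : ∀ F : 𝒳, (Z ⟶ F) ≃+ (P₄ ⟶ Φ.functor.obj F))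
  (nat₄ : ∀ {F F' : 𝒳} (f : F ⟶ F') (t : Z ⟶ F), ξ₄ F' (t ≫ f) = ξ₄ F t ≫ Φ.functor.map f)
  (hξ₁ : ∀ (F : 𝒳) (f : Z ⟶ F), ξ₁ F (c₁ ≫ G₁.map f) = (i₁₂ ≫ i₂₄) ≫ ξ₄ F f)
  (hξ₂ : ∀ (F : 𝒳) (f : Z ⟶ F), ξ₂ F (c₂ ≫ G₂.map f) = i₂₄ ≫ ξ₄ F f)
  (hξ₃ : ∀ (F : 𝒳) (f : Z ⟶ F), ξ₃ F (c₃ ≫ G₃.map f) = i₃₄ ≫ ξ₄ F f)

include hc₂ hc₃ hS nat₁ nat₂ nat₃ nat₄ hξ₁ hξ₂ hξ₃ in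
/-- **Abstract Mayer–Vietoris for pulled-back `Ext` groups.** -/
theorem mayerVietorisExt (F : 𝒳) :
    ∃ δ : ∀ n : ℕ, Ext.{v₂} Z₁ (G₁.obj F) n →+ Ext.{v₂} Z F (n + 1),
      (AddMonoidHom.prod (pullExt G₂ c₂ F 0) (pullExt G₃ c₃ F 0)).ker = ⊥ ∧
      (∀ n : ℕ, (AddMonoidHom.prod (pullExt G₂ c₂ F (n + 1)) (pullExt G₃ c₃ F (n + 1))).ker =
        (δ n).range) ∧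
      (∀ n : ℕ, ((viaExt G₂ G₂₁ G₁ θ₂ d₂ F n).comp (AddMonoidHom.fst _ _) -
          (viaExt G₃ G₃₁ G₁ θ₃ d₃ F n).comp (AddMonoidHom.snd _ _)).ker =
        (AddMonoidHom.prod (pullExt G₂ c₂ F n) (pullExt G₃ c₃ F n)).range) ∧
      (∀ n : ℕ, (δ n).ker =
        ((viaExt G₂ G₂₁ G₁ θ₂ d₂ F n).comp (AddMonoidHom.fst _ _) -
          (viaExt G₃ G₃₁ G₁ θ₃ d₃ F n).comp (AddMonoidHom.snd _ _)).range) := by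
  have hρ : ∀ {𝒴 : Type u₃} [Category.{v₃} 𝒴] [Abelian 𝒴] [HasExt.{v₂} 𝒴]
      (G : 𝒳 ⥤ 𝒴) [G.Additive] [PreservesFiniteLimits G] [PreservesFiniteColimits G]
      {Z' : 𝒴} (c : Z' ⟶ G.obj Z) {P : ℬ} (i : P ⟶ P₄)
      (ξ : ∀ F : 𝒳, (Z' ⟶ G.obj F) ≃+ (P ⟶ Φ.functor.obj F))
      (nat : ∀ {F F' : 𝒳} (f : F ⟶ F') (t : Z' ⟶ G.obj F),
        ξ F' (t ≫ G.map f) = ξ F t ≫ Φ.functor.map f)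
      (_ : ∀ (F : 𝒳) (f : Z ⟶ F), ξ F (c ≫ G.map f) = i ≫ ξ₄ F f)
      (F : 𝒳) (t : ((extDelta.{v₂} Z).F 0).obj F),
      (zdPrecomp Φ G Z' P ξ nat).ε F (((pullExtDelta.{v₂} G c).app 0).app F t) =
        i ≫ (zdExt Φ Z P₄ ξ₄ nat₄).ε F t := by
    intro 𝒴 _ _ _ G _ _ _ Z' c P i ξ nat h F t
    obtain ⟨f, rfl⟩ := (Ext.mk₀_bijective _ _).2 t
    rw [zdExt_ε_mk₀, pullExtDelta_app_app]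
    change (zdPrecomp Φ G Z' P ξ nat).ε F (pullExt G c F 0 (Ext.mk₀ f)) = _
    rw [pullExt_mk₀, zdPrecomp_ε_mk₀, h]
  have hσ : ∀ {𝒴 : Type u₃} [Category.{v₃} 𝒴] [Abelian 𝒴] [HasExt.{v₂} 𝒴]
      (G : 𝒳 ⥤ 𝒴) [G.Additive] [PreservesFiniteLimits G] [PreservesFiniteColimits G]
      (G' : 𝒴 ⥤ 𝒴₁) [G'.Additive] [PreservesFiniteLimits G'] [PreservesFiniteColimits G']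
      (θ : G ⋙ G' ⟶ G₁) {Z' : 𝒴} (c : Z' ⟶ G.obj Z) (d : Z₁ ⟶ G'.obj Z')
      (_ : c₁ = d ≫ G'.map c ≫ θ.app Z) (F : 𝒳) (t : ((extDelta.{v₂} Z).F 0).obj F),
      ((viaDelta.{v₂} G G' G₁ θ d).app 0).app F (((pullExtDelta.{v₂} G c).app 0).app F t) =
        ((pullExtDelta.{v₂} G₁ c₁).app 0).app F t := by
    intro 𝒴 _ _ _ G _ _ _ G' _ _ _ θ Z' c d hc F t
    rw [viaDelta_app_app, pullExtDelta_app_app, pullExtDelta_app_app]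
    exact viaExt_pullExt_zero G G' G₁ θ d c c₁ hc F t
  obtain ⟨δ, h0, h1, h2, h3⟩ := mayerVietoris (Φ := Φ) i₁₂ i₁₃ i₂₄ i₃₄ hz hS
    (TG_isUniversal G₁ Z₁) (TG_isUniversal G₂ Z₂) (TG_isUniversal G₃ Z₃) (extDelta_isUniversal Z)
    (zdPrecomp Φ G₁ Z₁ P₁ ξ₁ nat₁) (zdPrecomp Φ G₂ Z₂ P₂ ξ₂ nat₂) (zdPrecomp Φ G₃ Z₃ P₃ ξ₃ nat₃)
    (zdExt Φ Z P₄ ξ₄ nat₄)
    (pullExtDelta.{v₂} G₁ c₁) (pullExtDelta.{v₂} G₂ c₂) (pullExtDelta.{v₂} G₃ c₃)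
    (viaDelta.{v₂} G₂ G₂₁ G₁ θ₂ d₂) (viaDelta.{v₂} G₃ G₃₁ G₁ θ₃ d₃)
    (hρ G₁ c₁ (i₁₂ ≫ i₂₄) ξ₁ nat₁ hξ₁) (hρ G₂ c₂ i₂₄ ξ₂ nat₂ hξ₂) (hρ G₃ c₃ i₃₄ ξ₃ nat₃ hξ₃)
    (hσ G₂ G₂₁ θ₂ c₂ d₂ hc₂) (hσ G₃ G₃₁ θ₃ c₃ d₃ hc₃) F
  simp only [viaDelta_app_app, pullExtDelta_app_app] at h0 h1 h2 h3
  exact ⟨δ, h0, h1, h2, h3⟩

end Main

end Groth.Agent.Lib.Helper4.DeltaMVExt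

namespace Groth.Agent.Lib.Helper4.DeltaMVExt

open Groth.Agent.Lib.Helper33.ExtDelta Groth.Agent.Lib.Helper4.DeltaMV
  Groth.Agent.Lib.Helper4.DeltaMVAbs

section Main'

variable {ℬ : Type u₂} [Category.{v₂} ℬ] [Abelian ℬ] [HasExt.{v₂} ℬ]
  {𝒳 : Type u₁} [Category.{v₁} 𝒳] [Abelian 𝒳] [EnoughInjectives 𝒳] [HasExt.{v₂} 𝒳]
  (Φ : 𝒳 ≌ ℬ) [Φ.functor.Additive]
  {𝒴₁ 𝒴₂ 𝒴₃ : Type u₃} [Category.{v₃} 𝒴₁] [Abelian 𝒴₁] [HasExt.{v₂} 𝒴₁]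
  [Category.{v₃} 𝒴₂] [Abelian 𝒴₂] [HasExt.{v₂} 𝒴₂] [Category.{v₃} 𝒴₃] [Abelian 𝒴₃] [HasExt.{v₂} 𝒴₃]
  (G₁ : 𝒳 ⥤ 𝒴₁) [G₁.Additive] [PreservesFiniteLimits G₁] [PreservesFiniteColimits G₁]
  [G₁.PreservesInjectiveObjects]
  (G₂ : 𝒳 ⥤ 𝒴₂) [G₂.Additive] [PreservesFiniteLimits G₂] [PreservesFiniteColimits G₂]
  [G₂.PreservesInjectiveObjects]
  (G₃ : 𝒳 ⥤ 𝒴₃) [G₃.Additive] [PreservesFiniteLimits G₃] [PreservesFiniteColimits G₃]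
  [G₃.PreservesInjectiveObjects]
  (G₂₁ : 𝒴₂ ⥤ 𝒴₁) [G₂₁.Additive] [PreservesFiniteLimits G₂₁] [PreservesFiniteColimits G₂₁]
  (G₃₁ : 𝒴₃ ⥤ 𝒴₁) [G₃₁.Additive] [PreservesFiniteLimits G₃₁] [PreservesFiniteColimits G₃₁]
  (θ₂ : G₂ ⋙ G₂₁ ⟶ G₁) (θ₃ : G₃ ⋙ G₃₁ ⟶ G₁)
  {Z : 𝒳} {Z₁ : 𝒴₁} {Z₂ : 𝒴₂} {Z₃ : 𝒴₃}
  (c₁ : Z₁ ⟶ G₁.obj Z) (c₂ : Z₂ ⟶ G₂.obj Z) (c₃ : Z₃ ⟶ G₃.obj Z)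
  (d₂ : Z₁ ⟶ G₂₁.obj Z₂) (d₃ : Z₁ ⟶ G₃₁.obj Z₃)
  (hc₂ : c₁ = d₂ ≫ G₂₁.map c₂ ≫ θ₂.app Z) (hc₃ : c₁ = d₃ ≫ G₃₁.map c₃ ≫ θ₃.app Z)
  {P₁ P₂ P₃ P₄ : ℬ} (i₁₂ : P₁ ⟶ P₂) (i₁₃ : P₁ ⟶ P₃) (i₂₄ : P₂ ⟶ P₄) (i₃₄ : P₃ ⟶ P₄)
  (hz : biprod.lift i₁₂ (-i₁₃) ≫ biprod.desc i₂₄ i₃₄ = 0)
  (hS : (mvSC i₁₂ i₁₃ i₂₄ i₃₄ hz).ShortExact) [Mono i₂₄] [Mono i₃₄]
  (ξ₁ : ∀ F : 𝒳, (Z₁ ⟶ G₁.obj F) ≃+ (P₁ ⟶ Φ.functor.obj F))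
  (nat₁ : ∀ {F F' : 𝒳} (f : F ⟶ F') (t : Z₁ ⟶ G₁.obj F),
    ξ₁ F' (t ≫ G₁.map f) = ξ₁ F t ≫ Φ.functor.map f)
  (ξ₂ : ∀ F : 𝒳, (Z₂ ⟶ G₂.obj F) ≃+ (P₂ ⟶ Φ.functor.obj F))
  (nat₂ : ∀ {F F' : 𝒳} (f : F ⟶ F') (t : Z₂ ⟶ G₂.obj F),
    ξ₂ F' (t ≫ G₂.map f) = ξ₂ F t ≫ Φ.functor.map f)
  (ξ₃ : ∀ F : 𝒳, (Z₃ ⟶ G₃.obj F) ≃+ (P₃ ⟶ Φ.functor.obj F))
  (nat₃ : ∀ {F F' : 𝒳} (f : F ⟶ F') (t : Z₃ ⟶ G₃.obj F),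
    ξ₃ F' (t ≫ G₃.map f) = ξ₃ F t ≫ Φ.functor.map f)
  (ξ₄ : ∀ F : 𝒳, (Z ⟶ F) ≃+ (P₄ ⟶ Φ.functor.obj F))
  (nat₄ : ∀ {F F' : 𝒳} (f : F ⟶ F') (t : Z ⟶ F), ξ₄ F' (t ≫ f) = ξ₄ F t ≫ Φ.functor.map f)
  (hξ₁ : ∀ (F : 𝒳) (f : Z ⟶ F), ξ₁ F (c₁ ≫ G₁.map f) = (i₁₂ ≫ i₂₄) ≫ ξ₄ F f)
  (hξ₂ : ∀ (F : 𝒳) (f : Z ⟶ F), ξ₂ F (c₂ ≫ G₂.map f) = i₂₄ ≫ ξ₄ F f)
  (hξ₃ : ∀ (F : 𝒳) (f : Z ⟶ F), ξ₃ F (c₃ ≫ G₃.map f) = i₃₄ ≫ ξ₄ F f)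

include hc₂ hc₃ hS nat₁ nat₂ nat₃ nat₄ hξ₁ hξ₂ hξ₃ in
/-- Variant of `mayerVietorisExt` where the four families of maps are given by pointwise
formulas (to make the instantiation cheap for the kernel). -/
theorem mayerVietorisExt' (F : 𝒳)
    (r₂ : ∀ n : ℕ, Ext.{v₂} Z F n →+ Ext.{v₂} Z₂ (G₂.obj F) n)
    (r₃ : ∀ n : ℕ, Ext.{v₂} Z F n →+ Ext.{v₂} Z₃ (G₃.obj F) n)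
    (s₂ : ∀ n : ℕ, Ext.{v₂} Z₂ (G₂.obj F) n →+ Ext.{v₂} Z₁ (G₁.obj F) n)
    (s₃ : ∀ n : ℕ, Ext.{v₂} Z₃ (G₃.obj F) n →+ Ext.{v₂} Z₁ (G₁.obj F) n)
    (hr₂ : ∀ (n : ℕ) (e : Ext.{v₂} Z F n),
      r₂ n e = (Ext.mk₀ c₂).comp (e.mapExactFunctor G₂) (zero_add n))
    (hr₃ : ∀ (n : ℕ) (e : Ext.{v₂} Z F n),
      r₃ n e = (Ext.mk₀ c₃).comp (e.mapExactFunctor G₃) (zero_add n))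
    (hs₂ : ∀ (n : ℕ) (e : Ext.{v₂} Z₂ (G₂.obj F) n),
      s₂ n e = ((Ext.mk₀ d₂).comp (e.mapExactFunctor G₂₁) (zero_add n)).comp
        (Ext.mk₀ (θ₂.app F)) (add_zero n))
    (hs₃ : ∀ (n : ℕ) (e : Ext.{v₂} Z₃ (G₃.obj F) n),
      s₃ n e = ((Ext.mk₀ d₃).comp (e.mapExactFunctor G₃₁) (zero_add n)).comp
        (Ext.mk₀ (θ₃.app F)) (add_zero n)) :
    ∃ δ : ∀ n : ℕ, Ext.{v₂} Z₁ (G₁.obj F) n →+ Ext.{v₂} Z F (n + 1),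
      (AddMonoidHom.prod (r₂ 0) (r₃ 0)).ker = ⊥ ∧
      (∀ n : ℕ, (AddMonoidHom.prod (r₂ (n + 1)) (r₃ (n + 1))).ker = (δ n).range) ∧
      (∀ n : ℕ, ((s₂ n).comp (AddMonoidHom.fst _ _) - (s₃ n).comp (AddMonoidHom.snd _ _)).ker =
        (AddMonoidHom.prod (r₂ n) (r₃ n)).range) ∧
      (∀ n : ℕ, (δ n).ker =
        ((s₂ n).comp (AddMonoidHom.fst _ _) - (s₃ n).comp (AddMonoidHom.snd _ _)).range) := by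
  have e₂ : r₂ = pullExt G₂ c₂ F := by
    funext n; ext e; exact hr₂ n e
  have e₃ : r₃ = pullExt G₃ c₃ F := by
    funext n; ext e; exact hr₃ n e
  have f₂ : s₂ = viaExt G₂ G₂₁ G₁ θ₂ d₂ F := by
    funext n; ext e; exact hs₂ n e
  have f₃ : s₃ = viaExt G₃ G₃₁ G₁ θ₃ d₃ F := by
    funext n; ext e; exact hs₃ n e
  subst e₂ e₃ f₂ f₃
  exact mayerVietorisExt Φ G₁ G₂ G₃ G₂₁ G₃₁ θ₂ θ₃ c₁ c₂ c₃ d₂ d₃ hc₂ hc₃ i₁₂ i₁₃ i₂₄ i₃₄ hz hS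
    ξ₁ nat₁ ξ₂ nat₂ ξ₃ nat₃ ξ₄ nat₄ hξ₁ hξ₂ hξ₃ F

end Main'

end Groth.Agent.Lib.Helper4.DeltaMVExt
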