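import Mathlib
import Groth.Prelude.Def_EtBase
import Groth.Prelude.Def_EtLim
import Groth.Agent.S0069
import Groth.Agent.S14451
import Groth.Agent.S0099
import Groth.Agent.Lib.Helper43.ClosedStalk
import Groth.Agent.Lib.Helper43.EtStalk
import Groth.Agent.Lib.Helper5.RDerExact
import Groth.Agent.Lib.Helper6.EtPullExact

/-!
# Direct image along a closed immersion is exact (abelian étale sheaves)

* `pushStalkMap_naturality`: naturality in `G` of helper43's identification `(i_* G)_{iζ} ≅ G_ζ`;
* `exists_lift`: a geometric point of `X` whose image lies in the closed subscheme factors through it;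
* `epi_push_map`: `i_*` preserves epimorphisms for a closed immersion `i`;
* `isZero_Rpush`: `R^q i_* G = 0` for `q > 0`;
* `subsingleton_H_push`: `H^p(Z, G) = 0 → H^p(X, i_* G) = 0`.
-/

set_option autoImplicit false
universe u
open CategoryTheory CategoryTheory.Limits AlgebraicGeometry Opposite

namespace Groth.Agent.Lib.Helper4.EtClosedPush

open Groth.Agent.Lib.Helper43 Groth.Agent.Lib.Helper43.EtStalk Groth.Agent.S0100

section Naturality

variable {Z X : Scheme.{u}} (i : Z ⟶ X) {G G' : EtCoh.Ab Z} (φ : G ⟶ G')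
  {Ω : Type u} [Field Ω] [IsSepClosed Ω] (ζ : Spec (CommRingCat.of Ω) ⟶ Z)

lemma pushStalkMap_naturality :
    (Scheme.pointSmallEtale (ζ ≫ i)).presheafFiber.map ((EtCoh.push i).map φ).hom ≫
        ClosedStalk.pushStalkMap i G' ζ =
      ClosedStalk.pushStalkMap i G ζ ≫ (Scheme.pointSmallEtale ζ).presheafFiber.map φ.hom := by
  apply (Scheme.pointSmallEtale (ζ ≫ i)).presheafFiber_hom_ext
  intro W z
  rw [(Scheme.pointSmallEtale (ζ ≫ i)).toPresheafFiber_naturality_assoc,
    ClosedStalk.toFiber_pushStalkMap, ← Category.assoc, ClosedStalk.toFiber_pushStalkMap]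
  exact ((Scheme.pointSmallEtale ζ).toPresheafFiber_naturality φ.hom _ _).symm

end Naturality

section Lift

lemma exists_lift {Z X : Scheme.{u}} (i : Z ⟶ X) [IsClosedImmersion i]
    {Ω : Type u} [Field Ω] (ξ : Spec (CommRingCat.of Ω) ⟶ X)
    (h : ¬ Disjoint (Set.range ξ.base) (Set.range i.base)) :
    ∃ ζ : Spec (CommRingCat.of Ω) ⟶ Z, ζ ≫ i = ξ := by
  have hs : Surjective (pullback.snd i ξ) := by
    rw [Set.not_disjoint_iff] at h
    obtain ⟨x, ⟨a, ha⟩, ⟨z, hz⟩⟩ := h
    obtain ⟨w, hw1, hw2⟩ := Scheme.Pullback.exists_preimage_pullback z a (hz.trans ha.symm)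
    constructor
    intro b
    exact ⟨w, Subsingleton.elim _ _⟩
  have : IsIso (pullback.snd i ξ) := isIso_of_isClosedImmersion_of_surjective _
  exact ⟨inv (pullback.snd i ξ) ≫ pullback.fst i ξ, by
    rw [Category.assoc, pullback.condition, IsIso.inv_hom_id_assoc]⟩

end Lift

section Exact

variable {Z X : Scheme.{u}} (i : Z ⟶ X) [IsClosedImmersion i]

theorem epi_push_map {G G' : EtCoh.Ab Z} (φ : G ⟶ G') [Epi φ] :
    Epi ((EtCoh.push i).map φ) := by
  apply epi_of_stalks_ab
  intro Ω _ _ ξ
  by_cases h : Disjoint (Set.range ξ.base) (Set.range i.base)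
  · have hz := Groth.Agent.S0069.result i G' ξ h
    intro b
    have := AddCommGrpCat.subsingleton_of_isZero hz
    exact ⟨0, Subsingleton.elim _ _⟩
  · obtain ⟨ζ, rfl⟩ := exists_lift i ξ h
    have hnat := pushStalkMap_naturality i φ ζ
    have hg : Epi ((Scheme.pointSmallEtale ζ).presheafFiber.map φ.hom) :=
      (AddCommGrpCat.epi_iff_surjective _).2 ((epi_iff_stalks_ab φ).1 inferInstance Ω ζ)
    have hf : Epi ((Scheme.pointSmallEtale (ζ ≫ i)).presheafFiber.map
        ((EtCoh.push i).map φ).hom) := by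
      have e : (Scheme.pointSmallEtale (ζ ≫ i)).presheafFiber.map ((EtCoh.push i).map φ).hom =
          (ClosedStalk.pushStalkMap i G ζ ≫ (Scheme.pointSmallEtale ζ).presheafFiber.map φ.hom) ≫
            inv (ClosedStalk.pushStalkMap i G' ζ) := by
        rw [← hnat, Category.assoc, IsIso.hom_inv_id, Category.comp_id]
      rw [e]
      infer_instance
    exact (AddCommGrpCat.epi_iff_surjective _).1 hf

end Exact

section Derived

lemma isZero_rightDerived_succ_of_preservesHomology {C : Type*} [Category C] [Abelian C]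
    [HasInjectiveResolutions C] {D : Type*} [Category D] [Abelian D] (F : C ⥤ D) [F.Additive]
    [F.PreservesHomology] (A : C) (n : ℕ) : IsZero ((F.rightDerived (n + 1)).obj A) := by
  let I := injectiveResolution A
  refine IsZero.of_iso ?_ (I.isoRightDerivedObj F (n + 1))
  have h : (I.cocomplex.sc (n + 1)).Exact := I.cocomplex_exactAt_succ n
  have h2 : (((F.mapHomologicalComplex _).obj I.cocomplex).sc (n + 1)).Exact := h.map F
  exact (HomologicalComplex.exactAt_iff_isZero_homology _ _).1 h2

variable {Z X : Scheme.{u}} (i : Z ⟶ X) [IsClosedImmersion i]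

theorem preservesHomology_push : (EtCoh.push i).PreservesHomology := by
  have hl : PreservesFiniteLimits (EtCoh.push i) := by
    have := (EtCoh.pullPushAdj i).rightAdjoint_preservesLimits
    infer_instance
  refine ((Functor.exact_tfae (EtCoh.push i)).out 0 2).1 ?_
  intro S hS
  have h1 := (Functor.preservesFiniteLimits_iff_forall_exact_map_and_mono (EtCoh.push i)).1 hl S hS
  have : Epi S.g := hS.epi_g
  have h2 : Epi ((EtCoh.push i).map S.g) := epi_push_map i S.g
  have : Mono (S.map (EtCoh.push i)).f := h1.2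
  have : Epi (S.map (EtCoh.push i)).g := h2
  exact ⟨h1.1⟩

theorem isZero_Rpush (G : EtCoh.Ab Z) (q : ℕ) (hq : 0 < q) :
    IsZero ((EtCoh.Rpush i q).obj G) := by
  have := preservesHomology_push i
  obtain ⟨n, rfl⟩ : ∃ n, q = n + 1 := ⟨q - 1, by omega⟩
  exact isZero_rightDerived_succ_of_preservesHomology (EtCoh.push i) G n

theorem subsingleton_H_push (G : EtCoh.Ab Z) (p : ℕ) (h : Subsingleton (EtCoh.H Z G p)) :
    Subsingleton (EtCoh.H X ((EtCoh.push i).obj G) p) := by
  have := Groth.Agent.Lib.Helper6.EtPullExact.preservesFiniteLimits_pull i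
  have hb := Groth.Agent.S14451.result i G (isZero_Rpush i G) p
  exact hb.1.subsingleton

end Derived

section Coprod

lemma isZero_pt_of_isColimit {J : Type*} [Category J] {A : Type*} [Category A]
    [HasZeroMorphisms A] {K : J ⥤ A} {c : Cocone K} (hc : IsColimit c)
    (h : ∀ j, IsZero (K.obj j)) : IsZero c.pt := by
  rw [IsZero.iff_id_eq_zero]
  apply hc.hom_ext
  intro j
  exact (h j).eq_of_src _ _

instance additive_HF (X : Scheme.{u}) (n : ℕ) : (EtCoh.HF X n).Additive := by
  unfold EtCoh.HF
  infer_instance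

open CoproductsFromFiniteFiltered in
/-- on a qcqs scheme, `H^n` of a coproduct of sheaves with vanishing `H^n` vanishes -/
theorem isZero_HF_coprod (X : Scheme.{u}) [CompactSpace X] [QuasiSeparatedSpace X] (n : ℕ)
    {α : Type u} (f : α → EtCoh.Ab X) (c : Cofan f) (hc : IsColimit c)
    (h : ∀ a, IsZero ((EtCoh.HF X n).obj (f a))) : IsZero ((EtCoh.HF X n).obj c.pt) := by
  have : HasCoproduct f := ⟨⟨⟨c, hc⟩⟩⟩
  have e : c.pt ≅ ∐ f := hc.coconePointUniqueUpToIso (colimit.isColimit _)
  refine IsZero.of_iso ?_ ((EtCoh.HF X n).mapIso e)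
  have hP := Groth.Agent.S0099.result X n (Finset (Discrete α))
  have hcc := isColimitOfPreserves (EtCoh.HF X n) (isColimitFiniteSubproductsCocone f)
  refine isZero_pt_of_isColimit hcc ?_
  intro S
  change IsZero ((EtCoh.HF X n).obj (∐ fun x : S => (Discrete.functor f).obj x))
  have hS := isColimitOfPreserves (EtCoh.HF X n)
    (colimit.isColimit (Discrete.functor fun x : S => (Discrete.functor f).obj x))
  refine isZero_pt_of_isColimit hS ?_
  rintro ⟨x⟩
  exact h _

end Coprod

end Groth.Agent.Lib.Helper4.EtClosedPush
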