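import Mathlib.Algebra.Homology.DerivedCategory.Ext.ExactSequences
import Mathlib.Algebra.Module.LocalizedModule.Basic
import Mathlib.CategoryTheory.Abelian.Basic
import Mathlib.Algebra.Homology.ShortComplex.ShortExact

/-!
# `Ext` and localization of the integers

Let `φ : F ⟶ G` be a morphism in an abelian category such that the `Ext(Z, -)` groups of the kernel
and the cokernel of `φ` consist of elements killed by elements of `S ≤ ℤ`, and such that the elements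
of `S` act invertibly on `G`. Then `Extⁱ(Z, F) → Extⁱ(Z, G)` is a localization at `S`.
-/

set_option autoImplicit false
universe w v u
open CategoryTheory CategoryTheory.Limits

namespace Groth.Agent.Lib.Helper4.ExtLoc

open Abelian

variable {𝒜 : Type u} [Category.{v} 𝒜] [Abelian 𝒜] {F G : 𝒜} (φ : F ⟶ G)

/-- `0 → ker φ → F → coim φ → 0` -/
noncomputable def S₁ : ShortComplex 𝒜 :=
  ShortComplex.mk (kernel.ι φ) (cokernel.π (kernel.ι φ)) (cokernel.condition _)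

lemma S₁_shortExact : (S₁ φ).ShortExact where
  exact := ShortComplex.exact_cokernel _
  mono_f := inferInstanceAs (Mono (kernel.ι φ))
  epi_g := inferInstanceAs (Epi (cokernel.π (kernel.ι φ)))

lemma factorThruCoimage_comp_π : Abelian.factorThruCoimage φ ≫ cokernel.π φ = 0 := by
  rw [← cancel_epi (Abelian.coimage.π φ), ← Category.assoc, Abelian.coimage.fac,
    cokernel.condition, comp_zero]

/-- `0 → coim φ → G → coker φ → 0` -/
noncomputable def S₂ : ShortComplex 𝒜 :=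
  ShortComplex.mk (Abelian.factorThruCoimage φ) (cokernel.π φ) (factorThruCoimage_comp_π φ)

lemma S₂_shortExact : (S₂ φ).ShortExact where
  exact := by
    let T : ShortComplex 𝒜 := ShortComplex.mk φ (cokernel.π φ) (cokernel.condition φ)
    let τ : T ⟶ S₂ φ :=
      { τ₁ := Abelian.coimage.π φ
        τ₂ := 𝟙 _
        τ₃ := 𝟙 _
        comm₁₂ := by
          change Abelian.coimage.π φ ≫ Abelian.factorThruCoimage φ = φ ≫ 𝟙 _
          rw [Abelian.coimage.fac, Category.comp_id]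
        comm₂₃ := (Category.id_comp _).trans (Category.comp_id _).symm }
    have : Epi τ.τ₁ := inferInstanceAs (Epi (Abelian.coimage.π φ))
    have : IsIso τ.τ₂ := inferInstanceAs (IsIso (𝟙 _))
    have : Mono τ.τ₃ := inferInstanceAs (Mono (𝟙 _))
    exact (ShortComplex.exact_iff_of_epi_of_isIso_of_mono τ).1 (ShortComplex.exact_cokernel φ)
  mono_f := inferInstanceAs (Mono (Abelian.factorThruCoimage φ))
  epi_g := inferInstanceAs (Epi (cokernel.π φ))

variable [HasExt.{w} 𝒜] (Z : 𝒜) (S : Submonoid ℤ)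

/-- torsion hypothesis: every element is killed by an element of `S` -/
def KilledByS (M : Type*) [AddCommGroup M] : Prop := ∀ x : M, ∃ c ∈ S, c • x = 0

variable {Z S φ}

lemma zsmul_comp {X Y W : 𝒜} {a b n : ℕ} (c : ℤ) (α : Ext.{w} X Y a) (β : Ext.{w} Y W n)
    (h : a + n = b) : (c • α).comp β h = c • α.comp β h :=
  map_zsmul (β.postcomp X h) c α

/-- elements of `Extⁱ(Z, coim φ)` dying in `Extⁱ(Z, G)` are `S`-torsion -/
lemma exists_zsmul_eq_zero_of_comp_eq_zero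
    (hC : ∀ n : ℕ, KilledByS S (Ext.{w} Z (cokernel φ) n)) (i : ℕ)
    (y : Ext.{w} Z (Abelian.coimage φ) i)
    (hy : y.comp (Ext.mk₀ (Abelian.factorThruCoimage φ)) (add_zero i) = 0) :
    ∃ c ∈ S, c • y = 0 := by
  cases i with
  | zero =>
    refine ⟨1, S.one_mem, ?_⟩
    rw [one_smul]
    have hinj := Ext.postcomp_mk₀_injective_of_mono Z (Abelian.factorThruCoimage φ)
    apply hinj
    rw [map_zero]
    exact hy
  | succ n =>
    obtain ⟨x₃, hx₃⟩ := Ext.covariant_sequence_exact₁ Z (S₂_shortExact φ) y hy rfl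
    obtain ⟨c, hc, hcx⟩ := hC n x₃
    refine ⟨c, hc, ?_⟩
    subst hx₃
    have e2 : (c • x₃).comp (S₂_shortExact φ).extClass (rfl : n + 1 = n + 1) = 0 :=
      (congrArg (fun t : Ext.{w} Z (S₂ φ).X₃ n =>
        t.comp (S₂_shortExact φ).extClass (rfl : n + 1 = n + 1)) hcx).trans
        (Ext.zero_comp _ _ _ _ _)
    exact (zsmul_comp c x₃ _ _).symm.trans e2

/-- injectivity up to `S`-torsion -/
theorem exists_zsmul_eq_zero_of_map_eq_zero
    (hK : ∀ n : ℕ, KilledByS S (Ext.{w} Z (kernel φ) n))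
    (hC : ∀ n : ℕ, KilledByS S (Ext.{w} Z (cokernel φ) n)) (i : ℕ)
    (x : Ext.{w} Z F i) (hx : x.comp (Ext.mk₀ φ) (add_zero i) = 0) : ∃ c ∈ S, c • x = 0 := by
  have hfac : Ext.mk₀ φ = (Ext.mk₀ (Abelian.coimage.π φ)).comp
      (Ext.mk₀ (Abelian.factorThruCoimage φ)) (add_zero 0) := by
    rw [Ext.mk₀_comp_mk₀, Abelian.coimage.fac]
  let y := x.comp (Ext.mk₀ (Abelian.coimage.π φ)) (add_zero i)
  have hy : y.comp (Ext.mk₀ (Abelian.factorThruCoimage φ)) (add_zero i) = 0 := by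
    rw [← hx, hfac]
    exact Ext.comp_assoc_of_third_deg_zero _ _ _ _
  obtain ⟨c, hc, hcy⟩ := exists_zsmul_eq_zero_of_comp_eq_zero hC i y hy
  have h1 : (c • x).comp (Ext.mk₀ (S₁ φ).g) (add_zero i) = 0 := by
    rw [zsmul_comp]
    exact hcy
  obtain ⟨z, hz⟩ := Ext.covariant_sequence_exact₂ Z (S₁_shortExact φ) (c • x) h1
  obtain ⟨c', hc', hcz⟩ := hK i z
  refine ⟨c' * c, S.mul_mem hc' hc, ?_⟩
  have e2 : (c' • z).comp (Ext.mk₀ (S₁ φ).f) (add_zero i) = 0 :=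
    (congrArg (fun t : Ext.{w} Z (S₁ φ).X₁ i => t.comp (Ext.mk₀ (S₁ φ).f) (add_zero i)) hcz).trans
      (Ext.zero_comp _ _ _ _ _)
  have e3 : c' • (c • x) = 0 :=
    (congrArg (fun t : Ext.{w} Z F i => c' • t) hz.symm).trans ((zsmul_comp c' z _ _).symm.trans e2)
  rw [mul_smul]
  exact e3

/-- surjectivity up to `S`-torsion -/
theorem exists_zsmul_eq_map
    (hK : ∀ n : ℕ, KilledByS S (Ext.{w} Z (kernel φ) n))
    (hC : ∀ n : ℕ, KilledByS S (Ext.{w} Z (cokernel φ) n)) (i : ℕ)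
    (y : Ext.{w} Z G i) : ∃ c ∈ S, ∃ x : Ext.{w} Z F i, c • y = x.comp (Ext.mk₀ φ) (add_zero i) := by
  have hfac : Ext.mk₀ φ = (Ext.mk₀ (Abelian.coimage.π φ)).comp
      (Ext.mk₀ (Abelian.factorThruCoimage φ)) (add_zero 0) := by
    rw [Ext.mk₀_comp_mk₀, Abelian.coimage.fac]
  obtain ⟨c₁, hc₁, h1⟩ := hC i (y.comp (Ext.mk₀ (cokernel.π φ)) (add_zero i))
  have h1' : (c₁ • y).comp (Ext.mk₀ (S₂ φ).g) (add_zero i) = 0 := by
    rw [zsmul_comp]
    exact h1
  obtain ⟨w, hw⟩ := Ext.covariant_sequence_exact₂ Z (S₂_shortExact φ) (c₁ • y) h1'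
  obtain ⟨c₂, hc₂, h2⟩ := hK (i + 1) (w.comp (S₁_shortExact φ).extClass rfl)
  have h2' : (c₂ • w).comp (S₁_shortExact φ).extClass (rfl : i + 1 = i + 1) = 0 := by
    rw [zsmul_comp]
    exact h2
  obtain ⟨x, hx⟩ := Ext.covariant_sequence_exact₃ Z (S₁_shortExact φ) (c₂ • w) rfl h2'
  refine ⟨c₂ * c₁, S.mul_mem hc₂ hc₁, x, ?_⟩
  rw [hfac, ← Ext.comp_assoc_of_third_deg_zero]
  change _ = (x.comp (Ext.mk₀ (S₁ φ).g) (add_zero i)).comp _ _
  rw [hx, mul_smul, ← hw]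
  exact (zsmul_comp c₂ w _ _).symm

lemma comp_zsmul {X Y W : 𝒜} {a b n : ℕ} (c : ℤ) (α : Ext.{w} X Y a) (β : Ext.{w} Y W n)
    (h : a + n = b) : α.comp (c • β) h = c • α.comp β h :=
  map_zsmul (α.precomp W h) c β

lemma mk₀_zsmul {X Y : 𝒜} (c : ℤ) (f : X ⟶ Y) : Ext.mk₀.{w} (c • f) = c • Ext.mk₀ f :=
  map_zsmul (Ext.addEquiv₀.{w} (X := X) (Y := Y)).symm.toAddMonoidHom c f

lemma comp_mk₀_zsmul_id {i : ℕ} (y : Ext.{w} Z G i) (c : ℤ) :
    y.comp (Ext.mk₀ (c • 𝟙 G)) (add_zero i) = c • y := by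
  rw [mk₀_zsmul, comp_zsmul, Ext.comp_mk₀_id]

/-- **Localization.** -/
theorem isLocalizedModule_postcomp
    (hK : ∀ n : ℕ, KilledByS S (Ext.{w} Z (kernel φ) n))
    (hC : ∀ n : ℕ, KilledByS S (Ext.{w} Z (cokernel φ) n))
    (hG : ∀ c ∈ S, IsIso (c • 𝟙 G : G ⟶ G)) (i : ℕ) :
    IsLocalizedModule S ((Ext.mk₀ φ).postcomp Z (add_zero i)).toIntLinearMap where
  map_units := by
    rintro ⟨c, hc⟩
    rw [Module.End.isUnit_iff]
    have hiso := hG c hc
    let e : G ⟶ G := inv (c • 𝟙 G)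
    have he1 : (c • 𝟙 G) ≫ e = 𝟙 G := IsIso.hom_inv_id _
    have he2 : e ≫ (c • 𝟙 G) = 𝟙 G := IsIso.inv_hom_id _
    have hact : ∀ y : Ext.{w} Z G i, (algebraMap ℤ (Module.End ℤ (Ext.{w} Z G i)) c) y = c • y :=
      fun y => rfl
    constructor
    · intro y y' hyy'
      rw [hact, hact, ← comp_mk₀_zsmul_id, ← comp_mk₀_zsmul_id] at hyy'
      have h := congrArg (fun t => t.comp (Ext.mk₀ e) (add_zero i)) hyy'
      simp only [Ext.comp_assoc_of_third_deg_zero, Ext.mk₀_comp_mk₀, he1, Ext.comp_mk₀_id] at h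
      exact h
    · intro y
      refine ⟨y.comp (Ext.mk₀ e) (add_zero i), ?_⟩
      rw [hact, ← comp_mk₀_zsmul_id, Ext.comp_assoc_of_third_deg_zero, Ext.mk₀_comp_mk₀, he2,
        Ext.comp_mk₀_id]
  surj y := by
    obtain ⟨c, hc, x, hx⟩ := exists_zsmul_eq_map hK hC i y
    exact ⟨(x, ⟨c, hc⟩), hx⟩
  exists_of_eq {x₁ x₂} h := by
    have h' : x₁.comp (Ext.mk₀ φ) (add_zero i) = x₂.comp (Ext.mk₀ φ) (add_zero i) := h
    have h0 : (x₁ - x₂).comp (Ext.mk₀ φ) (add_zero i) = 0 := by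
      rw [sub_eq_add_neg, Ext.add_comp, Ext.neg_comp, h', add_neg_cancel]
    obtain ⟨c, hc, hcx⟩ := exists_zsmul_eq_zero_of_map_eq_zero hK hC i (x₁ - x₂) h0
    refine ⟨⟨c, hc⟩, ?_⟩
    rw [smul_sub, sub_eq_zero] at hcx
    exact hcx

end Groth.Agent.Lib.Helper4.ExtLoc
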