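import Mathlib.CategoryTheory.Functor.OfSequence
import Mathlib.CategoryTheory.Preadditive.AdditiveFunctor
import Mathlib.CategoryTheory.Limits.ConcreteCategory.Basic
import Mathlib.CategoryTheory.Limits.Preserves.Basic
import Mathlib.Algebra.Category.Grp.FilteredColimits
import Mathlib.Algebra.Category.Grp.Preadditive
import Mathlib.CategoryTheory.Limits.Shapes.ZeroMorphisms
import Mathlib.CategoryTheory.Limits.Preserves.Filtered
import Mathlib.Algebra.Category.Grp.Zero
import Mathlib.Algebra.BigOperators.Intervals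
import Mathlib.Tactic.Ring

/-!
# The sequence `F →(a 0) F →(a 1) F →(a 2) ⋯` for a sequence of integers `a`

If the colimit of this sequence vanishes and `H` is an additive functor to abelian groups
commuting with sequential colimits, then every element of `H(F)` is killed by a finite product
`a 0 * a 1 * ⋯ * a (j-1)`.
-/

set_option autoImplicit false
universe w v u
open CategoryTheory CategoryTheory.Limits

namespace Groth.Agent.Lib.Helper4.LocSeq

variable {A : Type u} [Category.{v} A] [Preadditive A]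

/-- the sequence `F →(a 0) F →(a 1) F →(a 2) ⋯` -/
noncomputable def mulSeqZ (F : A) (a : ℕ → ℤ) : ℕ ⥤ A :=
  Functor.ofSequence (X := fun _ => F) (fun n => a n • 𝟙 F)

lemma mulSeqZ_map_add (F : A) (a : ℕ → ℤ) (m j : ℕ) :
    (mulSeqZ F a).map (homOfLE (Nat.le_add_right m j)) =
      (∏ i ∈ Finset.range j, a (m + i)) • 𝟙 F := by
  induction j with
  | zero =>
    have : homOfLE (Nat.le_add_right m 0) = 𝟙 m := Subsingleton.elim _ _
    rw [this, Finset.prod_range_zero]
    exact ((mulSeqZ F a).map_id m).trans (one_smul ℤ (𝟙 F)).symm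
  | succ j ih =>
    have : homOfLE (Nat.le_add_right m (j + 1)) =
        homOfLE (Nat.le_add_right m j) ≫ homOfLE (Nat.le_add_right (m + j) 1) :=
      Subsingleton.elim _ _
    rw [this, Functor.map_comp, ih]
    have h2 : (mulSeqZ F a).map (homOfLE (Nat.le_add_right (m + j) 1)) = a (m + j) • 𝟙 F :=
      Functor.ofSequence_map_homOfLE_succ _ _
    rw [h2, Finset.prod_range_succ]
    change ((∏ i ∈ Finset.range j, a (m + i)) • 𝟙 F) ≫ (a (m + j) • 𝟙 F) = _
    rw [Preadditive.zsmul_comp, Preadditive.comp_zsmul, Category.id_comp, smul_smul]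

lemma mulSeqZ_map (F : A) (a : ℕ → ℤ) {m m' : ℕ} (f : m ⟶ m') :
    (mulSeqZ F a).map f = (∏ i ∈ Finset.range (m' - m), a (m + i)) • 𝟙 F := by
  obtain ⟨j, rfl⟩ := Nat.exists_eq_add_of_le (leOfHom f)
  have : f = homOfLE (Nat.le_add_right m j) := Subsingleton.elim _ _
  rw [this, mulSeqZ_map_add, Nat.add_sub_cancel_left]

/-- **Criterion.** -/
theorem exists_prod_zsmul_eq_zero [HasColimitsOfShape ℕ A] (H : A ⥤ AddCommGrpCat.{w})
    [H.Additive] [PreservesColimitsOfShape ℕ H] (F : A) (a : ℕ → ℤ)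
    (hF : IsZero (colimit (mulSeqZ F a))) (x : H.obj F) :
    ∃ j : ℕ, (∏ i ∈ Finset.range j, a i) • x = 0 := by
  have hc : IsColimit (H.mapCocone (colimit.cocone (mulSeqZ F a))) :=
    isColimitOfPreserves H (colimit.isColimit _)
  have hz : IsZero (H.obj (colimit (mulSeqZ F a))) := H.map_isZero hF
  have hsub : Subsingleton (H.obj (colimit (mulSeqZ F a))) :=
    AddCommGrpCat.subsingleton_of_isZero hz
  have : PreservesFilteredColimitsOfSize.{0, 0} (forget AddCommGrpCat.{w}) :=
    preservesSmallestFilteredColimits_of_preservesFilteredColimits.{w, w} _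
  obtain ⟨k, f, g, hfg⟩ := Concrete.isColimit_exists_of_rep_eq (mulSeqZ F a ⋙ H) hc
    (i := 0) (j := 0) x (0 : H.obj F) (hsub.elim _ _)
  have hmap := mulSeqZ_map F a f
  refine ⟨k - 0, ?_⟩
  have h2 : (mulSeqZ F a ⋙ H).map g (0 : H.obj F) = 0 := map_zero _
  rw [h2] at hfg
  refine Eq.trans ?_ hfg
  set N : ℤ := ∏ i ∈ Finset.range (k - 0), a (0 + i) with hN
  have hN' : (∏ i ∈ Finset.range (k - 0), a i) = N := by
    rw [hN]
    exact Finset.prod_congr rfl (fun i _ => by rw [zero_add])
  rw [hN']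
  have e2 : H.map (N • 𝟙 F) = N • 𝟙 (H.obj F) := by rw [Functor.map_zsmul, H.map_id]
  have e1 : H.map ((mulSeqZ F a).map f) = N • 𝟙 (H.obj F) := (congrArg H.map hmap).trans e2
  have e3 := congrArg (fun φ => φ x) (congrArg AddCommGrpCat.Hom.hom e1)
  exact e3.symm

end Groth.Agent.Lib.Helper4.LocSeq
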