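import Mathlib
import Groth.Agent.Lib.Helper4.LocSeq

/-!
# Sheaves whose sections are locally killed by elements of a submonoid `S ≤ ℤ`

* `IsLocallyKilledBy S N`: every section of `N` is, locally, killed by an element of `S`;
* `exists_mem_zsmul_eq_zero`: if `H` is an additive functor to abelian groups commuting with
  sequential colimits, then every element of `H(N)` is killed by an element of `S`.
-/

set_option autoImplicit false
universe w v₁ u₁
open CategoryTheory CategoryTheory.Limits Opposite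

namespace Groth.Agent.Lib.Helper4.LocSite

open Groth.Agent.Lib.Helper4.LocSeq

/-- a sequence in `S` in which every element of `S` appears infinitely often -/
lemma exists_seq (S : Submonoid ℤ) :
    ∃ a : ℕ → ℤ, (∀ n, a n ∈ S) ∧ ∀ c ∈ S, ∀ m : ℕ, ∃ k, m ≤ k ∧ a k = c := by
  obtain ⟨f, hf⟩ := (Set.to_countable (S : Set ℤ)).exists_eq_range ⟨1, S.one_mem⟩
  refine ⟨fun n => f n.unpair.1, fun n => ?_, fun c hc m => ?_⟩
  · have : f n.unpair.1 ∈ (S : Set ℤ) := by
      rw [hf]
      exact ⟨_, rfl⟩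
    exact this
  · have hc' : c ∈ Set.range f := by
      rw [← hf]
      exact hc
    obtain ⟨i, rfl⟩ := hc'
    refine ⟨Nat.pair i m, Nat.right_le_pair i m, ?_⟩
    simp only [Nat.unpair_pair]

variable {C : Type u₁} [Category.{v₁} C] {J : GrothendieckTopology C}

/-- every section is locally killed by an element of `S` -/
def IsLocallyKilledBy (S : Submonoid ℤ) (N : Sheaf J AddCommGrpCat.{w}) : Prop :=
  ∀ (U : C) (s : N.obj.obj (op U)), ∃ T ∈ J U, ∀ ⦃V : C⦄ (g : V ⟶ U), T g →
    ∃ c ∈ S, c • N.obj.map g.op s = 0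

/-- evaluation of endomorphisms at a section, as an additive map -/
noncomputable def evalHom (F : Sheaf J AddCommGrpCat.{w}) (V : Cᵒᵖ) (s : F.obj.obj V) :
    (F ⟶ F) →+ F.obj.obj V where
  toFun φ := φ.hom.app V s
  map_zero' := rfl
  map_add' φ ψ := by
    rw [Sheaf.Hom.add_app]
    rfl

lemma zsmul_app (F : Sheaf J AddCommGrpCat.{w}) (N : ℤ) (V : Cᵒᵖ) (s : F.obj.obj V) :
    (N • 𝟙 F : F ⟶ F).hom.app V s = N • s := by
  have h := map_zsmul (evalHom F V s) N (𝟙 F)
  exact h

variable [HasColimitsOfShape ℕ (Sheaf J AddCommGrpCat.{w})]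

theorem ι_eq_zero (S : Submonoid ℤ) (F : Sheaf J AddCommGrpCat.{w}) (hF : IsLocallyKilledBy S F)
    (a : ℕ → ℤ) (ha : ∀ c ∈ S, ∀ m : ℕ, ∃ k, m ≤ k ∧ a k = c) (m : ℕ) :
    colimit.ι (mulSeqZ F a) m = 0 := by
  apply Sheaf.hom_ext
  ext U s
  set Cl := colimit (mulSeqZ F a) with hC
  set t := (colimit.ι (mulSeqZ F a) m).hom.app U s with ht
  change t = 0
  let R : Sieve U.unop :=
    { arrows := fun Y g => Cl.obj.map g.op t = 0
      downward_closed := fun {Y Z g} hg h => by
        rw [op_comp, Functor.map_comp]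
        change Cl.obj.map h.op (Cl.obj.map g.op t) = 0
        rw [hg, map_zero] }
  have hR : R ∈ J U.unop := by
    obtain ⟨T, hT, hkT⟩ := hF U.unop s
    refine J.superset_covering ?_ hT
    intro V g hg
    obtain ⟨c, hc, hcs⟩ := hkT g hg
    obtain ⟨k, hmk, hak⟩ := ha c hc m
    obtain ⟨j, rfl⟩ := Nat.exists_eq_add_of_le hmk
    have hmap := mulSeqZ_map_add F a m (j + 1)
    have nat := congrArg (fun φ => φ s) (congrArg AddCommGrpCat.Hom.hom
      ((colimit.ι (mulSeqZ F a) m).hom.naturality g.op))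
    change Cl.obj.map g.op t = 0
    refine nat.symm.trans ?_
    have hw : colimit.ι (mulSeqZ F a) m =
        (mulSeqZ F a).map (homOfLE (Nat.le_add_right m (j + 1))) ≫
          colimit.ι (mulSeqZ F a) (m + (j + 1)) :=
      (colimit.w (mulSeqZ F a) _).symm
    rw [hw, hmap]
    change (colimit.ι (mulSeqZ F a) (m + (j + 1))).hom.app (op V)
      (((∏ i ∈ Finset.range (j + 1), a (m + i)) • 𝟙 F : F ⟶ F).hom.app (op V)
        (F.obj.map g.op s)) = 0
    rw [zsmul_app, Finset.prod_range_succ, hak, mul_smul, hcs, smul_zero]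
    exact map_zero ((colimit.ι (mulSeqZ F a) (m + (j + 1))).hom.app (op V)).hom
  refine Sheaf.isSeparated Cl U.unop R hR t 0 (fun Y g hg => ?_)
  rw [map_zero]
  exact hg

theorem isZero_colimit (S : Submonoid ℤ) (F : Sheaf J AddCommGrpCat.{w})
    (hF : IsLocallyKilledBy S F) (a : ℕ → ℤ) (ha : ∀ c ∈ S, ∀ m : ℕ, ∃ k, m ≤ k ∧ a k = c) :
    IsZero (colimit (mulSeqZ F a)) := by
  rw [IsZero.iff_id_eq_zero]
  apply colimit.hom_ext
  intro m
  rw [ι_eq_zero S F hF a ha m, zero_comp, zero_comp]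

/-- every element of `H(F)` is killed by an element of `S` -/
theorem exists_mem_zsmul_eq_zero (S : Submonoid ℤ) (F : Sheaf J AddCommGrpCat.{w})
    (hF : IsLocallyKilledBy S F) (H : Sheaf J AddCommGrpCat.{w} ⥤ AddCommGrpCat.{w})
    [H.Additive] [PreservesColimitsOfShape ℕ H] (x : H.obj F) : ∃ c ∈ S, c • x = 0 := by
  obtain ⟨a, haS, ha⟩ := exists_seq S
  obtain ⟨j, hj⟩ := exists_prod_zsmul_eq_zero H F a (isZero_colimit S F hF a ha) x
  exact ⟨_, S.prod_mem (fun i _ => haS i), hj⟩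

end Groth.Agent.Lib.Helper4.LocSite
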