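import Mathlib
import Groth.Prelude.Def_EtBase
import Groth.Agent.S0099
import Groth.Agent.Lib.Helper43.EtOpenSub
import Groth.Agent.Lib.Helper4.LocSite
import Groth.Agent.Lib.Helper4.EtClosedPush
import Groth.Agent.Lib.Helper4.ExtLoc

/-!
# Étale cohomology and localization of the integers

Let `φ : F ⟶ G` be a morphism of abelian étale sheaves on a qcqs scheme `X` which on affine
étale `X`-schemes is a localization at `S ≤ ℤ`. Then `Hⁱ(X, F) → Hⁱ(X, G)` is a localization at `S`.
-/

set_option autoImplicit false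
universe u
open CategoryTheory CategoryTheory.Limits AlgebraicGeometry Opposite

namespace Groth.Agent.Lib.Helper4.EtLoc

open Groth.Agent.Lib.Helper43 Groth.Agent.Lib.Helper4.LocSite

variable {X : Scheme.{u}}

/-- every point of an étale `X`-scheme has an affine open neighbourhood, as an étale `X`-scheme -/
lemma exists_affine_nbhd (V : X.Etale) (x : V.left) :
    ∃ (W : X.Etale) (g : W ⟶ V) (y : W.left), IsAffine W.left ∧ g.left y = x := by
  obtain ⟨_, ⟨O₀, hO, rfl⟩, hxO, -⟩ := V.left.isBasis_affineOpens.exists_subset_of_mem_open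
    (Set.mem_univ x) isOpen_univ
  let O : V.left.Opens := O₀
  have hO' : IsAffineOpen O := hO
  let W : X.Etale := Scheme.Etale.mk (O.ι ≫ V.hom)
  let g : W ⟶ V := MorphismProperty.Over.homMk O.ι rfl
  exact ⟨W, g, ⟨x, hxO⟩, hO', rfl⟩

/-- a sieve containing all morphisms from affine schemes is covering -/
lemma mem_of_affine (V : X.Etale) (R : Sieve V)
    (h : ∀ (W : X.Etale) (g : W ⟶ V), IsAffine W.left → R g) : R ∈ X.smallEtaleTopology V := by
  rw [EtOpenSub.mem_smallEtaleTopology_iff']
  intro x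
  obtain ⟨W, g, y, hW, hy⟩ := exists_affine_nbhd V x
  exact ⟨W, g, y, h W g hW, hy⟩

variable (S : Submonoid ℤ) {F G : EtCoh.Ab X} (φ : F ⟶ G)

/-- `φ` is a localization at `S` on affine étale `X`-schemes -/
def IsLocOnAffines : Prop :=
  ∀ U : X.Etale, IsAffine U.left → IsLocalizedModule S (φ.hom.app (op U)).hom.toIntLinearMap

variable {S φ}

/-- sections functor -/
noncomputable abbrev sec (V : X.Etale) : EtCoh.Ab X ⥤ AddCommGrpCat.{u + 1} :=
  sheafToPresheaf _ _ ⋙ (evaluation _ _).obj (op V)

lemma kernel_ι_app_injective (V : X.Etale) :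
    Function.Injective ((kernel.ι φ).hom.app (op V)) := by
  have : Mono ((sec V).map (kernel.ι φ)) := inferInstance
  exact (AddCommGrpCat.mono_iff_injective _).1 this

theorem isLocallyKilledBy_kernel (hφ : IsLocOnAffines S φ) :
    IsLocallyKilledBy S (kernel φ) := by
  intro U s
  let T : Sieve U :=
    { arrows := fun V g => ∃ c ∈ S, c • (kernel φ).obj.map g.op s = 0
      downward_closed := fun {Y Z g} ⟨c, hc, hg⟩ k => ⟨c, hc, by
        rw [op_comp, Functor.map_comp]
        change c • (kernel φ).obj.map k.op ((kernel φ).obj.map g.op s) = 0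
        rw [← map_zsmul, hg, map_zero]⟩ }
  refine ⟨T, mem_of_affine U T (fun W g hW => ?_), fun V g hg => hg⟩
  have hloc := hφ W hW
  let s' := (kernel φ).obj.map g.op s
  have h0 : (φ.hom.app (op W)) ((kernel.ι φ).hom.app (op W) s') = 0 := by
    have := congrArg (fun ψ => ψ.hom.app (op W) s') (kernel.condition φ)
    exact this
  have h1 : (φ.hom.app (op W)).hom.toIntLinearMap ((kernel.ι φ).hom.app (op W) s') =
      (φ.hom.app (op W)).hom.toIntLinearMap 0 := h0.trans (map_zero _).symm
  obtain ⟨c, hc⟩ := hloc.exists_of_eq h1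
  refine ⟨c.1, c.2, ?_⟩
  apply kernel_ι_app_injective W
  rw [map_zsmul, map_zero]
  have : c • ((kernel.ι φ).hom.app (op W) s') = c • (0 : F.obj.obj (op W)) := hc
  rw [smul_zero] at this
  exact this

theorem isLocallyKilledBy_cokernel (hφ : IsLocOnAffines S φ) :
    IsLocallyKilledBy S (cokernel φ) := by
  intro U s
  have hπ : Sheaf.IsLocallySurjective (cokernel.π φ) :=
    (Sheaf.isLocallySurjective_iff_epi' (φ := cokernel.π φ)).2 inferInstance
  let T : Sieve U :=
    { arrows := fun V g => ∃ c ∈ S, c • (cokernel φ).obj.map g.op s = 0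
      downward_closed := fun {Y Z g} ⟨c, hc, hg⟩ k => ⟨c, hc, by
        rw [op_comp, Functor.map_comp]
        change c • (cokernel φ).obj.map k.op ((cokernel φ).obj.map g.op s) = 0
        rw [← map_zsmul, hg, map_zero]⟩ }
  refine ⟨T, ?_, fun V g hg => hg⟩
  refine X.smallEtaleTopology.transitive
    (Presheaf.imageSieve_mem X.smallEtaleTopology (cokernel.π φ).hom s) T ?_
  rintro V g ⟨t, ht⟩
  refine mem_of_affine V _ (fun W k hW => ?_)
  have hloc := hφ W hW
  obtain ⟨⟨f, c⟩, hfc⟩ := hloc.surj (G.obj.map k.op t)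
  refine ⟨c.1, c.2, ?_⟩
  have hfc' : c.1 • G.obj.map k.op t = φ.hom.app (op W) f := hfc
  have h1 : (cokernel φ).obj.map (k ≫ g).op s =
      (cokernel.π φ).hom.app (op W) (G.obj.map k.op t) := by
    rw [op_comp, Functor.map_comp]
    change (cokernel φ).obj.map k.op ((cokernel φ).obj.map g.op s) = _
    rw [← ht]
    exact (congrArg (fun ψ => ψ.hom t) ((cokernel.π φ).hom.naturality k.op)).symm
  rw [h1, ← map_zsmul, hfc']
  have := congrArg (fun ψ => ψ.hom.app (op W) f) (cokernel.condition φ)
  exact this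

lemma bijective_zsmul_of_affine (hφ : IsLocOnAffines S φ) (c : ℤ) (hc : c ∈ S) (W : X.Etale)
    (hW : IsAffine W.left) : Function.Bijective (fun t : G.obj.obj (op W) => c • t) := by
  have h := (hφ W hW).map_units ⟨c, hc⟩
  have h2 := (Module.End.isUnit_iff _).1 h
  exact h2

theorem isIso_zsmul (hφ : IsLocOnAffines S φ) (c : ℤ) (hc : c ∈ S) :
    IsIso (c • 𝟙 G : G ⟶ G) := by
  have hinj : Sheaf.IsLocallyInjective (c • 𝟙 G : G ⟶ G) := by
    constructor
    intro U x y hxy
    refine mem_of_affine U.unop _ (fun W g hW => ?_)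
    apply (bijective_zsmul_of_affine hφ c hc W hW).1
    change c • G.obj.map g.op x = c • G.obj.map g.op y
    rw [← map_zsmul, ← map_zsmul]
    have h1 : c • x = c • y := by
      rw [← zsmul_app G c U x, ← zsmul_app G c U y]
      exact hxy
    rw [h1]
  have hsurj : Sheaf.IsLocallySurjective (c • 𝟙 G : G ⟶ G) := by
    constructor
    intro U s
    refine mem_of_affine U _ (fun W g hW => ?_)
    obtain ⟨t, ht⟩ := (bijective_zsmul_of_affine hφ c hc W hW).2 (G.obj.map g.op s)
    exact ⟨t, (zsmul_app G c (op W) t).trans ht⟩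
  have : Mono (c • 𝟙 G : G ⟶ G) := Sheaf.mono_of_isLocallyInjective _
  have : Epi (c • 𝟙 G : G ⟶ G) := Sheaf.epi_of_isLocallySurjective _
  exact isIso_of_mono_of_epi _

section Main

open Groth.Agent.Lib.Helper4.ExtLoc

lemma preservesColimitsOfShape_nat_HF [CompactSpace X] [QuasiSeparatedSpace X] (n : ℕ) :
    PreservesColimitsOfShape ℕ (EtCoh.HF X n) := by
  have h1 : PreservesColimitsOfShape (AsSmall.{u} ℕ) (EtCoh.HF X n) :=
    Groth.Agent.S0099.result X n (AsSmall.{u} ℕ)
  exact preservesColimitsOfShape_of_equiv AsSmall.equiv.symm _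

theorem killedByS_H [CompactSpace X] [QuasiSeparatedSpace X] (N : EtCoh.Ab X)
    (hN : IsLocallyKilledBy S N) (n : ℕ) : KilledByS S (EtCoh.H X N n) := by
  intro x
  have := preservesColimitsOfShape_nat_HF (X := X) n
  exact exists_mem_zsmul_eq_zero S N hN (EtCoh.HF X n) x

/-- **`Hⁱ(X, -)` commutes with localization of `ℤ`** on a qcqs scheme -/
theorem isLocalizedModule_HF_map [CompactSpace X] [QuasiSeparatedSpace X]
    (hφ : IsLocOnAffines S φ) (i : ℕ) :
    IsLocalizedModule S ((EtCoh.HF X i).map φ).hom.toIntLinearMap :=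
  isLocalizedModule_postcomp (Z := (constantSheaf X.smallEtaleTopology AddCommGrpCat.{u + 1}).obj
      (AddCommGrpCat.of (ULift.{u + 1} ℤ)))
    (fun n => killedByS_H _ (isLocallyKilledBy_kernel hφ) n)
    (fun n => killedByS_H _ (isLocallyKilledBy_cokernel hφ) n)
    (fun c hc => isIso_zsmul hφ c hc) i

end Main

end Groth.Agent.Lib.Helper4.EtLoc
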