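import Groth.Prelude.Def_EtCore

/-!
# Pointwise formulas for `EtCore.Hpull` and `EtCore.HpullVia`

Both are `rfl`, but the kernel needs a long time for them (concrete sheaf categories), so they are
isolated in this file.
-/

set_option autoImplicit false
open CategoryTheory CategoryTheory.Limits AlgebraicGeometry Opposite Abelian
universe u

namespace Groth.Agent.Lib.Helper4.EtMVBridge

theorem hr {W X : Scheme.{u}} (j : W ⟶ X) [PreservesFiniteLimits (EtCoh.pull j)] (F : EtCoh.Ab X)
    (n : ℕ) (e : EtCoh.H X F n) :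
    EtCore.Hpull j F n e =
      (Ext.mk₀ (EtCore.pullConst j ℤ).inv).comp (e.mapExactFunctor (EtCoh.pull j)) (zero_add n) :=
  rfl

theorem hs {A B C : Scheme.{u}} (f : A ⟶ B) (t : B ⟶ C) (f₀ : A ⟶ C) (w : f ≫ t = f₀)
    [PreservesFiniteLimits (EtCoh.pull f)]
    (F : EtCoh.Ab C) (n : ℕ) (e : EtCoh.H B ((EtCoh.pull t).obj F) n) :
    EtCore.HpullVia f t f₀ w F n e =
      ((Ext.mk₀ (EtCore.pullConst f ℤ).inv).comp (e.mapExactFunctor (EtCoh.pull f))
        (zero_add n)).comp
        (Ext.mk₀ (((EtCore.pullComp f t).symm ≪≫ EtCore.pullCongr w).hom.app F)) (add_zero n) :=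
  rfl

end Groth.Agent.Lib.Helper4.EtMVBridge
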