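import Groth.Agent.Lib.Helper4.EtMVSquare
import Groth.Agent.Lib.Helper4.AdjConst
import Mathlib.CategoryTheory.Adjunction.Additive
import Mathlib.Algebra.Category.Grp.ForgetCorepresentable

/-!
# Degree-zero data for the étale Mayer–Vietoris sequence

* `γ W G : (ℤ_W ⟶ G) ≃+ G(W)`; `γ_pull`: the formula for `H⁰` of `Hpull`;
* `secIso j F : (j⁻¹F)(W) ≃+ F(W → X)` for étale `j`, `secIso_unit`;
* `ξ j F : (ℤ_W ⟶ j⁻¹F) ≃+ (ℤ[h_W] ⟶ Φ F)` (small model), natural in `F`, and `ξ_pullConst`;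
* `pullConst_comp` : compatibility of `pullConst` with composition.
-/

set_option autoImplicit false
open CategoryTheory CategoryTheory.Limits AlgebraicGeometry Opposite
universe u

namespace Groth.Agent.Lib.Helper4.EtMVData

open Groth.Agent.Lib.Helper4.EtaleSmallSite Groth.Agent.Lib.Helper4.EtaleTransfer
open Groth.Agent.Lib.Helper5 Groth.Agent.Lib.Helper4.EtMVSquare Groth.Agent.Lib.Helper4.AdjConst

/-- morphisms out of the constant sheaf `ℤ` are global sections -/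
noncomputable def γ (W : Scheme.{u}) (G : EtCoh.Ab W) :
    (EtCoh.const W ℤ ⟶ G) ≃+ G.obj.obj (op (EtCoh.top W)) :=
  ((EtCore.constAdj W).homAddEquiv _ G).trans (AddCommGrpCat.uliftZMultiplesAddEquiv _)

lemma γ_apply (W : Scheme.{u}) (G : EtCoh.Ab W) (t : EtCoh.const W ℤ ⟶ G) :
    γ W G t = ((EtCore.constAdj W).homEquiv _ G t) (ULift.up 1) := by
  rfl

lemma γ_naturality (W : Scheme.{u}) {G G' : EtCoh.Ab W} (g : G ⟶ G') (t : EtCoh.const W ℤ ⟶ G) :
    γ W G' (t ≫ g) = g.hom.app (op (EtCoh.top W)) (γ W G t) := by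
  rw [γ_apply, γ_apply, Adjunction.homEquiv_naturality_right]
  rfl

lemma γ_pull {W X : Scheme.{u}} (j : W ⟶ X) (F : EtCoh.Ab X) (f : EtCoh.const X ℤ ⟶ F) :
    γ W ((EtCoh.pull j).obj F) ((EtCore.pullConst j ℤ).inv ≫ (EtCoh.pull j).map f) =
      ((EtCoh.pull j).obj F).obj.map (EtCore.bcTopIso j).inv.op
        (((EtCoh.pullPushAdj j).unit.app F).hom.app (op (EtCoh.top X)) (γ X F f)) := by
  rw [γ_apply, γ_apply]
  have := homEquiv_cIso_inv_comp_map (EtCore.constAdj X) (EtCore.constAdj W) (EtCoh.pullPushAdj j)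
    (EtCore.pushGsecIso j) (AddCommGrpCat.of (ULift.{u + 1} ℤ)) F f
  have h2 := congrArg (fun φ => φ (ULift.up 1)) (congrArg AddCommGrpCat.Hom.hom this)
  exact h2

section Etale

variable {W X : Scheme.{u}} (j : W ⟶ X) [Etale j]

attribute [local instance] EtRestr.jCont

/-- sections of `j⁻¹F` over `W` are sections of `F` over `W ⟶ X` -/
noncomputable def secIso (F : EtCoh.Ab X) :
    ((EtCoh.pull j).obj F).obj.obj (op (EtCoh.top W)) ≃+ F.obj.obj (op (oOf j)) :=
  (((sheafSections _ _).obj (op (EtCoh.top W))).mapIso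
    ((EtRestr.pullIsoRestr j).app F)).addCommGroupIsoToAddEquiv

lemma secIso_apply (F : EtCoh.Ab X) (x : ((EtCoh.pull j).obj F).obj.obj (op (EtCoh.top W))) :
    secIso j F x = ((EtRestr.pullIsoRestr j).hom.app F).hom.app (op (EtCoh.top W)) x := rfl

lemma adjR_unit_app (F : EtCoh.Ab X) (A : X.Etale) (s : F.obj.obj (op A)) :
    ((EtRestr.adjR j).unit.app F).hom.app (op A) s =
      F.obj.map ((EtRestr.adjJ j).counit.app A).op s := by
  rfl

/-- (D2): the degree zero pullback map is restriction of sections -/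
lemma secIso_unit (F : EtCoh.Ab X) (s : F.obj.obj (op (EtCoh.top X))) :
    secIso j F (((EtCoh.pull j).obj F).obj.map (EtCore.bcTopIso j).inv.op
      (((EtCoh.pullPushAdj j).unit.app F).hom.app (op (EtCoh.top X)) s)) =
      F.obj.map (toTop j).op s := by
  rw [secIso_apply]
  have nat := congrArg (fun φ => φ (((EtCoh.pullPushAdj j).unit.app F).hom.app (op (EtCoh.top X)) s))
    (congrArg AddCommGrpCat.Hom.hom
      (((EtRestr.pullIsoRestr j).hom.app F).hom.naturality (EtCore.bcTopIso j).inv.op))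
  have hu := Adjunction.unit_leftAdjointUniq_hom_app (EtCoh.pullPushAdj j) (EtRestr.adjR j) F
  have hu' := congrArg (fun φ => φ s) (congrArg AddCommGrpCat.Hom.hom
    (congrArg (fun (τ : F ⟶ _) => τ.hom.app (op (EtCoh.top X))) hu))
  refine nat.trans ?_
  have e : ((EtShriek.compEtale j).map (EtCore.bcTopIso j).inv ≫
      (EtRestr.adjJ j).counit.app (EtCoh.top X)) = toTop j :=
    (EtCore.topIsTerminal X).hom_ext _ _
  rw [← e, op_comp, F.obj.map_comp]
  exact congrArg (fun t => ((EtShriek.restrAlong j).obj F).obj.map (EtCore.bcTopIso j).inv.op t)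
    (hu'.trans (adjR_unit_app j F _ s))

/-- the degree zero identification for `j : W ⟶ X` étale -/
noncomputable def ξ (F : EtCoh.Ab X) :
    (EtCoh.const W ℤ ⟶ (EtCoh.pull j).obj F) ≃+
      (SiteCoh.freeSheaf (J' X) (oOf' j) ⟶ (Φ X).functor.obj F) :=
  (γ W ((EtCoh.pull j).obj F)).trans
    ((secIso j F).trans (SiteCoh.βAdd (oOf' j) ((Φ X).functor.obj F)).symm)

lemma secIso_naturality {F F' : EtCoh.Ab X} (f : F ⟶ F')
    (x : ((EtCoh.pull j).obj F).obj.obj (op (EtCoh.top W))) :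
    secIso j F' (((EtCoh.pull j).map f).hom.app (op (EtCoh.top W)) x) =
      f.hom.app (op (oOf j)) (secIso j F x) := by
  rw [secIso_apply, secIso_apply]
  have := congrArg (fun (τ : (EtCoh.pull j).obj F ⟶ _) => τ.hom.app (op (EtCoh.top W)) x)
    ((EtRestr.pullIsoRestr j).hom.naturality f)
  exact this

lemma ξ_nat {F F' : EtCoh.Ab X} (f : F ⟶ F') (t : EtCoh.const W ℤ ⟶ (EtCoh.pull j).obj F) :
    ξ j F' (t ≫ (EtCoh.pull j).map f) = ξ j F t ≫ (Φ X).functor.map f := by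
  change (SiteCoh.βAdd (oOf' j) ((Φ X).functor.obj F')).symm
      (secIso j F' (γ W _ (t ≫ (EtCoh.pull j).map f))) =
    (SiteCoh.βAdd (oOf' j) ((Φ X).functor.obj F)).symm (secIso j F (γ W _ t)) ≫ _
  rw [γ_naturality, secIso_naturality, ← SiteCoh.βAdd_symm_naturality]
  rfl

/-- the degree zero identification for `X` itself -/
noncomputable def ξ₀ (X : Scheme.{u}) (F : EtCoh.Ab X) :
    (EtCoh.const X ℤ ⟶ F) ≃+ (SiteCoh.freeSheaf (J' X) (top' X) ⟶ (Φ X).functor.obj F) :=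
  (γ X F).trans (SiteCoh.βAdd (top' X) ((Φ X).functor.obj F)).symm

lemma ξ₀_nat {F F' : EtCoh.Ab X} (f : F ⟶ F') (t : EtCoh.const X ℤ ⟶ F) :
    ξ₀ X F' (t ≫ f) = ξ₀ X F t ≫ (Φ X).functor.map f := by
  change (SiteCoh.βAdd (top' X) ((Φ X).functor.obj F')).symm (γ X _ (t ≫ f)) =
    (SiteCoh.βAdd (top' X) ((Φ X).functor.obj F)).symm (γ X _ t) ≫ _
  rw [γ_naturality, ← SiteCoh.βAdd_symm_naturality]
  rfl

/-- the key degree zero compatibility -/
lemma ξ_pullConst (F : EtCoh.Ab X) (f : EtCoh.const X ℤ ⟶ F) :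
    ξ j F ((EtCore.pullConst j ℤ).inv ≫ (EtCoh.pull j).map f) =
      SiteCoh.freeMap (J' X) (up (toTop j)) ≫ ξ₀ X F f := by
  change (SiteCoh.βAdd (oOf' j) ((Φ X).functor.obj F)).symm
      (secIso j F (γ W _ ((EtCore.pullConst j ℤ).inv ≫ (EtCoh.pull j).map f))) =
    _ ≫ (SiteCoh.βAdd (top' X) ((Φ X).functor.obj F)).symm (γ X _ f)
  rw [γ_pull, secIso_unit, ← SiteCoh.βAdd_symm_map]
  rfl

end Etale

/-! ### compatibility of `pullConst` with composition -/

set_option backward.isDefEq.respectTransparency.types false in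
lemma pushComp_hom_app {A B C : Scheme.{u}} (f : A ⟶ B) (g : B ⟶ C) (G : EtCoh.Ab A) :
    ∃ φ : (EtCoh.bc (f ≫ g)).obj (EtCoh.top C) ⟶ (EtCoh.bc f).obj ((EtCoh.bc g).obj (EtCoh.top C)),
    (EtCore.gsec C).map ((EtCoh.pushComp g f).hom.app G) = G.obj.map φ.op := by
  refine ⟨((MorphismProperty.Over.pullbackComp (P := EtCoh.etaleMP) (Q := ⊤) f g).symm.inv.app
        (EtCoh.top C)), ?_⟩
  rfl

lemma pushGsec_compat {A B C : Scheme.{u}} (f : A ⟶ B) (g : B ⟶ C) (G : EtCoh.Ab A) :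
    (EtCore.gsec C).map ((EtCoh.pushComp g f).hom.app G) ≫
        (EtCore.pushGsecIso (f ≫ g)).hom.app G =
      (EtCore.pushGsecIso g).hom.app ((EtCoh.push f).obj G) ≫
        (EtCore.pushGsecIso f).hom.app G := by
  have hterm : IsTerminal ((EtCoh.bc f).obj ((EtCoh.bc g).obj (EtCoh.top C))) :=
    IsTerminal.isTerminalObj (EtCoh.bc f) _ (EtCore.bcTopIsTerminal g)
  obtain ⟨φ, e1⟩ := pushComp_hom_app f g G
  have e2 : (EtCore.pushGsecIso (f ≫ g)).hom.app G = G.obj.map (EtCore.bcTopIso (f ≫ g)).inv.op := rfl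
  have e3 : (EtCore.pushGsecIso g).hom.app ((EtCoh.push f).obj G) =
      G.obj.map ((EtCoh.bc f).map (EtCore.bcTopIso g).inv).op := rfl
  have e4 : (EtCore.pushGsecIso f).hom.app G = G.obj.map (EtCore.bcTopIso f).inv.op := rfl
  have key : φ.op ≫ (EtCore.bcTopIso (f ≫ g)).inv.op =
      ((EtCoh.bc f).map (EtCore.bcTopIso g).inv).op ≫ (EtCore.bcTopIso f).inv.op := by
    rw [← op_comp, ← op_comp]
    congr 1
    exact hterm.hom_ext _ _
  refine (congrArg₂ (· ≫ ·) e1 e2).trans ?_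
  refine Eq.trans ?_ (congrArg₂ (· ≫ ·) e3 e4).symm
  exact (G.obj.map_comp _ _).symm.trans ((congrArg G.obj.map key).trans (G.obj.map_comp _ _))

/-- compatibility of the canonical isomorphisms `f⁻¹ ℤ ≅ ℤ` with composition -/
lemma pullConst_comp {A B C : Scheme.{u}} (f : A ⟶ B) (g : B ⟶ C) (h : A ⟶ C) (w : f ≫ g = h) :
    (EtCore.pullConst h ℤ).inv =
      (EtCore.pullConst f ℤ).inv ≫ (EtCoh.pull f).map (EtCore.pullConst g ℤ).inv ≫
        ((EtCore.pullComp f g).symm ≪≫ EtCore.pullCongr w).hom.app (EtCoh.const C ℤ) := by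
  subst w
  have := cIso_inv_comp (EtCore.constAdj C) (EtCore.constAdj B) (EtCore.constAdj A)
    (EtCoh.pullPushAdj g) (EtCoh.pullPushAdj f) (EtCoh.pullPushAdj (f ≫ g))
    (EtCore.pushGsecIso g) (EtCore.pushGsecIso f) (EtCore.pushGsecIso (f ≫ g))
    (EtCoh.pushComp g f) (pushGsec_compat f g) (AddCommGrpCat.of (ULift.{u + 1} ℤ))
  have e : ((EtCore.pullComp f g).symm ≪≫ EtCore.pullCongr (rfl : f ≫ g = f ≫ g)).hom.app
      (EtCoh.const C ℤ) = (EtCore.pullComp f g).inv.app (EtCoh.const C ℤ) := by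
    simp [EtCore.pullCongr]
  rw [e]
  exact this

end Groth.Agent.Lib.Helper4.EtMVData
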