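import Groth.Agent.Lib.Helper4.EtaleTransfer
import Groth.Agent.Lib.Helper4.EtRestr
import Groth.Agent.Lib.Helper5.SiteCoh
import Mathlib.CategoryTheory.Sites.MayerVietorisSquare
import Groth.Agent.Lib.Helper4.DeltaMVAbs

/-!
# The Mayer–Vietoris square of the small étale site attached to an open covering `X = U ∪ V`
and the resulting short exact sequence of free abelian sheaves on the small model `C' X`.
-/

set_option autoImplicit false
open CategoryTheory CategoryTheory.Limits AlgebraicGeometry Opposite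
universe u

namespace Groth.Agent.Lib.Helper4.EtMVSquare

open Groth.Agent.Lib.Helper4.EtaleSmallSite Groth.Agent.Lib.Helper4.EtaleTransfer
open Groth.Agent.Lib.Helper5

/-- the object of the small étale site of `X` defined by an étale morphism `j : W ⟶ X` -/
noncomputable abbrev oOf {W X : Scheme.{u}} (j : W ⟶ X) [Etale j] : X.Etale :=
  (EtShriek.compEtale j).obj (EtCoh.top W)

/-- the small model -/
noncomputable abbrev oOf' {W X : Scheme.{u}} (j : W ⟶ X) [Etale j] : C' X :=
  ULiftHom.objUp (oOf j)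

/-- the structure map to the terminal object -/
noncomputable def toTop {W X : Scheme.{u}} (j : W ⟶ X) [Etale j] : oOf j ⟶ EtCoh.top X :=
  (EtCore.topIsTerminal X).from _

/-- the map induced by a factorization -/
noncomputable def oMap {A B X : Scheme.{u}} (f : A ⟶ B) (g : B ⟶ X) (h : A ⟶ X) [Etale g] [Etale h]
    (w : f ≫ g = h) : oOf h ⟶ oOf g :=
  MorphismProperty.Over.homMk f (by
    change f ≫ 𝟙 B ≫ g = 𝟙 A ≫ h
    rw [Category.id_comp, Category.id_comp, w]) trivial


variable {X : Scheme.{u}} (U V : X.Opens)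

lemma toTop_left {W : Scheme.{u}} (j : W ⟶ X) [Etale j] : (toTop j).left = j := by
  have := Over.w (toTop j).hom
  change (toTop j).left ≫ 𝟙 X = 𝟙 W ≫ j at this
  exact (Category.comp_id _).symm.trans (this.trans (Category.id_comp j))

lemma isPullback_etale :
    IsPullback (oMap (X.homOfLE inf_le_left) U.ι (U ⊓ V).ι (X.homOfLE_ι _))
      (oMap (X.homOfLE inf_le_right) V.ι (U ⊓ V).ι (X.homOfLE_ι _)) (toTop U.ι) (toTop V.ι) := by
  apply IsPullback.of_map (Scheme.Etale.forget X ⋙ Over.forget X)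
    ((EtCore.topIsTerminal X).hom_ext _ _)
  have h1 : ∀ {W : Scheme.{u}} (j : W ⟶ X) [Etale j],
      ((Scheme.Etale.forget X ⋙ Over.forget X).map (toTop j)) = j := fun j _ => toTop_left j
  rw [h1, h1]
  exact isPullback_opens_inf U V

/-- maps in the small model -/
noncomputable abbrev up {A B : X.Etale} (f : A ⟶ B) : ULiftHom.objUp A ⟶ (ULiftHom.objUp B : C' X) :=
  ULift.up f

lemma mono_up_toTop {W : Scheme.{u}} (j : W ⟶ X) [Etale j] [Mono j] : Mono (up (toTop j)) := by
  constructor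
  intro Z a b _
  apply ULift.ext
  apply MorphismProperty.Over.Hom.ext
  have ha := Over.w a.down.hom
  have hb := Over.w b.down.hom
  change a.down.left ≫ 𝟙 W ≫ j = _ at ha
  change b.down.left ≫ 𝟙 W ≫ j = _ at hb
  have ea : a.down.left ≫ 𝟙 W ≫ j = a.down.left ≫ j :=
    congrArg (fun t => a.down.left ≫ t) (Category.id_comp j)
  have eb : b.down.left ≫ 𝟙 W ≫ j = b.down.left ≫ j :=
    congrArg (fun t => b.down.left ≫ t) (Category.id_comp j)
  have : a.down.left ≫ j = b.down.left ≫ j := ea.symm.trans (ha.trans (hb.symm.trans eb))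
  exact (cancel_mono j).1 this

/-- the Mayer–Vietoris square of the small étale site attached to an open covering -/
noncomputable def sq : Square (C' X) where
  X₁ := oOf' (U ⊓ V).ι
  X₂ := oOf' U.ι
  X₃ := oOf' V.ι
  X₄ := top' X
  f₁₂ := up (oMap (X.homOfLE inf_le_left) U.ι (U ⊓ V).ι (X.homOfLE_ι _))
  f₁₃ := up (oMap (X.homOfLE inf_le_right) V.ι (U ⊓ V).ι (X.homOfLE_ι _))
  f₂₄ := up (toTop U.ι)
  f₃₄ := up (toTop V.ι)
  fac := (top'IsTerminal X).hom_ext _ _

instance : Mono (sq U V).f₂₄ := mono_up_toTop U.ι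
instance : Mono (sq U V).f₃₄ := mono_up_toTop V.ι

lemma sq_isPullback : (sq U V).IsPullback :=
  (isPullback_etale U V).map (eqv X).functor

lemma sq_cover (hUV : U ⊔ V = ⊤) : Sieve.ofTwoArrows (sq U V).f₂₄ (sq U V).f₃₄ ∈ J' X (sq U V).X₄ := by
  rw [mem_J'_iff]
  intro x
  have hx : (x : X) ∈ U ⊔ V := by rw [hUV]; trivial
  rcases hx with hx | hx
  · refine ⟨oOf U.ι, toTop U.ι, ⟨x, hx⟩, Sieve.ofArrows_mk _ _ WalkingPair.left, ?_⟩
    rw [toTop_left]
    rfl
  · refine ⟨oOf V.ι, toTop V.ι, ⟨x, hx⟩, Sieve.ofArrows_mk _ _ WalkingPair.right, ?_⟩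
    rw [toTop_left]
    rfl

lemma freeMap_comp {C : Type (u + 1)} [SmallCategory C] (J : GrothendieckTopology C) {A B D : C}
    (f : A ⟶ B) (g : B ⟶ D) :
    SiteCoh.freeMap J (f ≫ g) = SiteCoh.freeMap J f ≫ SiteCoh.freeMap J g := by
  unfold SiteCoh.freeMap
  rw [← Functor.map_comp]
  congr 1
  ext
  simp

/-- the Mayer–Vietoris square -/
noncomputable def mvSquare (hUV : U ⊔ V = ⊤) : (J' X).MayerVietorisSquare :=
  GrothendieckTopology.MayerVietorisSquare.mk_of_isPullback (J := J' X) (sq U V) (sq_isPullback U V)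
    (sq_cover U V hUV)

instance mono_freeMap {A B : C' X} (f : A ⟶ B) [Mono f] : Mono (SiteCoh.freeMap (J' X) f) := by
  unfold SiteCoh.freeMap
  infer_instance

open Groth.Agent.Lib.Helper4.DeltaMVAbs in
lemma mv_zero (hUV : U ⊔ V = ⊤) :
    biprod.lift (SiteCoh.freeMap (J' X) (sq U V).f₁₂) (-SiteCoh.freeMap (J' X) (sq U V).f₁₃) ≫
      biprod.desc (SiteCoh.freeMap (J' X) (sq U V).f₂₄) (SiteCoh.freeMap (J' X) (sq U V).f₃₄) = 0 :=
  (mvSquare U V hUV).shortComplex.zero

open Groth.Agent.Lib.Helper4.DeltaMVAbs in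
lemma mv_shortExact (hUV : U ⊔ V = ⊤) :
    (mvSC (SiteCoh.freeMap (J' X) (sq U V).f₁₂) (SiteCoh.freeMap (J' X) (sq U V).f₁₃)
      (SiteCoh.freeMap (J' X) (sq U V).f₂₄) (SiteCoh.freeMap (J' X) (sq U V).f₃₄)
      (mv_zero U V hUV)).ShortExact :=
  (mvSquare U V hUV).shortComplex_shortExact

end Groth.Agent.Lib.Helper4.EtMVSquare
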