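import Mathlib
import Groth.Prelude.Def_EtBase
import Groth.Prelude.Def_PBC
import Groth.Agent.S0069
import Groth.Agent.S0073
import Groth.Agent.Lib.Helper43.Recoll
import Groth.Agent.Lib.Helper4.EtClosedPush

/-!
# Sheaves with support in a set of points

* `SuppIn G S`: the stalks of `G` at geometric points with image outside `S` vanish;
* `suppIn_kernel_unit`: the kernel of `F ⟶ j_* j⁻¹ F` has support outside the image of `j`;
* `eq_zero_of_suppIn`: a map `G ⟶ j_* H` vanishes if `G` has support outside the image of `j`;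
* `subsingleton_H_of_suppIn_finset`: a sheaf with support in finitely many closed points with
  separably closed residue fields has no higher cohomology.
-/

set_option autoImplicit false
universe u
open CategoryTheory CategoryTheory.Limits AlgebraicGeometry Opposite

namespace Groth.Agent.Lib.Helper4.EtSupp

open Groth.Agent.Lib.Helper43 Groth.Agent.Lib.Helper43.EtStalk Groth.Agent.Lib.Helper43.ClosedStalk
  Groth.Agent.S0100

lemma isSepClosed_of_ringEquiv {k k' : Type u} [Field k] [Field k'] [IsSepClosed k]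
    (e : k ≃+* k') : IsSepClosed k' := by
  let _ := e.toRingHom.toAlgebra
  have h1 : Algebra.IsIntegral k k' := Algebra.isIntegral_of_surjective e.surjective
  have : Algebra.IsAlgebraic k k' := h1.isAlgebraic
  exact Algebra.IsAlgebraic.isSepClosed (F := k)

/-- the spectrum of a separably closed field has no higher étale cohomology -/
lemma subsingleton_H_spec_field (K : Type u) [Field K] [IsSepClosed K]
    (F : EtCoh.Ab (Spec (CommRingCat.of K))) (q : ℕ) (hq : 1 ≤ q) :
    Subsingleton (EtCoh.H (Spec (CommRingCat.of K)) F q) := by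
  let e' : K ≃+* IsLocalRing.ResidueField K :=
    RingEquiv.ofBijective (IsLocalRing.residue K)
      ⟨(IsLocalRing.residue K).injective, Ideal.Quotient.mk_surjective⟩
  have : IsSepClosed (IsLocalRing.ResidueField K) := isSepClosed_of_ringEquiv e'
  exact Groth.Agent.S0073.result K F q hq

variable {X : Scheme.{u}}

/-- the stalks of `G` at geometric points with image outside `S` vanish -/
def SuppIn (G : EtCoh.Ab X) (S : Set X) : Prop :=
  ∀ (Ω : Type u) [Field Ω] [IsSepClosed Ω] (ξ : Spec (CommRingCat.of Ω) ⟶ X),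
    ξ.base default ∉ S → IsZero ((EtCoh.stalk ξ).obj G)

lemma range_geom {Ω : Type u} [Field Ω] (ξ : Spec (CommRingCat.of Ω) ⟶ X) :
    Set.range ξ.base = {ξ.base default} := by
  ext y
  constructor
  · rintro ⟨a, rfl⟩
    rw [Subsingleton.elim a default]
    rfl
  · rintro rfl
    exact ⟨default, rfl⟩

lemma suppIn_of_supp_subset (G : EtCoh.Ab X) (S : Set X) (h : EtPBC.supp G ⊆ S) : SuppIn G S := by
  intro Ω _ _ ξ hξ
  by_contra hne
  exact hξ (h ⟨Ω, inferInstance, inferInstance, ξ, range_geom ξ, hne⟩)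

lemma SuppIn.mono {G : EtCoh.Ab X} {S S' : Set X} (h : SuppIn G S) (hS : S ⊆ S') : SuppIn G S' :=
  fun Ω _ _ ξ hξ => h Ω ξ (fun h' => hξ (hS h'))

lemma isZero_of_suppIn_empty (G : EtCoh.Ab X) (h : SuppIn G ∅) : IsZero G :=
  isZero_of_stalks_ab G (fun Ω _ _ ξ => h Ω ξ (Set.notMem_empty _))

/-- a subobject of a sheaf has smaller support -/
lemma SuppIn.of_mono {G G' : EtCoh.Ab X} (φ : G ⟶ G') [Mono φ] {S : Set X} (h : SuppIn G' S) :
    SuppIn G S := by
  intro Ω _ _ ξ hξ
  have : Mono ((EtCoh.stalk ξ).map φ) := inferInstance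
  exact IsZero.of_mono ((EtCoh.stalk ξ).map φ) (h Ω ξ hξ)

section Unit

variable {U : Scheme.{u}} (j : U ⟶ X) (F : EtCoh.Ab X)

/-- the unit `F ⟶ j_* j⁻¹ F` is injective on stalks at geometric points factoring through `j` -/
lemma mono_stalk_unit {Ω : Type u} [Field Ω] [IsSepClosed Ω] (ζ : Spec (CommRingCat.of Ω) ⟶ U) :
    Mono ((EtCoh.stalk (ζ ≫ j)).map (PullStalk.η j F)) := by
  have h1 := stalk_unit_pushStalkMap j F ζ
  have h2 : IsIso (PullStalk.pullStalkMap j F ζ) := PullStalk.isIso_pullStalkMap j _ ζ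
  have h3 : Mono ((Scheme.pointSmallEtale (ζ ≫ j)).presheafFiber.map (PullStalk.η j F).hom ≫
      pushStalkMap j ((EtCoh.pull j).obj F) ζ) := by
    rw [h1]
    infer_instance
  exact @mono_of_mono _ _ _ _ _ _ (pushStalkMap j ((EtCoh.pull j).obj F) ζ) h3

/-- the stalk of `ker (F ⟶ j_* j⁻¹ F)` vanishes at geometric points factoring through `j` -/
lemma isZero_stalk_kernel_unit {Ω : Type u} [Field Ω] [IsSepClosed Ω]
    (ζ : Spec (CommRingCat.of Ω) ⟶ U) :
    IsZero ((EtCoh.stalk (ζ ≫ j)).obj (kernel (PullStalk.η j F))) := by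
  have hm := mono_stalk_unit j F ζ
  have h0 : (EtCoh.stalk (ζ ≫ j)).map (kernel.ι (PullStalk.η j F)) = 0 := by
    rw [← cancel_mono ((EtCoh.stalk (ζ ≫ j)).map (PullStalk.η j F)), ← Functor.map_comp,
      kernel.condition, Functor.map_zero, zero_comp]
  have : Mono ((EtCoh.stalk (ζ ≫ j)).map (kernel.ι (PullStalk.η j F))) := inferInstance
  exact IsZero.of_mono_eq_zero _ h0

end Unit

section Pull

variable {U : Scheme.{u}} (j : U ⟶ X) (G : EtCoh.Ab X)

lemma isZero_pull_of_stalks
    (h : ∀ (Ω : Type u) [Field Ω] [IsSepClosed Ω] (ζ : Spec (CommRingCat.of Ω) ⟶ U),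
      IsZero ((EtCoh.stalk (ζ ≫ j)).obj G)) : IsZero ((EtCoh.pull j).obj G) := by
  apply isZero_of_stalks_ab
  intro Ω _ _ ζ
  exact IsZero.of_iso (h Ω ζ) (asIso (PullStalk.pullStalkMap j G ζ)).symm

/-- a map `G ⟶ j_* H` vanishes if the stalks of `G` at the geometric points factoring through `j`
vanish -/
lemma eq_zero_of_stalks
    (h : ∀ (Ω : Type u) [Field Ω] [IsSepClosed Ω] (ζ : Spec (CommRingCat.of Ω) ⟶ U),
      IsZero ((EtCoh.stalk (ζ ≫ j)).obj G)) (H : EtCoh.Ab U) (φ : G ⟶ (EtCoh.push j).obj H) :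
    φ = 0 := by
  have hz := isZero_pull_of_stalks j G h
  have h1 : ((EtCoh.pullPushAdj j).homEquiv G H).symm φ = 0 := hz.eq_of_src _ _
  have h2 := congrArg ((EtCoh.pullPushAdj j).homEquiv G H) h1
  rw [Equiv.apply_symm_apply] at h2
  rw [h2, Adjunction.homEquiv_unit, Functor.map_zero, comp_zero]

end Pull

section Finite

open Abelian in
lemma subsingleton_H_of_shortExact (S : ShortComplex (EtCoh.Ab X)) (hS : S.ShortExact) (q : ℕ)
    (h1 : Subsingleton (EtCoh.H X S.X₁ q)) (h3 : Subsingleton (EtCoh.H X S.X₃ q)) :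
    Subsingleton (EtCoh.H X S.X₂ q) := by
  constructor
  intro a b
  obtain ⟨a', ha'⟩ := Ext.covariant_sequence_exact₂ _ hS a (h3.elim _ _)
  obtain ⟨b', hb'⟩ := Ext.covariant_sequence_exact₂ _ hS b (h3.elim _ _)
  rw [← ha', ← hb', h1.elim a' b']

/-- a sheaf supported in finitely many closed points with separably closed residue fields has no
higher cohomology -/
theorem subsingleton_H_of_suppIn_finset (q : ℕ) (hq : 1 ≤ q) (T : Finset X) :
    (∀ x ∈ T, IsClosed ({x} : Set X) ∧ IsSepClosed (X.residueField x)) →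
    ∀ G : EtCoh.Ab X, SuppIn G (T : Set X) → Subsingleton (EtCoh.H X G q) := by
  classical
  induction T using Finset.induction_on with
  | empty =>
    intro _ G hG
    have hz : IsZero G := isZero_of_suppIn_empty G (by simpa using hG)
    exact Sheaf.subsingleton_H_of_isZero hz q
  | insert x T hx ih =>
    intro hT G hG
    obtain ⟨hxc, hxs⟩ := hT x (Finset.mem_insert_self x T)
    have ih' := ih (fun y hy => hT y (Finset.mem_insert_of_mem hy))
    let i := X.fromSpecResidueField x
    have hi : IsClosedImmersion i := isClosed_singleton_iff_isClosedImmersion.1 hxc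
    have hri : Set.range i.base = {x} := Scheme.range_fromSpecResidueField x
    let η := PullStalk.η i G
    -- stalks of `η` at points over `x` are isomorphisms
    have hiso : ∀ (Ω : Type u) [Field Ω] [IsSepClosed Ω] (ξ : Spec (CommRingCat.of Ω) ⟶ X),
        ξ.base default = x → IsIso ((EtCoh.stalk ξ).map η) := by
      intro Ω _ _ ξ hξ
      obtain ⟨ζ, rfl⟩ := exists_lift_closed i ξ (by rw [hri, hξ]; rfl)
      exact isIso_stalk_unit i G ζ
    -- stalks of the target vanish elsewhere
    have hzero : ∀ (Ω : Type u) [Field Ω] [IsSepClosed Ω] (ξ : Spec (CommRingCat.of Ω) ⟶ X),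
        ξ.base default ≠ x →
        IsZero ((EtCoh.stalk ξ).obj ((EtCoh.push i).obj ((EtCoh.pull i).obj G))) := by
      intro Ω _ _ ξ hξ
      refine Groth.Agent.S0069.result i _ ξ ?_
      rw [range_geom ξ, hri]
      exact Set.disjoint_singleton.2 hξ
    have hepi : Epi η := by
      apply epi_of_stalks_ab
      intro Ω _ _ ξ
      by_cases hξ : ξ.base default = x
      · have := hiso Ω ξ hξ
        exact (AddCommGrpCat.epi_iff_surjective _).1 inferInstance
      · intro b
        have := AddCommGrpCat.subsingleton_of_isZero (hzero Ω ξ hξ)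
        exact ⟨0, Subsingleton.elim _ _⟩
    have hK : SuppIn (kernel η) (T : Set X) := by
      intro Ω _ _ ξ hξ
      by_cases hξx : ξ.base default = x
      · have := hiso Ω ξ hξx
        have h0 : (EtCoh.stalk ξ).map (kernel.ι η) = 0 := by
          rw [← cancel_mono ((EtCoh.stalk ξ).map η), ← Functor.map_comp,
            kernel.condition, Functor.map_zero, zero_comp]
        have : Mono ((EtCoh.stalk ξ).map (kernel.ι η)) := inferInstance
        exact IsZero.of_mono_eq_zero _ h0
      · have hGξ : IsZero ((EtCoh.stalk ξ).obj G) := hG Ω ξ (by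
          simp only [Finset.coe_insert, Set.mem_insert_iff, Finset.mem_coe, not_or]
          exact ⟨hξx, hξ⟩)
        have : Mono ((EtCoh.stalk ξ).map (kernel.ι η)) := inferInstance
        exact IsZero.of_mono ((EtCoh.stalk ξ).map (kernel.ι η)) hGξ
    have hSE : (ShortComplex.mk (kernel.ι η) η (kernel.condition η)).ShortExact :=
      { exact := ShortComplex.exact_kernel η }
    have hQ : Subsingleton (EtCoh.H X ((EtCoh.push i).obj ((EtCoh.pull i).obj G)) q) := by
      have hsub : Subsingleton (EtCoh.H (Spec (X.residueField x)) ((EtCoh.pull i).obj G) q) :=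
        subsingleton_H_spec_field (X.residueField x) ((EtCoh.pull i).obj G) q hq
      exact Groth.Agent.Lib.Helper4.EtClosedPush.subsingleton_H_push i _ q hsub
    exact subsingleton_H_of_shortExact _ hSE q (ih' _ hK) hQ

end Finite

end Groth.Agent.Lib.Helper4.EtSupp
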