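import Mathlib
import Groth.Prelude.Def_EtBase
import Groth.Prelude.Def_PBC
import Groth.Agent.Lib.Helper43.EtStalk
import Groth.Agent.Lib.Helper43.EtOpenSub
import Groth.Agent.Lib.Helper4.EtSupp
import Groth.Agent.Lib.Helper43.PullStalk

/-!
# Sections of a sheaf whose support consists of closed points

For an abelian étale sheaf `F` on `X` whose support consists of closed points, and a section `σ` of
`F` over an étale `X`-scheme `V` with noetherian underlying space, there is a finite set `T` of
closed points of `X` such that `σ` vanishes on an étale neighbourhood of every point of `V` not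
lying over `T`.
-/

set_option autoImplicit false
universe u
open CategoryTheory CategoryTheory.Limits AlgebraicGeometry Opposite

namespace Groth.Agent.Lib.Helper4.EtSuppSect

open Groth.Agent.Lib.Helper43 Groth.Agent.Lib.Helper43.EtStalk Groth.Agent.Lib.Helper4.EtSupp

variable {X : Scheme.{u}} (F : EtCoh.Ab X)

/-- `σ` vanishes on some étale neighbourhood of `v` -/
def KillNbhd {V : X.Etale} (σ : F.obj.obj (op V)) (v : V.left) : Prop :=
  ∃ (W : X.Etale) (g : W ⟶ V), v ∈ Set.range g.left.base ∧ F.obj.map g.op σ = 0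

lemma isOpen_killNbhd {V : X.Etale} (σ : F.obj.obj (op V)) :
    IsOpen {v : V.left | KillNbhd F σ v} := by
  rw [isOpen_iff_forall_mem_open]
  rintro v ⟨W, g, hv, hg⟩
  have : Etale g.left := inferInstanceAs (Etale g.left)
  refine ⟨Set.range g.left.base, ?_, g.left.isOpenMap.isOpen_range, hv⟩
  intro v' hv'
  exact ⟨W, g, hv', hg⟩

/-- a point at which `σ` does not vanish locally maps into the support of `F` -/
lemma mem_supp_of_not_killNbhd {V : X.Etale} (σ : F.obj.obj (op V)) (v : V.left)
    (hv : ¬ KillNbhd F σ v) : V.hom.base v ∈ EtPBC.supp F := by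
  let Ω := SeparableClosure (V.left.residueField v)
  let s : Spec (CommRingCat.of Ω) ⟶ V.left :=
    (Scheme.SpecToEquivOfField Ω V.left).2
      ⟨v, CommRingCat.ofHom (algebraMap (V.left.residueField v) Ω)⟩
  have hs : s.base default = v := by simp [s, Scheme.SpecToEquivOfField]
  let ξ : Spec (CommRingCat.of Ω) ⟶ X := s ≫ V.hom
  let z : (Scheme.pointSmallEtale ξ).fiber.obj V := Over.homMk s rfl
  refine ⟨Ω, inferInstance, inferInstance, ξ, ?_, ?_⟩
  · rw [range_geom ξ]
    change ({(s ≫ V.hom).base default} : Set X) = _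
    rw [Scheme.Hom.comp_base, TopCat.comp_app, hs]
  · intro hzero
    apply hv
    have hsub := AddCommGrpCat.subsingleton_of_isZero hzero
    have h0 : (Scheme.pointSmallEtale ξ).toPresheafFiber V z F.obj σ =
        (Scheme.pointSmallEtale ξ).toPresheafFiber V z F.obj 0 := hsub.elim _ _
    obtain ⟨W, g, w, hw, hg⟩ := ((Scheme.pointSmallEtale ξ).toPresheafFiber_eq_iff' V z σ 0).1 h0
    refine ⟨W, g, ?_, hg.trans (map_zero _)⟩
    have h1 : w.left ≫ g.left = s := congrArg (fun t => Over.Hom.left t) hw
    let wl : Spec (CommRingCat.of Ω) ⟶ W.left := w.left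
    have h1' : wl ≫ g.left = s := h1
    refine ⟨wl.base default, ?_⟩
    have h2 : (wl ≫ g.left).base default = s.base default := congrArg (fun t => t.base default) h1'
    exact h2.trans hs

/-- **finite support**: a section over a noetherian étale `X`-scheme of a sheaf whose support
consists of closed points vanishes locally away from finitely many closed points of `X` -/
theorem exists_finset_closedPoints {V : X.Etale} [TopologicalSpace.NoetherianSpace V.left]
    (hF : ∀ x ∈ EtPBC.supp F, IsClosed ({x} : Set X)) (σ : F.obj.obj (op V)) :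
    ∃ T : Finset X, (∀ x ∈ T, IsClosed ({x} : Set X)) ∧
      ∀ v : V.left, V.hom.base v ∉ T → KillNbhd F σ v := by
  classical
  have hZ : IsClosed {v : V.left | ¬ KillNbhd F σ v} := by
    have := (isOpen_killNbhd F σ).isClosed_compl
    exact this
  obtain ⟨S, hSf, hSc, hSi, hSU⟩ :=
    TopologicalSpace.NoetherianSpace.exists_finite_set_isClosed_irreducible hZ
  let G : Set V.left := ⋃ t ∈ S, {g | IsGenericPoint g t}
  have hGfin : G.Finite := by
    refine Set.Finite.biUnion hSf (fun t _ => Set.Subsingleton.finite ?_)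
    intro g hg g' hg'
    exact IsGenericPoint.eq hg hg'
  have hGZ : ∀ g ∈ G, ¬ KillNbhd F σ g := by
    intro g hg
    simp only [G, Set.mem_iUnion, Set.mem_ofPred_eq] at hg
    obtain ⟨t, ht, hgt⟩ := hg
    have h1 : g ∈ t := hgt.mem
    have h2 : g ∈ {v : V.left | ¬ KillNbhd F σ v} := by
      rw [hSU]
      exact ⟨t, ht, h1⟩
    exact h2
  refine ⟨(hGfin.image (fun g => V.hom.base g)).toFinset, ?_, ?_⟩
  · intro x hx
    rw [Set.Finite.mem_toFinset] at hx
    obtain ⟨g, hg, rfl⟩ := hx
    exact hF _ (mem_supp_of_not_killNbhd F σ g (hGZ g hg))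
  · intro v hv
    by_contra hk
    apply hv
    rw [Set.Finite.mem_toFinset]
    have h2 : v ∈ {v : V.left | ¬ KillNbhd F σ v} := hk
    rw [hSU] at h2
    obtain ⟨t, ht, hvt⟩ := h2
    obtain ⟨g, hg⟩ := QuasiSober.sober (hSi t ht) (hSc t ht)
    have hgG : g ∈ G := by
      simp only [G, Set.mem_iUnion, Set.mem_ofPred_eq]
      exact ⟨t, ht, hg⟩
    refine ⟨g, hgG, ?_⟩
    have hcl : IsClosed ({V.hom.base g} : Set X) :=
      hF _ (mem_supp_of_not_killNbhd F σ g (hGZ g hgG))
    have hpre : IsClosed (V.hom.base ⁻¹' ({V.hom.base g} : Set X)) :=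
      hcl.preimage V.hom.base.hom.continuous
    have hsub : t ⊆ V.hom.base ⁻¹' ({V.hom.base g} : Set X) := by
      rw [← hg.def]
      exact closure_minimal (Set.singleton_subset_iff.2 rfl) hpre
    exact (hsub hvt).symm

section Germs

open Groth.Agent.S0100

/-- a section all of whose germs vanish is zero -/
lemma eq_zero_of_germs {U : Scheme.{u}} (G : EtCoh.Ab U) {W : U.Etale} (τ : G.obj.obj (op W))
    (h : ∀ (Ω : Type u) [Field Ω] [IsSepClosed Ω] (ζ : Spec (CommRingCat.of Ω) ⟶ U)
      (w : (Scheme.pointSmallEtale ζ).fiber.obj W),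
      (Scheme.pointSmallEtale ζ).toPresheafFiber W w G.obj τ = 0) : τ = 0 := by
  let R : Sieve W :=
    { arrows := fun Y g => G.obj.map g.op τ = 0
      downward_closed := fun {Y Z g} hg k => by
        rw [op_comp, Functor.map_comp]
        change G.obj.map k.op (G.obj.map g.op τ) = 0
        rw [hg, map_zero] }
  have hR : R ∈ U.smallEtaleTopology W := by
    apply detectsCoverings_geomPts
    rintro Φ ⟨Ω, _, _, ζ, rfl⟩ w
    have h0 : (Scheme.pointSmallEtale ζ).toPresheafFiber W w G.obj τ =
        (Scheme.pointSmallEtale ζ).toPresheafFiber W w G.obj 0 := (h Ω ζ w).trans (map_zero _).symm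
    obtain ⟨Y, g, y, hy, hg⟩ := ((Scheme.pointSmallEtale ζ).toPresheafFiber_eq_iff' W w τ 0).1 h0
    exact ⟨Y, g, hg.trans (map_zero _), y, hy⟩
  refine Sheaf.isSeparated G W R hR τ 0 (fun Y g hg => ?_)
  rw [map_zero]
  exact hg

/-- if `σ` vanishes locally at all points of `V` lying over the image of `j`, then `σ` is a section
of the kernel of `F ⟶ j_* j⁻¹ F` -/
theorem unit_app_eq_zero {U : Scheme.{u}} (j : U ⟶ X) {V : X.Etale} (σ : F.obj.obj (op V))
    (h : ∀ v : V.left, V.hom.base v ∈ Set.range j.base → KillNbhd F σ v) :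
    (PullStalk.η j F).hom.app (op V) σ = 0 := by
  refine eq_zero_of_germs ((EtCoh.pull j).obj F) (W := (EtCoh.bc j).obj V) _ ?_
  intro Ω _ _ ζ w
  let Φ := Scheme.pointSmallEtale (ζ ≫ j)
  let z : Φ.fiber.obj V := (fiberEquiv j ζ V).symm w
  have h1 := PullStalk.toFiber_pullStalkMap j F ζ V z
  rw [show fiberEquiv j ζ V z = w from (fiberEquiv j ζ V).apply_symm_apply w] at h1
  have h2 := congrArg (fun t => t.hom σ) h1
  have h3 : Φ.toPresheafFiber V z F.obj σ = 0 := by
    let zl : Spec (CommRingCat.of Ω) ⟶ V.left := z.left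
    have hzl : zl ≫ V.hom = ζ ≫ j := Over.w z
    have hmem : V.hom.base (zl.base default) ∈ Set.range j.base := by
      refine ⟨ζ.base default, ?_⟩
      have := congrArg (fun t => t.base default) hzl
      exact this.symm
    obtain ⟨W', g, ⟨p, hp⟩, hg⟩ := h (zl.base default) hmem
    have : Etale g.left := inferInstanceAs (Etale g.left)
    obtain ⟨l, hl₁, hl₂⟩ := Scheme.exists_fac_of_etale_of_isSepClosed g.left zl p hp
    let z' : Φ.fiber.obj W' := Over.homMk l (by
      change l ≫ W'.hom = ζ ≫ j
      rw [← EtOpenSub.hom_left_eq g, ← Category.assoc, hl₁]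
      exact hzl)
    have hz' : Φ.fiber.map g z' = z := Over.OverMorphism.ext hl₁
    rw [← hz', ← Φ.toPresheafFiber_w_apply g z', hg, map_zero]
  refine Eq.trans h2.symm ?_
  change (PullStalk.pullStalkMap j F ζ).hom (Φ.toPresheafFiber V z F.obj σ) = 0
  rw [h3, map_zero]

end Germs

end Groth.Agent.Lib.Helper4.EtSuppSect
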