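import Mathlib
import Groth.Prelude.Def_EtBase
import Groth.Prelude.Def_PBC
import Groth.Agent.S0099
import Groth.Agent.Lib.Helper4.EtSupp
import Groth.Agent.Lib.Helper4.EtSuppSect

/-!
# A sheaf supported in closed points is the filtered colimit of its subsheaves of sections
supported in finitely many closed points
-/

set_option autoImplicit false
universe u
open CategoryTheory CategoryTheory.Limits AlgebraicGeometry Opposite

namespace Groth.Agent.Lib.Helper4.EtSuppColim

open Groth.Agent.Lib.Helper43 Groth.Agent.Lib.Helper43.EtStalk Groth.Agent.Lib.Helper4.EtSupp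
  Groth.Agent.Lib.Helper4.EtSuppSect

variable {X : Scheme.{u}}

/-- the index set: finite sets of closed points -/
abbrev Idx (X : Scheme.{u}) : Type u := Finset {x : X // IsClosed ({x} : Set X)}

/-- the points of `t` as a finite set of points of `X` -/
noncomputable def pts (t : Idx X) : Finset X := by
  classical
  exact t.image Subtype.val

lemma mem_pts {t : Idx X} {x : X} : x ∈ pts t ↔ ∃ h : IsClosed ({x} : Set X), (⟨x, h⟩ : {x : X // IsClosed ({x} : Set X)}) ∈ t := by
  classical
  simp [pts]

lemma pts_mono {t t' : Idx X} (h : t ≤ t') : pts t ⊆ pts t' := by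
  classical
  exact Finset.image_subset_image h

lemma isClosed_pts (t : Idx X) : IsClosed ((pts t : Finset X) : Set X) := by
  have : ((pts t : Finset X) : Set X) = ⋃ x ∈ pts t, {x} := by
    ext y
    simp
  rw [this]
  refine Set.Finite.isClosed_biUnion (Finset.finite_toSet _) (fun x hx => ?_)
  obtain ⟨h, -⟩ := mem_pts.1 hx
  exact h

/-- the open complement of the points of `t` -/
noncomputable def opn (t : Idx X) : X.Opens := ⟨((pts t : Finset X) : Set X)ᶜ, (isClosed_pts t).isOpen_compl⟩

lemma range_opn_ι (t : Idx X) : Set.range (opn t).ι.base = ((pts t : Finset X) : Set X)ᶜ := by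
  rw [Scheme.Opens.range_ι]
  rfl

/-- a geometric point with image outside `t` factors through the open complement -/
lemma exists_lift_opn (t : Idx X) {Ω : Type u} [Field Ω] (ξ : Spec (CommRingCat.of Ω) ⟶ X)
    (h : ξ.base default ∉ pts t) : ∃ ζ : Spec (CommRingCat.of Ω) ⟶ (opn t : Scheme.{u}), ζ ≫ (opn t).ι = ξ := by
  have hr : Set.range ξ.base ⊆ Set.range (opn t).ι.base := by
    rw [range_geom ξ, range_opn_ι, Set.singleton_subset_iff]
    exact h
  exact ⟨IsOpenImmersion.lift (opn t).ι ξ hr, IsOpenImmersion.lift_fac _ _ _⟩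

variable (F : EtCoh.Ab X)

/-- the unit `F ⟶ j_* j⁻¹ F` for the open complement of `t` -/
noncomputable abbrev un (t : Idx X) :
    F ⟶ (EtCoh.push (opn t).ι).obj ((EtCoh.pull (opn t).ι).obj F) :=
  PullStalk.η (opn t).ι F

/-- the sections of `F` with support in `t` -/
noncomputable abbrev Γt (t : Idx X) : EtCoh.Ab X := kernel (un F t)

lemma suppIn_Γt (t : Idx X) : SuppIn (Γt F t) ((pts t : Finset X) : Set X) := by
  intro Ω _ _ ξ hξ
  obtain ⟨ζ, rfl⟩ := exists_lift_opn t ξ hξ
  exact isZero_stalk_kernel_unit (opn t).ι F ζ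

lemma ι_comp_un {t t' : Idx X} (h : t ≤ t') : kernel.ι (un F t) ≫ un F t' = 0 := by
  apply eq_zero_of_stalks (opn t').ι (Γt F t)
  intro Ω _ _ ζ
  apply suppIn_Γt F t Ω (ζ ≫ (opn t').ι)
  intro hmem
  have h1 : (ζ ≫ (opn t').ι).base default ∈ Set.range (opn t').ι.base := ⟨ζ.base default, rfl⟩
  rw [range_opn_ι] at h1
  exact h1 (pts_mono h hmem)

/-- the diagram `t ↦ Γ_t F` -/
noncomputable def D : Idx X ⥤ EtCoh.Ab X where
  obj t := Γt F t
  map {t t'} h := kernel.lift (un F t') (kernel.ι (un F t)) (ι_comp_un F (leOfHom h))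
  map_id t := by
    apply equalizer.hom_ext
    simp
  map_comp f g := by
    apply equalizer.hom_ext
    simp

/-- the inclusions `Γ_t F ⟶ F` -/
noncomputable def incl : D F ⟶ (Functor.const (Idx X)).obj F where
  app t := kernel.ι (un F t)
  naturality t t' h := by
    change kernel.lift (un F t') (kernel.ι (un F t)) _ ≫ kernel.ι (un F t') = kernel.ι (un F t) ≫ 𝟙 F
    rw [kernel.lift_ι, Category.comp_id]

/-- the comparison map `colim_t Γ_t F ⟶ F` -/
noncomputable def cmp : colimit (D F) ⟶ F := colimit.desc (D F) ⟨F, incl F⟩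

lemma ι_cmp (t : Idx X) : colimit.ι (D F) t ≫ cmp F = kernel.ι (un F t) :=
  colimit.ι_desc _ _

attribute [local instance] IsFiltered.isConnected in
instance mono_cmp : Mono (cmp F) := by
  have : ∀ t, Mono ((incl F).app t) := fun t => inferInstanceAs (Mono (kernel.ι (un F t)))
  have := NatTrans.mono_of_mono_app (incl F)
  refine colim.map_mono' (incl F) (colimit.isColimit (D F)) (isColimitConstCocone (Idx X) F)
    (cmp F) (fun t => ?_)
  exact (ι_cmp F t).trans (Category.comp_id _).symm

section Sections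

/-- the sections functor over `V` -/
noncomputable abbrev sec (V : X.Etale) : EtCoh.Ab X ⥤ AddCommGrpCat.{u + 1} :=
  sheafToPresheaf _ _ ⋙ (evaluation _ _).obj (op V)

instance (V : X.Etale) : (sec V).PreservesZeroMorphisms where
  map_zero _ _ := rfl

/-- a section killed by `η` comes from the kernel of `η` -/
lemma exists_section_kernel {G Q : EtCoh.Ab X} (η : G ⟶ Q) (V : X.Etale) (σ : G.obj.obj (op V))
    (h : η.hom.app (op V) σ = 0) :
    ∃ κ : (kernel η).obj.obj (op V), (kernel.ι η).hom.app (op V) κ = σ := by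
  let S := ShortComplex.mk (kernel.ι η) η (kernel.condition η)
  have hS : S.Exact := ShortComplex.exact_kernel η
  have : Mono S.f := inferInstanceAs (Mono (kernel.ι η))
  have h1 := KernelFork.mapIsLimit _ hS.fIsKernel (sec V)
  have h2 : (S.map (sec V)).Exact := (S.map (sec V)).exact_of_f_is_kernel h1
  rw [ShortComplex.ab_exact_iff] at h2
  exact h2 σ h

end Sections

section Epi

/-- a finite set of closed points as an index -/
noncomputable def idxOf (T : Finset X) : Idx X := by
  classical
  exact T.subtype (fun x => IsClosed ({x} : Set X))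

lemma mem_pts_idxOf {T : Finset X} (hT : ∀ x ∈ T, IsClosed ({x} : Set X)) {x : X} :
    x ∈ pts (idxOf T) ↔ x ∈ T := by
  classical
  rw [mem_pts]
  constructor
  · rintro ⟨h, hx⟩
    exact (Finset.mem_subtype.1 hx)
  · intro hx
    exact ⟨hT x hx, Finset.mem_subtype.2 hx⟩

theorem isLocallySurjective_cmp [IsLocallyNoetherian X]
    (hF : ∀ x ∈ EtPBC.supp F, IsClosed ({x} : Set X)) :
    Presheaf.IsLocallySurjective X.smallEtaleTopology (cmp F).hom := by
  constructor
  intro V' s
  rw [EtOpenSub.mem_smallEtaleTopology_iff']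
  intro x
  obtain ⟨_, ⟨O₀, hO, rfl⟩, hxO, -⟩ := V'.left.isBasis_affineOpens.exists_subset_of_mem_open
    (Set.mem_univ x) isOpen_univ
  let O : V'.left.Opens := O₀
  have hO' : IsAffineOpen O := hO
  let W : X.Etale := Scheme.Etale.mk (O.ι ≫ V'.hom)
  let g : W ⟶ V' := MorphismProperty.Over.homMk O.ι rfl
  refine ⟨W, g, ⟨x, hxO⟩, ?_, rfl⟩
  have h1 : IsAffine W.left := hO'
  let wh : W.left ⟶ X := W.hom
  have hwh : Etale wh := W.prop
  have h2 : IsLocallyNoetherian W.left := LocallyOfFiniteType.isLocallyNoetherian wh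
  have h3 : IsNoetherian W.left := { }
  obtain ⟨T, hTc, hT⟩ := exists_finset_closedPoints F hF (F.obj.map g.op s)
  let t : Idx X := idxOf T
  have hz : (un F t).hom.app (op W) (F.obj.map g.op s) = 0 := by
    refine unit_app_eq_zero F (opn t).ι (F.obj.map g.op s) (fun v hv => hT v ?_)
    rw [range_opn_ι] at hv
    intro hmem
    exact hv ((mem_pts_idxOf hTc).2 hmem)
  obtain ⟨κ, hκ⟩ := exists_section_kernel (un F t) W _ hz
  refine ⟨(colimit.ι (D F) t).hom.app (op W) κ, ?_⟩
  have h4 := congrArg (fun φ => φ.hom.app (op W) κ) (ι_cmp F t)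
  exact h4.trans hκ

theorem isIso_cmp [IsLocallyNoetherian X]
    (hF : ∀ x ∈ EtPBC.supp F, IsClosed ({x} : Set X)) : IsIso (cmp F) := by
  have := isLocallySurjective_cmp F hF
  have : Epi (cmp F) := Sheaf.epi_of_isLocallySurjective (cmp F)
  exact isIso_of_mono_of_epi (cmp F)

end Epi

section Main

/-- on a noetherian scheme whose closed points have separably closed residue fields, a sheaf whose
support consists of closed points has no higher cohomology -/
theorem subsingleton_H_of_supp_closedPoints [IsLocallyNoetherian X] [CompactSpace X]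
    [QuasiSeparatedSpace X]
    (hres : ∀ x : X, IsClosed ({x} : Set X) → IsSepClosed (X.residueField x))
    (hF : ∀ x ∈ EtPBC.supp F, IsClosed ({x} : Set X)) (q : ℕ) (hq : 1 ≤ q) :
    Subsingleton (EtCoh.H X F q) := by
  have hiso := isIso_cmp F hF
  have hP := Groth.Agent.S0099.result X q (Idx X)
  have hcc := isColimitOfPreserves (EtCoh.HF X q) (colimit.isColimit (D F))
  have hz : IsZero ((EtCoh.HF X q).obj (colimit (D F))) := by
    refine Groth.Agent.Lib.Helper4.EtClosedPush.isZero_pt_of_isColimit hcc (fun t => ?_)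
    have hsub : Subsingleton (EtCoh.H X (Γt F t) q) :=
      subsingleton_H_of_suppIn_finset q hq (pts t)
        (fun x hx => by
          obtain ⟨h, -⟩ := mem_pts.1 hx
          exact ⟨h, hres x h⟩) (Γt F t) (suppIn_Γt F t)
    exact @AddCommGrpCat.isZero_of_subsingleton _ hsub
  have hz' : IsZero ((EtCoh.HF X q).obj F) :=
    IsZero.of_iso hz ((EtCoh.HF X q).mapIso (asIso (cmp F))).symm
  exact AddCommGrpCat.subsingleton_of_isZero hz'

end Main

end Groth.Agent.Lib.Helper4.EtSuppColim
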