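import Groth.Prelude.Def_EtBase
import Groth.Prelude.Def_CohCx
import Groth.Agent.S14631
import Mathlib.CategoryTheory.Sites.Equivalence
import Mathlib.CategoryTheory.Category.ULift
import Mathlib.AlgebraicGeometry.Morphisms.QuasiSeparated
import Mathlib.AlgebraicGeometry.Morphisms.UniversallyOpen
import Mathlib.AlgebraicGeometry.Morphisms.Etale
import Mathlib.AlgebraicGeometry.Sites.Small
import Mathlib.CategoryTheory.Limits.Constructions.FiniteProductsOfBinaryProducts
import Mathlib.CategoryTheory.Limits.Constructions.Over.Products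

/-!
# A `SmallCategory.{u+1}` model of the small étale site of a scheme

`C' X := ULiftHom.{u+1} X.Etale` with the topology transported along the equivalence; the class of
quasi-compact quasi-separated objects and finite coverings by such.
-/

set_option autoImplicit false
open CategoryTheory CategoryTheory.Limits AlgebraicGeometry Opposite
universe u

namespace Groth.Agent.Lib.Helper4.EtaleSmallSite

variable (X : Scheme.{u})

/-- the small model of the étale site -/
abbrev C' : Type (u + 1) := ULiftHom.{u + 1} X.Etale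

/-- the equivalence with the étale site -/
abbrev eqv : X.Etale ≌ C' X := ULiftHom.equiv

/-- the transported topology -/
noncomputable abbrev J' : GrothendieckTopology (C' X) :=
  (eqv X).inverse.inducedTopology X.smallEtaleTopology

variable {X}

set_option backward.isDefEq.respectTransparency.types false in
lemma mem_smallEtaleTopology_iff (U : X.Etale) (R : Sieve U) :
    R ∈ X.smallEtaleTopology U ↔
      ∀ x : U.left, ∃ (Y : X.Etale) (f : Y ⟶ U) (y : Y.left), R f ∧ f.left y = x := by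
  have e : X.smallEtaleTopology =
      (X.smallPretopology (P := EtCoh.etaleMP) (Q := EtCoh.etaleMP)).toGrothendieck :=
    Scheme.smallGrothendieckTopology_eq_toGrothendieck_smallPretopology X le_rfl
  rw [e]
  constructor
  · intro h x
    obtain ⟨Y, f, y, hf, -, hy⟩ := (Scheme.mem_toGrothendieck_smallPretopology U R).1 h x
    exact ⟨Y, f, y, hf, hy⟩
  · intro h
    refine (Scheme.mem_toGrothendieck_smallPretopology U R).2 (fun x => ?_)
    obtain ⟨Y, f, y, hf, hy⟩ := h x
    refine ⟨Y, f, y, hf, ?_, hy⟩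
    exact MorphismProperty.of_postcomp (W := EtCoh.etaleMP) (W' := EtCoh.etaleMP) f.left U.hom
      U.prop (by rw [Over.w f.hom]; exact Y.prop)

lemma mem_J'_iff (U' : C' X) (T : Sieve U') :
    T ∈ J' X U' ↔
      ∀ x : (ULiftHom.objDown U').left, ∃ (Y : X.Etale) (f : Y ⟶ ULiftHom.objDown U')
        (y : Y.left), T (ULift.up f : ULiftHom.objUp Y ⟶ U') ∧ f.left y = x := by
  rw [Functor.mem_inducedTopology_iff_of_isCoverDense, mem_smallEtaleTopology_iff]
  constructor
  · intro h x
    obtain ⟨Y, f, y, ⟨Z', g, k, hg, hk⟩, hy⟩ := h x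
    refine ⟨Y, f, y, ?_, hy⟩
    have : (ULift.up f : ULiftHom.objUp Y ⟶ U') = (ULift.up k : ULiftHom.objUp Y ⟶ Z') ≫ g := by
      apply ULift.ext
      exact hk
    rw [this]
    exact T.downward_closed hg _
  · intro h x
    obtain ⟨Y, f, y, hf, hy⟩ := h x
    exact ⟨Y, f, y, ⟨ULiftHom.objUp Y, ULift.up f, 𝟙 _, hf, (Category.id_comp _).symm⟩, hy⟩

/-! ### quasi-compact quasi-separated objects -/

/-- quasi-compact and quasi-separated over `X` -/
def QCQS (U : X.Etale) : Prop := QuasiCompact U.hom ∧ QuasiSeparated U.hom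

variable (X) in
/-- the class of qcqs objects -/
def B' : Set (C' X) := {U' | QCQS (ULiftHom.objDown U')}

variable (X) in
/-- the forgetful functor to schemes -/
noncomputable abbrev Fg : C' X ⥤ Scheme.{u} :=
  (eqv X).inverse ⋙ Scheme.Etale.forget X ⋙ Over.forget X

lemma Fg_map_hom {U' V' : C' X} (f : U' ⟶ V') :
    (Fg X).map f ≫ (ULiftHom.objDown V').hom = (ULiftHom.objDown U').hom :=
  Over.w f.down.hom

lemma mem_B'_of_hom {U' V' : C' X} (f : U' ⟶ V') (hV : V' ∈ B' X)
    (h1 : QuasiCompact ((Fg X).map f)) (h2 : QuasiSeparated ((Fg X).map f)) : U' ∈ B' X := by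
  obtain ⟨hV1, hV2⟩ := hV
  constructor
  · rw [← Fg_map_hom f]
    exact MorphismProperty.comp_mem @QuasiCompact _ _ h1 hV1
  · rw [← Fg_map_hom f]
    exact MorphismProperty.comp_mem @QuasiSeparated _ _ h2 hV2

lemma mem_B'_of_iso {U' V' : C' X} (i : U' ≅ V') (hV : V' ∈ B' X) : U' ∈ B' X :=
  mem_B'_of_hom i.hom hV inferInstance inferInstance

instance : HasPullbacks (C' X) :=
  Adjunction.hasLimitsOfShape_of_equivalence (eqv X).inverse

/-- binary products of qcqs objects over a qcqs object are qcqs -/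
lemma mem_B'_binaryFan {U' : C' X} (hU : U' ∈ B' X) {A B : Over U'} (hA : A.left ∈ B' X)
    (hB : B.left ∈ B' X) (c : BinaryFan A B) (hc : IsLimit c) : c.pt.left ∈ B' X := by
  have hpb := (Over.isPullback_of_binaryFan_isLimit c hc).map (Fg X)
  -- `A₀ ⟶ U₀` is qcqs
  have hAU1 : QuasiCompact ((Fg X).map A.hom) := by
    have h1 : QuasiCompact ((Fg X).map A.hom ≫ (ULiftHom.objDown U').hom) := by
      rw [Fg_map_hom]; exact hA.1
    exact @QuasiCompact.of_comp _ _ _ ((Fg X).map A.hom) (ULiftHom.objDown U').hom h1 hU.2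
  have hAU2 : QuasiSeparated ((Fg X).map A.hom) := by
    have h2 : QuasiSeparated ((Fg X).map A.hom ≫ (ULiftHom.objDown U').hom) := by
      rw [Fg_map_hom]; exact hA.2
    exact @QuasiSeparated.of_comp _ _ _ ((Fg X).map A.hom) (ULiftHom.objDown U').hom h2
  refine mem_B'_of_hom c.snd.left hB ?_ ?_
  · exact MorphismProperty.of_isPullback (P := @QuasiCompact) hpb hAU1
  · exact MorphismProperty.of_isPullback (P := @QuasiSeparated) hpb hAU2

/-- finite products of qcqs objects over a qcqs object are qcqs -/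
lemma mem_B'_fan {U' : C' X} (hU : U' ∈ B' X) :
    ∀ (n : ℕ) (Z : Fin n → Over U') (_ : ∀ k, (Z k).left ∈ B' X) (c : Fan Z) (_ : IsLimit c),
      c.pt.left ∈ B' X
  | 0, Z, _, c, hc => by
    let c' : Fan Z := Fan.mk (Over.mk (𝟙 U')) (fun k => k.elim0)
    have hc' : IsLimit c' := Fan.IsLimit.mk _ (fun s => Over.mkIdTerminal.from s.pt)
      (fun s j => j.elim0) (fun s m _ => Over.mkIdTerminal.hom_ext _ _)
    exact mem_B'_of_iso ((Over.forget U').mapIso (hc.conePointUniqueUpToIso hc')) hU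
  | n + 1, Z, hZ, c, hc => by
    let c₁ : Fan (fun i : Fin n => Z i.succ) := limit.cone _
    have hc₁ : IsLimit c₁ := limit.isLimit _
    let c₂ : BinaryFan (Z 0) c₁.pt := limit.cone _
    have hc₂ : IsLimit c₂ := limit.isLimit _
    have h₁ : c₁.pt.left ∈ B' X := mem_B'_fan hU n _ (fun k => hZ k.succ) c₁ hc₁
    have h₂ : c₂.pt.left ∈ B' X := mem_B'_binaryFan hU (hZ 0) h₁ c₂ hc₂
    exact mem_B'_of_iso ((Over.forget U').mapIso
      (hc.conePointUniqueUpToIso (extendFanIsLimit Z hc₁ hc₂))) h₂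

/-! ### coverings -/

variable (X) in
/-- finite covering families of qcqs objects by qcqs objects -/
def Cov' (U' : C' X) (ι : Type (u + 1)) (Y : ι → Over U') : Prop :=
  Finite ι ∧ U' ∈ B' X ∧ (∀ i, (Y i).left ∈ B' X) ∧
    Sieve.ofArrows (fun i => (Y i).left) (fun i => (Y i).hom) ∈ J' X U'

lemma cov_h1 (U' : C' X) (ι : Type (u + 1)) (Y : ι → Over U') (h : Cov' X U' ι Y) :
    Finite ι ∧ U' ∈ B' X ∧
      Sieve.ofArrows (fun i => (Y i).left) (fun i => (Y i).hom) ∈ J' X U' ∧
      ∀ (p : ℕ) (a : Fin (p + 1) → ι), (∏ᶜ fun k => Y (a k)).left ∈ B' X :=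
  ⟨h.1, h.2.1, h.2.2.2, fun p a => mem_B'_fan h.2.1 (p + 1) _ (fun k => h.2.2.1 (a k))
    (limit.cone _) (limit.isLimit _)⟩

lemma isOpenMap_left {Y U : X.Etale} (f : Y ⟶ U) : IsOpenMap f.left := by
  have : Etale f.left :=
    MorphismProperty.of_postcomp (W := EtCoh.etaleMP) (W' := EtCoh.etaleMP) f.left U.hom
      U.prop (by rw [Over.w f.hom]; exact Y.prop)
  exact f.left.isOpenMap

lemma cov_h2 [CompactSpace X] [QuasiSeparatedSpace X] (U' : C' X) (hU : U' ∈ B' X)
    (T : Sieve U') (hT : T ∈ J' X U') :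
    ∃ (ι : Type (u + 1)) (Y : ι → Over U'), Cov' X U' ι Y ∧ ∀ i, T.arrows (Y i).hom := by
  rw [mem_J'_iff] at hT
  have key : ∀ x : (ULiftHom.objDown U').left, ∃ (W : X.Etale) (h : W ⟶ ULiftHom.objDown U'),
      QCQS W ∧ T (ULift.up h : ULiftHom.objUp W ⟶ U') ∧ x ∈ Set.range h.left := by
    intro x
    obtain ⟨Y, f, y, hf, hy⟩ := hT x
    obtain ⟨κ, V, hV, hsurj⟩ := Groth.Agent.S14631.result X Y
    obtain ⟨i, w, hw⟩ := hsurj y
    refine ⟨(V i).left, (V i).hom ≫ f, hV i, ?_, ⟨w, ?_⟩⟩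
    · exact T.downward_closed hf
        (ULift.up (V i).hom : ULiftHom.objUp (V i).left ⟶ ULiftHom.objUp Y)
    · change f.left ((V i).hom.left w) = x
      rw [show (V i).hom.left w = y from hw]
      exact hy
  choose W h hW hT' hx using key
  have hopen : ∀ x, IsOpen (Set.range (h x).left) := fun x => (isOpenMap_left (h x)).isOpen_range
  haveI : CompactSpace (ULiftHom.objDown U').left := by
    haveI := hU.1
    haveI hX : CompactSpace ↥((Functor.fromPUnit X).obj (ULiftHom.objDown U').right) :=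
      ‹CompactSpace ↥X›
    exact QuasiCompact.compactSpace_of_compactSpace (ULiftHom.objDown U').hom
  obtain ⟨t, ht⟩ := isCompact_univ.elim_finite_subcover (fun x => Set.range (h x).left) hopen
    (fun x _ => Set.mem_iUnion.2 ⟨x, hx x⟩)
  refine ⟨ULift.{u + 1} {x // x ∈ t},
    fun i => Over.mk (ULift.up (h i.down.1) : ULiftHom.objUp (W i.down.1) ⟶ U'),
    ⟨inferInstance, hU, fun i => hW _, ?_⟩, fun i => hT' _⟩
  rw [mem_J'_iff]
  intro x
  obtain ⟨x0, hx0t, w, hw⟩ : ∃ x0 ∈ t, x ∈ Set.range (h x0).left := by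
    simpa using ht (Set.mem_univ x)
  exact ⟨W x0, h x0, w, Sieve.ofArrows_mk _ _ (ULift.up ⟨x0, hx0t⟩ : ULift.{u + 1} {x // x ∈ t}), hw⟩

end Groth.Agent.Lib.Helper4.EtaleSmallSite
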