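import Groth.Agent.Lib.Helper4.TorsionSeq
import Groth.Agent.Lib.Helper4.EtaleSmallSite
import Groth.Prelude.Def_EtBase

/-!
# For a torsion abelian étale sheaf `F`, the colimit of `F →(1) F →(2) F →(3) ⋯` vanishes
-/

set_option autoImplicit false
open CategoryTheory CategoryTheory.Limits AlgebraicGeometry Opposite
universe u

namespace Groth.Agent.Lib.Helper4.EtTorsion

open Groth.Agent.Lib.Helper4.TorsionSeq Groth.Agent.Lib.Helper4.EtaleSmallSite

variable {X : Scheme.{u}}

lemma nsmul_app (F : EtCoh.Ab X) (N : ℕ) (V : X.Etaleᵒᵖ) (s : F.obj.obj V) :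
    (N • 𝟙 F : F ⟶ F).hom.app V s = N • s := by
  induction N with
  | zero =>
    rw [zero_smul, zero_smul]
    rfl
  | succ N ih =>
    rw [succ_nsmul, succ_nsmul, Sheaf.Hom.add_app]
    change (N • 𝟙 F : F ⟶ F).hom.app V s + s = _
    rw [ih]

theorem ι_eq_zero (F : EtCoh.Ab X) (hF : EtCoh.IsTorsion F) (m : ℕ) :
    colimit.ι (mulSeq F) m = 0 := by
  apply Sheaf.hom_ext
  ext U s
  set C := colimit (mulSeq F) with hC
  set t := (colimit.ι (mulSeq F) m).hom.app U s with ht
  change t = 0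
  let R : Sieve U.unop :=
    { arrows := fun Y g => C.obj.map g.op t = 0
      downward_closed := fun {Y Z g} hg h => by
        rw [op_comp, Functor.map_comp]
        change C.obj.map h.op (C.obj.map g.op t) = 0
        rw [hg, map_zero] }
  have hR : R ∈ X.smallEtaleTopology U.unop := by
    rw [mem_smallEtaleTopology_iff]
    intro x
    obtain ⟨V, g, ⟨v, hv⟩, hfin⟩ := hF U.unop s x
    refine ⟨V, g, v, ?_, hv⟩
    obtain ⟨k, hk, hks⟩ := isOfFinAddOrder_iff_nsmul_eq_zero.1 hfin
    obtain ⟨m', a, N, hN, hmap⟩ := exists_dvd_transition F m k hk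
    -- naturality
    have nat := congrArg (fun φ => φ s) (congrArg AddCommGrpCat.Hom.hom
      ((colimit.ι (mulSeq F) m).hom.naturality g.op))
    change C.obj.map g.op t = 0
    refine nat.symm.trans ?_
    have hw : colimit.ι (mulSeq F) m = (mulSeq F).map a ≫ colimit.ι (mulSeq F) m' :=
      (colimit.w (mulSeq F) a).symm
    rw [hw, hmap]
    change (colimit.ι (mulSeq F) m').hom.app (op V)
      ((N • 𝟙 F : F ⟶ F).hom.app (op V) (F.obj.map g.op s)) = 0
    rw [nsmul_app]
    obtain ⟨q, rfl⟩ := hN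
    rw [mul_comm, mul_smul, hks, smul_zero]
    exact map_zero ((colimit.ι (mulSeq F) m').hom.app (op V)).hom
  have h1 : Presieve.IsSheaf X.smallEtaleTopology (C.obj ⋙ forget AddCommGrpCat.{u + 1}) :=
    (isSheaf_iff_isSheaf_of_type _ _).1
      ((Presheaf.isSheaf_iff_isSheaf_forget _ C.obj (forget AddCommGrpCat.{u + 1})).1 C.property)
  have hsep := h1.isSeparated R hR
  refine hsep.ext (t₁ := t) (t₂ := (0 : C.obj.obj U)) (fun Y g hg => ?_)
  change C.obj.map g.op t = C.obj.map g.op 0
  rw [map_zero]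
  exact hg

theorem isZero_colimit (F : EtCoh.Ab X) (hF : EtCoh.IsTorsion F) :
    IsZero (colimit (mulSeq F)) := by
  rw [IsZero.iff_id_eq_zero]
  apply colimit.hom_ext
  intro m
  rw [ι_eq_zero F hF m, zero_comp, zero_comp]

end Groth.Agent.Lib.Helper4.EtTorsion
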