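import Groth.Agent.Lib.Helper4.OpenSite
import Groth.Agent.Lib.Helper3.EtaleLocalIsoSH

/-!
# Zariski-local vanishing of étale cohomology classes when the local rings are strictly henselian
-/

set_option autoImplicit false
open CategoryTheory CategoryTheory.Limits AlgebraicGeometry Opposite Abelian
universe u

namespace Groth.Agent.Lib.Helper4.OpenLV

open Groth.Agent.Lib.Helper4.EtaleSmallSite Groth.Agent.Lib.Helper4.EtaleTransfer
open Groth.Agent.Lib.Helper5 Groth.Agent.Lib.Helper4.EtMVSquare Groth.Agent.Lib.Helper4.OpenSite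
open Groth.Agent.Lib.Helper3

variable {X : Scheme.{u}}

set_option backward.isDefEq.respectTransparency.types false in
/-- If all local rings of `X` are strictly henselian, a cohomology class of positive degree on an
open `W` vanishes on a Zariski neighbourhood of any given point of `W`. -/
theorem exists_open_rs_eq_zero
    (hX : ∀ s : X, EtCoh.IsStrictlyHenselianLocalRing (X.presheaf.stalk s))
    (M : Sheaf (J' X) AddCommGrpCat.{u + 1}) (W : X.Opens) (n : ℕ)
    (x : Ext.{u + 1} (PW W) M (n + 1)) (p : X) (hp : p ∈ W) :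
    ∃ (W' : X.Opens) (h : W' ≤ W), p ∈ W' ∧ rs M h (n + 1) x = 0 := by
  obtain ⟨S, hS⟩ := Groth.Agent.S0483.result (J' X) M (oOf' W.ι) n x
  have hcov := S.2
  rw [mem_J'_iff] at hcov
  obtain ⟨Y, f, y, hf, hy⟩ := hcov (⟨p, hp⟩ : ↥W)
  let g : Y.left ⟶ X := Y.hom
  have : Etale g := Y.prop
  let fl : Y.left ⟶ W.toScheme := f.left
  have hfg : fl ≫ W.ι = g := by
    have := Over.w f.hom
    change fl ≫ 𝟙 _ ≫ W.ι = g at this
    rwa [Category.id_comp] at this
  have hgy : g y = p := by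
    rw [← hfg, Scheme.Hom.comp_apply]
    have : fl y = (⟨p, hp⟩ : ↥W) := hy
    rw [this]
    rfl
  obtain ⟨hH, hK⟩ := hX (g y)
  have : HenselianLocalRing (X.presheaf.stalk (g y)) := hH
  have : IsSepClosed (X.residueField (g y)) := hK
  obtain ⟨W₀, hyW, hW₀⟩ := EtaleLocalIsoSH.exists_opens_isOpenImmersion_of_henselian_stalk' g y
  let V : X.Opens := (W₀.ι ≫ g).opensRange
  let e : W₀.toScheme ≅ V.toScheme := (W₀.ι ≫ g).isoOpensRange
  have he : e.hom ≫ V.ι = W₀.ι ≫ g := (W₀.ι ≫ g).isoOpensRange_hom_ι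
  let m : oOf V.ι ⟶ Y := MorphismProperty.Over.homMk (e.inv ≫ W₀.ι) (by
    change (e.inv ≫ W₀.ι) ≫ g = 𝟙 _ ≫ V.ι
    rw [Category.assoc, ← he, Iso.inv_hom_id_assoc, Category.id_comp])
  have hVW : V ≤ W := by
    rintro v ⟨w, rfl⟩
    rw [← hfg, ← Category.assoc, Scheme.Hom.comp_apply]
    exact ((W₀.ι ≫ fl) w).2
  refine ⟨V, hVW, ⟨⟨y, hyW⟩, hgy⟩, ?_⟩
  have hfac : oLE hVW = (up m : oOf' V.ι ⟶ ULiftHom.objUp Y) ≫
      (ULift.up f : ULiftHom.objUp Y ⟶ oOf' W.ι) := hom_ext_open _ _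
  rw [rs_eq_res, hfac]
  exact hS ⟨_, (up m : oOf' V.ι ⟶ ULiftHom.objUp Y) ≫ (ULift.up f : ULiftHom.objUp Y ⟶ oOf' W.ι),
    S.1.downward_closed hf _⟩

end Groth.Agent.Lib.Helper4.OpenLV
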