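import Groth.Agent.Lib.Helper4.GabberInd
import Groth.Agent.Lib.Helper4.OpenLV

/-!
# Gabber's criterion on the small model: induction on the degree
-/

set_option autoImplicit false
open CategoryTheory CategoryTheory.Limits AlgebraicGeometry Opposite Abelian TopologicalSpace
universe u

namespace Groth.Agent.Lib.Helper4.GabberDeg

open Groth.Agent.Lib.Helper4.EtaleSmallSite Groth.Agent.Lib.Helper4.OpenSite
  Groth.Agent.Lib.Helper4.GabberInd Groth.Agent.Lib.Helper4.OpenLV

variable {X : Scheme.{u}}

lemma sup_eq (f g : Γ(X, ⊤)) :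
    X.basicOpen (f * (f + g)) ⊔ X.basicOpen (g * (f + g)) = X.basicOpen (f + g) := by
  apply le_antisymm (sup_le (le₁ f g) (le₂ f g))
  have h1 : X.basicOpen (f + g) = X.basicOpen (f * (f + g) + g * (f + g)) := by
    rw [← add_mul, X.basicOpen_mul, inf_idem]
  rw [h1]
  exact X.basicOpen_add_le _ _

lemma subsingleton_of_eq (M : Sheaf (J' X) AddCommGrpCat.{u + 1}) (n : ℕ) (k : Γ(X, ⊤))
    (hk : Subsingleton (Ext.{u + 1} (PW (X.basicOpen k)) M n)) (W : X.Opens)
    (e : W = X.basicOpen k) : Subsingleton (Ext.{u + 1} (PW W) M n) := by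
  subst e
  exact hk

/-- **Gabber's criterion** (small model): if all local rings of the affine scheme `X` are strictly
henselian and (K) holds in degree `1`, then the cohomology of all basic opens vanishes in positive
degrees. -/
theorem subsingleton_ext_basicOpen [IsAffine X]
    (hX : ∀ s : X, EtCoh.IsStrictlyHenselianLocalRing (X.presheaf.stalk s))
    (M : Sheaf (J' X) AddCommGrpCat.{u + 1}) (hK : HypK M 1) :
    ∀ (n : ℕ) (h : Γ(X, ⊤)), Subsingleton (Ext.{u + 1} (PW (X.basicOpen h)) M (n + 1)) := by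
  have hLV : ∀ n : ℕ, HypLV M (n + 1) := fun n W x p hp =>
    exists_open_rs_eq_zero hX M W n x p hp
  intro n
  induction n with
  | zero => exact fun h => subsingleton_basicOpen hK (hLV 0) h
  | succ n ih =>
    refine fun h => subsingleton_basicOpen ?_ (hLV (n + 1)) h
    intro f g x h₁ h₂
    refine mv_inj_succ M _ _ _ (le₁ f g) (le₂ f g) (sup_eq f g) (n + 1) ?_ x h₁ h₂
    exact subsingleton_of_eq M (n + 1) _ (ih (f * (f + g) * (g * (f + g)))) _
      (X.basicOpen_mul _ _).symm

end Groth.Agent.Lib.Helper4.GabberDeg
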