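import Groth.Agent.Lib.Helper4.OpenSite
import Mathlib.AlgebraicGeometry.AffineScheme
import Mathlib.RingTheory.Ideal.Span

/-!
# Gabber's induction: vanishing of cohomology on basic opens of an affine scheme

Let `X` be an affine scheme, `M` an abelian sheaf on (the small model of) its étale site and `n` a
degree.  Suppose
* (K) for all global functions `f, g`, a class in `Hⁿ⁺¹(D(f+g))` vanishing on `D(f(f+g))` and
  `D(g(f+g))` vanishes;
* (LV) classes in `Hⁿ⁺¹` of opens vanish Zariski-locally.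
Then `Hⁿ⁺¹(D(h)) = 0` for all `h`.
-/

set_option autoImplicit false
open CategoryTheory CategoryTheory.Limits AlgebraicGeometry Opposite Abelian TopologicalSpace
universe u

namespace Groth.Agent.Lib.Helper4.GabberInd

open Groth.Agent.Lib.Helper4.EtaleSmallSite Groth.Agent.Lib.Helper4.OpenSite

variable {X : Scheme.{u}}

/-- `D(f(f+g)) ≤ D(f+g)` -/
lemma le₁ (f g : Γ(X, ⊤)) : X.basicOpen (f * (f + g)) ≤ X.basicOpen (f + g) :=
  (X.basicOpen_mul f (f + g)).trans_le inf_le_right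

/-- `D(g(f+g)) ≤ D(f+g)` -/
lemma le₂ (f g : Γ(X, ⊤)) : X.basicOpen (g * (f + g)) ≤ X.basicOpen (f + g) :=
  (X.basicOpen_mul g (f + g)).trans_le inf_le_right

variable (M : Sheaf (J' X) AddCommGrpCat.{u + 1}) (n : ℕ)

/-- hypothesis (K) in degree `n` -/
def HypK : Prop :=
  ∀ (f g : Γ(X, ⊤)) (x : Ext.{u + 1} (PW (X.basicOpen (f + g))) M n),
    rs M (le₁ f g) n x = 0 → rs M (le₂ f g) n x = 0 → x = 0

/-- hypothesis (LV) in degree `n` -/
def HypLV : Prop :=
  ∀ (W : X.Opens) (x : Ext.{u + 1} (PW W) M n) (p : X), p ∈ W →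
    ∃ (W' : X.Opens) (h : W' ≤ W), p ∈ W' ∧ rs M h n x = 0

variable {M n}

/-- (K) with the opens as variables -/
lemma HypK.apply (hK : HypK M n) (f g : Γ(X, ⊤)) (W U V : X.Opens) (eW : W = X.basicOpen (f + g))
    (eU : U = X.basicOpen (f * (f + g))) (eV : V = X.basicOpen (g * (f + g)))
    (hU : U ≤ W) (hV : V ≤ W) (x : Ext.{u + 1} (PW W) M n)
    (h₁ : rs M hU n x = 0) (h₂ : rs M hV n x = 0) : x = 0 := by
  subst eW eU eV
  exact hK f g x h₁ h₂

lemma subsingleton_of_eq_bot (W : X.Opens) (e : W = ⊥) : Subsingleton (Ext.{u + 1} (PW W) M n) := by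
  subst e
  exact subsingleton_ext_bot M n

lemma rs_eq_zero_of_le {W₁ W₂ W : X.Opens} (h₁ : W₁ ≤ W) (h₂ : W₂ ≤ W) (h₁₂ : W₁ ≤ W₂)
    (x : Ext.{u + 1} (PW W) M n) (hx : rs M h₂ n x = 0) : rs M h₁ n x = 0 := by
  rw [← rs_rs M h₁₂ h₂, hx, map_zero]

/-- the induction on the number of elements of the covering -/
theorem eq_zero_of_finset (hK : HypK M n) (s : Finset Γ(X, ⊤)) :
    ∀ (h : Γ(X, ⊤)) (x : Ext.{u + 1} (PW (X.basicOpen h)) M n),
      (∀ a ∈ s, rs M (inf_le_left : X.basicOpen h ⊓ X.basicOpen a ≤ X.basicOpen h) n x = 0) →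
      h ∈ (Ideal.span (s : Set Γ(X, ⊤))).radical → x = 0 := by
  classical
  induction s using Finset.induction_on with
  | empty =>
    intro h x _ hh
    obtain ⟨N, hN⟩ := hh
    rw [Finset.coe_empty, Ideal.span_empty, Ideal.mem_bot] at hN
    have h0 : X.basicOpen h = ⊥ := by
      rw [← X.basicOpen_pow h (Nat.succ_pos N), pow_succ, hN, zero_mul, X.basicOpen_zero]
    have := subsingleton_of_eq_bot (M := M) (n := n) _ h0
    exact Subsingleton.elim _ _
  | insert a s ha ih =>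
    intro h x hx hh
    obtain ⟨N, hN⟩ := hh
    rw [Finset.coe_insert, Ideal.mem_span_insert] at hN
    obtain ⟨c, z, hz, hN⟩ := hN
    set f' : Γ(X, ⊤) := h * (c * a) with hf'
    set g' : Γ(X, ⊤) := h * z with hg'
    have hsum : f' + g' = h ^ (N + 1) := by
      rw [hf', hg', ← mul_add, ← hN, pow_succ, mul_comm]
    have eW : X.basicOpen h = X.basicOpen (f' + g') := by
      rw [hsum, X.basicOpen_pow h (Nat.succ_pos N)]
    have hU : X.basicOpen (f' * (f' + g')) ≤ X.basicOpen h := eW ▸ le₁ f' g'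
    have hV : X.basicOpen (g' * (f' + g')) ≤ X.basicOpen h := eW ▸ le₂ f' g'
    refine hK.apply f' g' _ _ _ eW rfl rfl hU hV x ?_ ?_
    · -- vanishing on `D(f'(f'+g'))`, contained in `D(h) ⊓ D(a)`
      have hle : X.basicOpen (f' * (f' + g')) ≤ X.basicOpen h ⊓ X.basicOpen a := by
        refine le_inf hU ?_
        rw [X.basicOpen_mul, hf', X.basicOpen_mul, X.basicOpen_mul]
        exact inf_le_left.trans (inf_le_right.trans inf_le_right)
      exact rs_eq_zero_of_le hU inf_le_left hle x (hx a (Finset.mem_insert_self a s))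
    · -- vanishing on `D(g'(f'+g'))`, by induction
      apply ih (g' * (f' + g')) (rs M hV n x)
      · intro b hb
        rw [rs_rs]
        have hle : X.basicOpen (g' * (f' + g')) ⊓ X.basicOpen b ≤ X.basicOpen h ⊓ X.basicOpen b :=
          inf_le_inf_right _ hV
        exact rs_eq_zero_of_le _ inf_le_left hle x (hx b (Finset.mem_insert_of_mem hb))
      · apply Ideal.le_radical
        exact Ideal.mul_mem_right _ _ (Ideal.mul_mem_left _ _ hz)

/-- a covering by basic opens gives membership in the radical -/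
lemma mem_radical_of_cover [IsAffine X] (h : Γ(X, ⊤)) (S : Set Γ(X, ⊤))
    (hc : ∀ p ∈ X.basicOpen h, ∃ a ∈ S, p ∈ X.basicOpen a) : h ∈ (Ideal.span S).radical := by
  rw [Ideal.radical_eq_sInf, Submodule.mem_sInf]
  rintro J ⟨hJ, hJp⟩
  by_contra hh
  have hU := isAffineOpen_top X
  let y : PrimeSpectrum Γ(X, ⊤) := ⟨J, hJp⟩
  have hy : y ∈ hU.fromSpec ⁻¹ᵁ X.basicOpen h := by
    rw [hU.fromSpec_preimage_basicOpen]
    exact hh
  obtain ⟨a, haS, ha⟩ := hc _ hy
  have hya : y ∈ hU.fromSpec ⁻¹ᵁ X.basicOpen a := ha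
  rw [hU.fromSpec_preimage_basicOpen] at hya
  exact hya (hJ (Ideal.subset_span haS))

/-- **Gabber's induction.** -/
theorem subsingleton_basicOpen [IsAffine X] (hK : HypK M n) (hLV : HypLV M n) (h : Γ(X, ⊤)) :
    Subsingleton (Ext.{u + 1} (PW (X.basicOpen h)) M n) := by
  classical
  constructor
  suffices H : ∀ x : Ext.{u + 1} (PW (X.basicOpen h)) M n, x = 0 by
    intro a b
    rw [H a, H b]
  intro x
  -- local vanishing, refined to basic opens
  have key : ∀ p : X, p ∈ X.basicOpen h → ∃ a : Γ(X, ⊤), p ∈ X.basicOpen a ∧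
      rs M (inf_le_left : X.basicOpen h ⊓ X.basicOpen a ≤ X.basicOpen h) n x = 0 := by
    intro p hp
    obtain ⟨W', hW', hpW', hx⟩ := hLV (X.basicOpen h) x p hp
    obtain ⟨_, ⟨a, rfl⟩, hpa, haW'⟩ := Opens.isBasis_iff_nbhd.1 (isBasis_basicOpen X) hpW'
    exact ⟨a, hpa, rs_eq_zero_of_le inf_le_left hW' (inf_le_right.trans haW') x hx⟩
  choose! a hpa hxa using key
  have hcomp : IsCompact (X.basicOpen h : Set X) :=
    ((isAffineOpen_top X).basicOpen h).isCompact
  obtain ⟨t, htsub, ht⟩ := hcomp.elim_finite_subcover_image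
    (b := (X.basicOpen h : Set X)) (c := fun p => (X.basicOpen (a p) : Set X))
    (fun p _ => (X.basicOpen (a p)).isOpen)
    (fun p hp => Set.mem_iUnion₂.2 ⟨p, hp, hpa p hp⟩)
  have htfin : t.Finite := ht.1
  refine eq_zero_of_finset hK (htfin.toFinset.image a) h x ?_ ?_
  · intro b hb
    obtain ⟨p, hp, rfl⟩ := Finset.mem_image.1 hb
    exact hxa p (htsub (htfin.mem_toFinset.1 hp))
  · apply mem_radical_of_cover
    intro p hp
    obtain ⟨q, hq, hpq⟩ := Set.mem_iUnion₂.1 (ht.2 hp)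
    exact ⟨a q, Finset.mem_coe.2 (Finset.mem_image_of_mem a (htfin.mem_toFinset.2 hq)), hpq⟩

end Groth.Agent.Lib.Helper4.GabberInd
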