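import Groth.Agent.Lib.Helper4.OpenSite
import Groth.Agent.Lib.Helper4.EtMVBridge
import Groth.Agent.Lib.Helper4.DeltaBridge
import Groth.Agent.S0101

/-!
# Comparison of `Hⁿ(W, F|_W)` with `Extⁿ(ℤ_W, Φ F)` for opens `W`, compatibly with restrictions
-/

set_option autoImplicit false
open CategoryTheory CategoryTheory.Limits AlgebraicGeometry Opposite Abelian
universe u

namespace Groth.Agent.Lib.Helper4.OpenBridge

open Groth.Agent.Lib.Helper4.EtaleSmallSite Groth.Agent.Lib.Helper4.EtaleTransfer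
  Groth.Agent.Lib.Helper5 Groth.Agent.Lib.Helper4.EtMVSquare Groth.Agent.Lib.Helper4.EtMVData
  Groth.Agent.Lib.Helper4.DeltaBridge Groth.Agent.Lib.Helper4.EtMVBridge
  Groth.Agent.Lib.Helper4.OpenSite

variable {X : Scheme.{u}}

instance instPFL (V : X.Opens) : PreservesFiniteLimits (EtCoh.pull V.ι) :=
  Groth.Agent.S0101.result _

instance instPIO (V : X.Opens) : (EtCoh.pull V.ι).PreservesInjectiveObjects :=
  Groth.Agent.Lib.Helper4.EtRestr.pull_preservesInjectives V.ι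

/-- the comparison `Extⁿ(ℤ_V, Φ F) ≃+ Hⁿ(V, F|_V)` for an open `V` -/
noncomputable def eO (V : X.Opens) (F : EtCoh.Ab X) (n : ℕ) :
    Ext.{u + 1} (PW V) ((Φ X).functor.obj F) n ≃+ EtCoh.H ↑V ((EtCoh.pull V.ι).obj F) n :=
  eqv (Φ X) (EtCoh.pull V.ι) (EtCoh.const ↑V ℤ) (PW V) (ξ V.ι) (fun f t => ξ_nat V.ι f t) F n

/-- **Compatibility of the comparison equivalences with restriction to a smaller open.** -/
theorem eO_rs {W' W : X.Opens} (h : W' ≤ W)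
    [PreservesFiniteLimits (EtCoh.pull (X.homOfLE h))] (F : EtCoh.Ab X) (n : ℕ)
    (x : Ext.{u + 1} (PW W) ((Φ X).functor.obj F) n) :
    eO W' F n (rs ((Φ X).functor.obj F) h n x) =
      EtCore.HpullVia (X.homOfLE h) W.ι W'.ι (X.homOfLE_ι h) F n (eO W F n x) := by
  have hmono : Mono (SiteCoh.freeMap (J' X) (up (toTop W.ι))) := by
    have := mono_up_toTop W.ι
    infer_instance
  exact eqv_via' (Φ X) (EtCoh.pull W'.ι) (EtCoh.pull W.ι) (EtCoh.pull (X.homOfLE h))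
    ((EtCore.pullComp _ W.ι).symm ≪≫ EtCore.pullCongr (X.homOfLE_ι h)).hom
    (EtCore.pullConst W'.ι ℤ).inv (EtCore.pullConst W.ι ℤ).inv
    (EtCore.pullConst (X.homOfLE h) ℤ).inv (pullConst_comp _ _ _ _)
    (iLE h) (SiteCoh.freeMap (J' X) (up (toTop W.ι)))
    (ξ W'.ι) (fun f t => ξ_nat W'.ι f t) (ξ W.ι) (fun f t => ξ_nat W.ι f t)
    (ξ₀ X) (fun f t => ξ₀_nat f t)
    (fun F f => by rw [iLE_toTop]; exact ξ_pullConst W'.ι F f)
    (ξ_pullConst W.ι) F n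
    (EtCore.HpullVia (X.homOfLE h) W.ι W'.ι (X.homOfLE_ι h) F n) (hs _ _ _ _ F n) x

/-- the comparison `Extⁿ(ℤ_X, Φ F) ≃+ Hⁿ(X, F)` -/
theorem nonempty_eqvTop (F : EtCoh.Ab X) (n : ℕ) :
    Nonempty (Ext.{u + 1} (SiteCoh.freeSheaf (J' X) (top' X)) ((Φ X).functor.obj F) n ≃+
      EtCoh.H X F n) :=
  ⟨eqvTop (Φ X) (EtCoh.const X ℤ) (SiteCoh.freeSheaf (J' X) (top' X)) (ξ₀ X)
    (fun f t => ξ₀_nat f t) F n⟩

end Groth.Agent.Lib.Helper4.OpenBridge
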