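import Groth.Agent.Lib.Helper4.EtMVData
import Groth.Agent.Lib.Helper4.FreeSheafSite
import Groth.Agent.S0483

/-!
# Opens of a scheme as objects of the small model of its étale site

For a scheme `X` and opens `W' ≤ W` we have objects `oOf' W.ι` of `C' X`, the inclusion
`oLE h : oOf' W'.ι ⟶ oOf' W.ι`, the free sheaves and the restriction maps `rs` on `Ext` groups.
For `U ⊔ V = W` there is a Mayer–Vietoris square, whence `mv_inj`.
-/

set_option autoImplicit false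
open CategoryTheory CategoryTheory.Limits AlgebraicGeometry Opposite Abelian
universe u

namespace Groth.Agent.Lib.Helper4.OpenSite

open Groth.Agent.Lib.Helper4.EtaleSmallSite Groth.Agent.Lib.Helper4.EtaleTransfer
open Groth.Agent.Lib.Helper5 Groth.Agent.Lib.Helper4.EtMVSquare

variable {X : Scheme.{u}}

/-- any two maps into an open subscheme agree -/
lemma hom_ext_open {A : C' X} {W : X.Opens} (a b : A ⟶ oOf' W.ι) : a = b := by
  have := mono_up_toTop W.ι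
  rw [← cancel_mono (up (toTop W.ι))]
  exact (top'IsTerminal X).hom_ext _ _

/-- the inclusion of opens, in the small model -/
noncomputable def oLE {W' W : X.Opens} (h : W' ≤ W) : oOf' W'.ι ⟶ oOf' W.ι :=
  up (oMap (X.homOfLE h) W.ι W'.ι (X.homOfLE_ι h))

lemma oLE_comp {W'' W' W : X.Opens} (h₁ : W'' ≤ W') (h₂ : W' ≤ W) :
    oLE h₁ ≫ oLE h₂ = oLE (h₁.trans h₂) := hom_ext_open _ _

lemma oLE_refl (W : X.Opens) : oLE (le_refl W) = 𝟙 _ := hom_ext_open _ _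

instance mono_oLE {W' W : X.Opens} (h : W' ≤ W) : Mono (oLE h) :=
  ⟨fun _ _ _ => hom_ext_open _ _⟩

/-- the free sheaf on an open -/
noncomputable abbrev PW (W : X.Opens) : Sheaf (J' X) AddCommGrpCat.{u + 1} :=
  SiteCoh.freeSheaf (J' X) (oOf' W.ι)

/-- the inclusion of free sheaves -/
noncomputable def iLE {W' W : X.Opens} (h : W' ≤ W) : PW W' ⟶ PW W :=
  SiteCoh.freeMap (J' X) (oLE h)

lemma iLE_comp {W'' W' W : X.Opens} (h₁ : W'' ≤ W') (h₂ : W' ≤ W) :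
    iLE h₁ ≫ iLE h₂ = iLE (h₁.trans h₂) := by
  unfold iLE
  rw [← freeMap_comp, oLE_comp]

lemma freeMap_id {C : Type (u + 1)} [SmallCategory C] (J : GrothendieckTopology C) (A : C) :
    SiteCoh.freeMap J (𝟙 A) = 𝟙 _ := by
  unfold SiteCoh.freeMap
  rw [yoneda.map_id]
  have : Functor.whiskerRight (𝟙 (yoneda.obj A)) AddCommGrpCat.free.{u + 1} = 𝟙 _ := by
    ext
    simp
  rw [this]
  exact (presheafToSheaf J AddCommGrpCat.{u + 1}).map_id _

lemma iLE_refl (W : X.Opens) : iLE (le_refl W) = 𝟙 _ := by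
  unfold iLE
  rw [oLE_refl, freeMap_id]

instance mono_iLE {W' W : X.Opens} (h : W' ≤ W) : Mono (iLE h) := by
  unfold iLE
  infer_instance

lemma iLE_toTop {W' W : X.Opens} (h : W' ≤ W) :
    iLE h ≫ SiteCoh.freeMap (J' X) (up (toTop W.ι)) = SiteCoh.freeMap (J' X) (up (toTop W'.ι)) := by
  unfold iLE
  rw [← freeMap_comp]
  congr 1
  exact (top'IsTerminal X).hom_ext _ _

variable (M : Sheaf (J' X) AddCommGrpCat.{u + 1})

/-- restriction of cohomology classes along an inclusion of opens -/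
noncomputable def rs {W' W : X.Opens} (h : W' ≤ W) (n : ℕ) :
    Ext.{u + 1} (PW W) M n →+ Ext.{u + 1} (PW W') M n :=
  (Ext.mk₀ (iLE h)).precomp M (zero_add n)

lemma rs_apply {W' W : X.Opens} (h : W' ≤ W) (n : ℕ) (x : Ext.{u + 1} (PW W) M n) :
    rs M h n x = (Ext.mk₀ (iLE h)).comp x (zero_add n) := rfl

lemma rs_rs {W'' W' W : X.Opens} (h₁ : W'' ≤ W') (h₂ : W' ≤ W) (n : ℕ)
    (x : Ext.{u + 1} (PW W) M n) : rs M h₁ n (rs M h₂ n x) = rs M (h₁.trans h₂) n x := by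
  rw [rs_apply, rs_apply, rs_apply,
    ← Ext.comp_assoc (Ext.mk₀ (iLE h₁)) (Ext.mk₀ (iLE h₂)) x (zero_add 0) (zero_add n) (by omega),
    Ext.mk₀_comp_mk₀, iLE_comp]

lemma rs_refl (W : X.Opens) (n : ℕ) (x : Ext.{u + 1} (PW W) M n) : rs M (le_refl W) n x = x := by
  rw [rs_apply, iLE_refl, Ext.mk₀_id_comp]

lemma rs_injective_of_eq {W' W : X.Opens} (e : W' = W) (h : W' ≤ W) (n : ℕ) :
    Function.Injective (rs M h n) := by
  subst e
  intro x y hxy
  rwa [rs_refl, rs_refl] at hxy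

/-- the relation with `CohSite.res` -/
lemma rs_eq_res {W' W : X.Opens} (h : W' ≤ W) (n : ℕ) (x : Ext.{u + 1} (PW W) M n) :
    rs M h n x = CohSite.res M n (oLE h) x := rfl

/-! ### the Mayer–Vietoris square -/

section MV

variable (U V W : X.Opens) (hU : U ≤ W) (hV : V ≤ W)

lemma isPullback_open :
    IsPullback (oMap (X.homOfLE inf_le_left) U.ι (U ⊓ V).ι (X.homOfLE_ι _))
      (oMap (X.homOfLE inf_le_right) V.ι (U ⊓ V).ι (X.homOfLE_ι _))
      (oMap (X.homOfLE hU) W.ι U.ι (X.homOfLE_ι _))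
      (oMap (X.homOfLE hV) W.ι V.ι (X.homOfLE_ι _)) := by
  apply IsPullback.of_map (Scheme.Etale.forget X ⋙ Over.forget X)
  · apply ULift.up_injective
    exact hom_ext_open (W := W) (up _) (up _)
  · exact isPullback_opens_inf_le hU hV

/-- the square -/
noncomputable def sqW : Square (C' X) where
  X₁ := oOf' (U ⊓ V).ι
  X₂ := oOf' U.ι
  X₃ := oOf' V.ι
  X₄ := oOf' W.ι
  f₁₂ := oLE inf_le_left
  f₁₃ := oLE inf_le_right
  f₂₄ := oLE hU
  f₃₄ := oLE hV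
  fac := hom_ext_open _ _

instance : Mono (sqW U V W hU hV).f₂₄ := mono_oLE hU
instance : Mono (sqW U V W hU hV).f₃₄ := mono_oLE hV

lemma sqW_isPullback : (sqW U V W hU hV).IsPullback :=
  (isPullback_open U V W hU hV).map (eqv X).functor

lemma sqW_cover (hUV : U ⊔ V = W) :
    Sieve.ofTwoArrows (sqW U V W hU hV).f₂₄ (sqW U V W hU hV).f₃₄ ∈
      J' X (sqW U V W hU hV).X₄ := by
  rw [mem_J'_iff]
  intro (x : ↥W)
  have hx : (x : X) ∈ U ⊔ V := by rw [hUV]; exact x.2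
  rcases hx with hx | hx
  · refine ⟨oOf U.ι, oMap (X.homOfLE hU) W.ι U.ι (X.homOfLE_ι _), (⟨x.1, hx⟩ : ↥U),
      Sieve.ofArrows_mk _ _ WalkingPair.left, ?_⟩
    exact Subtype.ext (X.homOfLE_apply hU ⟨x.1, hx⟩)
  · refine ⟨oOf V.ι, oMap (X.homOfLE hV) W.ι V.ι (X.homOfLE_ι _), (⟨x.1, hx⟩ : ↥V),
      Sieve.ofArrows_mk _ _ WalkingPair.right, ?_⟩
    exact Subtype.ext (X.homOfLE_apply hV ⟨x.1, hx⟩)

/-- the Mayer–Vietoris square attached to `U ⊔ V = W` -/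
noncomputable def mvSquareW (hUV : U ⊔ V = W) : (J' X).MayerVietorisSquare :=
  GrothendieckTopology.MayerVietorisSquare.mk_of_isPullback (J := J' X) (sqW U V W hU hV)
    (sqW_isPullback U V W hU hV) (sqW_cover U V W hU hV hUV)

open Groth.Agent.Lib.Helper4.DeltaMVAbs in
lemma mvW_zero (hUV : U ⊔ V = W) :
    biprod.lift (iLE (inf_le_left : U ⊓ V ≤ U)) (-iLE (inf_le_right : U ⊓ V ≤ V)) ≫
      biprod.desc (iLE hU) (iLE hV) = 0 :=
  (mvSquareW U V W hU hV hUV).shortComplex.zero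

open Groth.Agent.Lib.Helper4.DeltaMVAbs in
lemma mvW_shortExact (hUV : U ⊔ V = W) :
    (mvSC (iLE (inf_le_left : U ⊓ V ≤ U)) (iLE (inf_le_right : U ⊓ V ≤ V)) (iLE hU) (iLE hV)
      (mvW_zero U V W hU hV hUV)).ShortExact :=
  (mvSquareW U V W hU hV hUV).shortComplex_shortExact

open Groth.Agent.Lib.Helper4.DeltaMVAbs in
/-- **Mayer–Vietoris injectivity**: if `Hⁿ(U ∩ V) = 0`, a class in `Hⁿ⁺¹(W)` vanishing on `U`
and `V` vanishes. -/
theorem mv_inj_succ (hUV : U ⊔ V = W) (n : ℕ)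
    (h0 : Subsingleton (Ext.{u + 1} (PW (U ⊓ V)) M n)) (x : Ext.{u + 1} (PW W) M (n + 1))
    (h₂ : rs M hU (n + 1) x = 0) (h₃ : rs M hV (n + 1) x = 0) : x = 0 := by
  obtain ⟨z, rfl⟩ := mv_exact₃ (iLE (inf_le_left : U ⊓ V ≤ U)) (iLE (inf_le_right : U ⊓ V ≤ V))
    (iLE hU) (iLE hV) (mvW_zero U V W hU hV hUV) (mvW_shortExact U V W hU hV hUV) M n x h₂ h₃
  rw [Subsingleton.elim z 0, map_zero]

end MV

/-! ### the empty open -/

lemma bot_mem_J' : (⊥ : Sieve (oOf' (⊥ : X.Opens).ι)) ∈ J' X (oOf' (⊥ : X.Opens).ι) := by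
  rw [mem_J'_iff]
  intro (x : ↥(⊥ : X.Opens))
  exact (x.2 : (x : X) ∈ (⊥ : X.Opens)).elim

lemma isZero_PW_bot : IsZero (PW (⊥ : X.Opens)) := by
  rw [IsZero.iff_id_eq_zero]
  apply (SiteCoh.βAdd (oOf' (⊥ : X.Opens).ι) (PW (⊥ : X.Opens))).injective
  have hT := Sheaf.isTerminalOfBotCover (PW (⊥ : X.Opens)) (oOf' (⊥ : X.Opens).ι) bot_mem_J'
  have : Subsingleton ((PW (⊥ : X.Opens)).obj.obj (op (oOf' (⊥ : X.Opens).ι))) :=
    AddCommGrpCat.subsingleton_of_isZero hT.isZero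
  exact Subsingleton.elim _ _

lemma subsingleton_ext_bot (n : ℕ) : Subsingleton (Ext.{u + 1} (PW (⊥ : X.Opens)) M n) := by
  constructor
  intro a b
  have h : ∀ x : Ext.{u + 1} (PW (⊥ : X.Opens)) M n, x = 0 := fun x => by
    have h1 : x = (Ext.mk₀ (𝟙 (PW (⊥ : X.Opens)))).comp x (zero_add n) := (Ext.mk₀_id_comp x).symm
    rw [h1, isZero_PW_bot.eq_of_src (𝟙 _) 0, Ext.mk₀_zero, Ext.zero_comp]
  rw [h a, h b]

end Groth.Agent.Lib.Helper4.OpenSite

namespace Groth.Agent.Lib.Helper4.OpenSite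

open Groth.Agent.Lib.Helper4.EtaleSmallSite Groth.Agent.Lib.Helper4.EtaleTransfer
open Groth.Agent.Lib.Helper5 Groth.Agent.Lib.Helper4.EtMVSquare

variable {X : Scheme.{u}}

/-- the map from the terminal object to the open `⊤` -/
noncomputable def fromTop : top' X ⟶ oOf' (⊤ : X.Opens).ι :=
  up (MorphismProperty.Over.homMk X.topIso.inv (by
    change X.topIso.inv ≫ 𝟙 _ ≫ (⊤ : X.Opens).ι = 𝟙 X
    rw [Category.id_comp, Scheme.toIso_inv_ι]) trivial)

lemma fromTop_toTop : fromTop ≫ up (toTop (⊤ : X.Opens).ι) = 𝟙 (top' X) :=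
  (top'IsTerminal X).hom_ext _ _

lemma toTop_fromTop : up (toTop (⊤ : X.Opens).ι) ≫ fromTop = 𝟙 (oOf' (⊤ : X.Opens).ι) :=
  hom_ext_open _ _

/-- if `Hⁿ` of the open `⊤` vanishes then so does `Hⁿ` of the terminal object -/
lemma subsingleton_ext_top' (M : Sheaf (J' X) AddCommGrpCat.{u + 1}) (n : ℕ)
    (h : Subsingleton (Ext.{u + 1} (PW (⊤ : X.Opens)) M n)) :
    Subsingleton (Ext.{u + 1} (SiteCoh.freeSheaf (J' X) (top' X)) M n) := by
  constructor
  suffices H : ∀ y : Ext.{u + 1} (SiteCoh.freeSheaf (J' X) (top' X)) M n, y = 0 by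
    intro a b
    rw [H a, H b]
  intro y
  have h1 : SiteCoh.freeMap (J' X) (fromTop (X := X)) ≫
      SiteCoh.freeMap (J' X) (up (toTop (⊤ : X.Opens).ι)) = 𝟙 _ := by
    rw [← freeMap_comp, fromTop_toTop, freeMap_id]
  have h2 : y = (Ext.mk₀ (SiteCoh.freeMap (J' X) (fromTop (X := X)))).comp
      ((Ext.mk₀ (SiteCoh.freeMap (J' X) (up (toTop (⊤ : X.Opens).ι)))).comp y (zero_add n))
      (zero_add n) := by
    rw [← Ext.comp_assoc _ _ y (zero_add 0) (zero_add n) (by omega), Ext.mk₀_comp_mk₀, h1,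
      Ext.mk₀_id_comp]
  rw [h2, Subsingleton.elim ((Ext.mk₀ (SiteCoh.freeMap (J' X)
    (up (toTop (⊤ : X.Opens).ι)))).comp y (zero_add n)) 0, Ext.comp_zero]

end Groth.Agent.Lib.Helper4.OpenSite
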