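import Mathlib.CategoryTheory.Sites.Limits
import Mathlib.CategoryTheory.Sites.LocallyBijective
import Mathlib.CategoryTheory.Sites.Localization
import Mathlib.CategoryTheory.Sites.Abelian
import Mathlib.Algebra.Category.Grp.FilteredColimits
import Mathlib.Algebra.Category.Grp.AB
import Mathlib.CategoryTheory.Sites.ConcreteSheafification

/-!
# A cocone of abelian presheaves which is locally a colimit becomes a colimit after sheafification
-/

universe u

open CategoryTheory Limits Opposite

namespace Groth.Agent.Lib.Helper4.SheafifyLocalColimit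

variable {D : Type u} [SmallCategory D] (K : GrothendieckTopology D)
variable {Λ : Type u} [SmallCategory Λ] {G : Λ ⥤ (Dᵒᵖ ⥤ AddCommGrpCat.{u})}

/-- the comparison map from the presheaf colimit -/
noncomputable abbrev δ (c₁ : Cocone G) : colimit G ⟶ c₁.pt := colimit.desc G c₁

/-- the comparison as a morphism of cocones -/
noncomputable def δHom (c₁ : Cocone G) : colimit.cocone G ⟶ c₁ where
  hom := δ c₁
  w _ := colimit.ι_desc _ _

lemma isIso_δ_app (c₁ : Cocone G) (Y : D)
    (h : IsColimit (((evaluation Dᵒᵖ AddCommGrpCat.{u}).obj (op Y)).mapCocone c₁)) :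
    IsIso ((δ c₁).app (op Y)) := by
  have h₀ : IsColimit (((evaluation Dᵒᵖ AddCommGrpCat.{u}).obj (op Y)).mapCocone
      (colimit.cocone G)) := isColimitOfPreserves _ (colimit.isColimit G)
  have := IsColimit.hom_isIso h₀ h
    ((Cocone.functoriality G ((evaluation Dᵒᵖ AddCommGrpCat.{u}).obj (op Y))).map (δHom c₁))
  exact inferInstanceAs (IsIso ((Cocone.forget _).map
    ((Cocone.functoriality G ((evaluation Dᵒᵖ AddCommGrpCat.{u}).obj (op Y))).map (δHom c₁))))

/-- **Sheafification of a locally-colimit cocone is a colimit.** -/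
theorem isColimit_sheafify_of_locally (c₁ : Cocone G)
    (h : ∀ V : D, ∃ (κ : Type u) (Y : κ → D) (g : ∀ k, Y k ⟶ V), Sieve.ofArrows Y g ∈ K V ∧
      ∀ k, Nonempty (IsColimit
        (((evaluation Dᵒᵖ AddCommGrpCat.{u}).obj (op (Y k))).mapCocone c₁))) :
    Nonempty (IsColimit ((presheafToSheaf K AddCommGrpCat.{u}).mapCocone c₁)) := by
  have hbij : ∀ V : D, ∃ (κ : Type u) (Y : κ → D) (g : ∀ k, Y k ⟶ V),
      Sieve.ofArrows Y g ∈ K V ∧ ∀ k, Function.Bijective ((δ c₁).app (op (Y k))) := by
    intro V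
    obtain ⟨κ, Y, g, hg, hY⟩ := h V
    refine ⟨κ, Y, g, hg, fun k => ?_⟩
    obtain ⟨hk⟩ := hY k
    have := isIso_δ_app c₁ (Y k) hk
    exact ConcreteCategory.bijective_of_isIso ((δ c₁).app (op (Y k)))
  have hinj : Presheaf.IsLocallyInjective K (δ c₁) := by
    refine ⟨fun {X} x y hxy => ?_⟩
    obtain ⟨κ, Y, g, hg, hY⟩ := hbij X.unop
    refine K.superset_covering ((Sieve.generate_le_iff _ _).2 ?_) hg
    rintro W f ⟨k⟩
    change (colimit G).map (g k).op x = (colimit G).map (g k).op y
    apply (hY k).1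
    rw [NatTrans.naturality_apply (δ c₁) (g k).op x, NatTrans.naturality_apply (δ c₁) (g k).op y,
      hxy]
  have hsurj : Presheaf.IsLocallySurjective K (δ c₁) := by
    refine ⟨fun {V} s => ?_⟩
    obtain ⟨κ, Y, g, hg, hY⟩ := hbij V
    refine K.superset_covering ((Sieve.generate_le_iff _ _).2 ?_) hg
    rintro W f ⟨k⟩
    obtain ⟨t, ht⟩ := (hY k).2 (c₁.pt.map (g k).op s)
    exact ⟨t, ht⟩
  have hW : K.W (δ c₁) := K.W_of_isLocallyBijective (δ c₁)
  have hiso : IsIso ((presheafToSheaf K AddCommGrpCat.{u}).map (δ c₁)) := (K.W_iff _).1 hW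
  have h₀ : IsColimit ((presheafToSheaf K AddCommGrpCat.{u}).mapCocone (colimit.cocone G)) :=
    isColimitOfPreserves _ (colimit.isColimit G)
  have hisoc : IsIso ((Cocone.functoriality G (presheafToSheaf K AddCommGrpCat.{u})).map
      (δHom c₁)) := by
    haveI : IsIso ((Cocone.functoriality G (presheafToSheaf K AddCommGrpCat.{u})).map
      (δHom c₁)).hom := hiso
    exact Cocone.cocone_iso_of_hom_iso _
  exact ⟨IsColimit.ofIsoColimit h₀
    (asIso ((Cocone.functoriality G (presheafToSheaf K AddCommGrpCat.{u})).map (δHom c₁)))⟩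

/-- Instance form: if `H ⋙ ev_{Y}` preserves the colimit of `F` for the members `Y` of coverings
of every object, then `H ⋙ sheafification` preserves the colimit of `F`. -/
theorem preservesColimit_comp_sheafify_of_locally {A : Type*} [Category A] (F : Λ ⥤ A)
    (H : A ⥤ Dᵒᵖ ⥤ AddCommGrpCat.{u})
    (h : ∀ V : D, ∃ (κ : Type u) (Y : κ → D) (g : ∀ k, Y k ⟶ V), Sieve.ofArrows Y g ∈ K V ∧
      ∀ k, PreservesColimit F (H ⋙ (evaluation Dᵒᵖ AddCommGrpCat.{u}).obj (op (Y k)))) :
    PreservesColimit F (H ⋙ presheafToSheaf K AddCommGrpCat.{u}) := by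
  constructor
  intro c hc
  exact isColimit_sheafify_of_locally K (H.mapCocone c) (fun V => by
    obtain ⟨κ, Y, g, hg, hY⟩ := h V
    exact ⟨κ, Y, g, hg, fun k => (hY k).preserves hc⟩)

end Groth.Agent.Lib.Helper4.SheafifyLocalColimit
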