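import Mathlib.Topology.Spectral.Basic
import Mathlib.Topology.QuasiSeparated
import Mathlib.Topology.Sober

/-! Closed subspaces of spectral spaces are spectral. -/

set_option autoImplicit false
universe u

namespace Groth.Agent.Lib.Helper4

open Topology TopologicalSpace

/-- A closed subspace of a quasi-separated prespectral space is quasi-separated. -/
theorem quasiSeparatedSpace_of_isClosedEmbedding {X Y : Type*} [TopologicalSpace X]
    [TopologicalSpace Y] [PrespectralSpace Y] [QuasiSeparatedSpace Y] {f : X → Y}
    (hf : IsClosedEmbedding f) : QuasiSeparatedSpace X := by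
  have basis := (PrespectralSpace.isTopologicalBasis (X := Y)).isInducing hf.isInducing
  let ι := {U : Set Y // IsOpen U ∧ IsCompact U}
  let b : ι → Set X := fun U => f ⁻¹' U.1
  have hb : Set.range b = Set.image (Set.preimage f) {U : Set Y | IsOpen U ∧ IsCompact U} := by
    ext s
    constructor
    · rintro ⟨U, rfl⟩
      exact ⟨U.1, U.2, rfl⟩
    · rintro ⟨U, hU, rfl⟩
      exact ⟨⟨U, hU⟩, rfl⟩
  refine QuasiSeparatedSpace.of_isTopologicalBasis (b := b) (hb ▸ basis) ?_
  intro U V
  have : b U ∩ b V = f ⁻¹' (U.1 ∩ V.1) := rfl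
  rw [this]
  exact hf.isCompact_preimage (U.2.2.inter_of_isOpen V.2.2 U.2.1 V.2.1)

/-- A closed subspace of a spectral space is spectral. -/
theorem spectralSpace_of_isClosedEmbedding {X Y : Type*} [TopologicalSpace X]
    [TopologicalSpace Y] [SpectralSpace Y] {f : X → Y}
    (hf : IsClosedEmbedding f) : SpectralSpace X where
  __ := hf.quasiSober
  __ := PrespectralSpace.of_isClosedEmbedding f hf
  __ := quasiSeparatedSpace_of_isClosedEmbedding hf
  __ := hf.isEmbedding.t0Space
  __ := hf.compactSpace

end Groth.Agent.Lib.Helper4
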